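import Mathlib
import Cfsg.Prelude.Def_OddOrderLocal
import Cfsg.Agent.Lib.helper31.BenderInv4
import Cfsg.Agent.Lib.helper31.FHT2
import Cfsg.Agent.Lib.helper67.ZJeGT
import Cfsg.Agent.Lib.helper13.ThompsonQuot
import Cfsg.Agent.Lib.helper29.Trans4
import Cfsg.Agent.Lib.helper27.LBalance3
import Cfsg.Agent.Lib.helper65.Fitting
import Cfsg.Agent.Lib.helper54.CharP
import Cfsg.Agent.Lib.helper54.SylowAux
import Cfsg.Agent.S1458

/-!
# Plumbing for the Bender–Glauberman uniqueness chain (helper54)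

* `ua_cent_fitting_le` : `M ⊓ C_G(F(M)) ≤ F(M)` for solvable `M`
* `ua_zj_map`, `ua_zj_ne_bot`, `ua_zj_le`, `ua_normalizer_le_normalizer_zj` : `Z(J(R))` inside `G`
* `ua_le_normalizer_zj` : `O_{p'}(H) = 1` gives `H ≤ N_G(Z(J(S)))`
* `ua_sylow_max` : a Sylow subgroup of `M` whose `G`-normalizer lies in `M` is a maximal `p`-subgroup
* `ua_uniq_of_zj` : the uniqueness induction
-/

set_option autoImplicit false
set_option linter.style.haveILetI false

namespace Cfsg.Agent.Lib.helper54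

open Cfsg Cfsg.Agent.Lib.helper31

variable {G : Type*} [Group G]

/-- `M ⊓ C_G(F(M)) ≤ F(M)` for solvable `M`. -/
theorem ua_cent_fitting_le [Finite G] (M : Subgroup G) (hM : Group.IsSolvable M) :
    M ⊓ Subgroup.centralizer (fittingOf M : Set G) ≤ fittingOf M := by
  rintro x ⟨hxM, hxC⟩
  have key := Cfsg.Agent.Lib.helper27.solvable_le_center_fitting (G := ↥M)
    (Subgroup.centralizer (Cfsg.fittingSubgroup ↥M : Set ↥M)) le_rfl Subgroup.le_normalizer
    inferInstance
  have hx : (⟨x, hxM⟩ : ↥M) ∈ Subgroup.centralizer (Cfsg.fittingSubgroup ↥M : Set ↥M) := by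
    rw [Subgroup.mem_centralizer_iff]
    intro y hy
    apply Subtype.ext
    exact (Subgroup.mem_centralizer_iff.mp hxC) (y : G) ⟨y, hy, rfl⟩
  exact ⟨⟨x, hxM⟩, (key hx).1, rfl⟩

/-- transport of `Z(J(S))` from a subgroup to the ambient group -/
theorem ua_zj_map [Finite G] (p : ℕ) (H : Subgroup G) (S : Subgroup ↥H) :
    centerThompsonOf p (S.map H.subtype) = (centerThompsonOf p S).map H.subtype := by
  unfold centerThompsonOf
  rw [Cfsg.Agent.Lib.helper13.thompsonSubgroupOf_map_of_injOn H.subtype S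
    (H.subtype_injective.injOn)]
  ext x
  constructor
  · rintro ⟨⟨y, hy, rfl⟩, hc⟩
    refine ⟨y, ⟨hy, Subgroup.mem_centralizer_iff.mpr ?_⟩, rfl⟩
    intro z hz
    apply Subtype.ext
    exact (Subgroup.mem_centralizer_iff.mp hc) (z : G) ⟨z, hz, rfl⟩
  · rintro ⟨y, ⟨hy, hc⟩, rfl⟩
    refine ⟨⟨y, hy, rfl⟩, Subgroup.mem_centralizer_iff.mpr ?_⟩
    rintro _ ⟨z, hz, rfl⟩
    exact congrArg Subtype.val ((Subgroup.mem_centralizer_iff.mp hc) z hz)

theorem ua_zj_le (p : ℕ) (R : Subgroup G) : centerThompsonOf p R ≤ R := by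
  rw [Cfsg.Agent.Lib.helper67.centerThompsonOf_eq_zJ]
  exact Cfsg.Agent.Lib.helper67.zJ_le p R

theorem ua_normalizer_le_normalizer_zj (p : ℕ) (R : Subgroup G) :
    Subgroup.normalizer (R : Set G) ≤ Subgroup.normalizer (centerThompsonOf p R : Set G) := by
  rw [Cfsg.Agent.Lib.helper67.centerThompsonOf_eq_zJ]
  exact Cfsg.Agent.Lib.helper67.normalizer_le_normalizer_zJ p R

theorem ua_zj_ne_bot [Finite G] {p : ℕ} [Fact p.Prime] {R : Subgroup G} (hR : IsPGroup p R)
    (hne : R ≠ ⊥) : centerThompsonOf p R ≠ ⊥ := by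
  rw [← Cfsg.Agent.Lib.helper67.inducedFunctor_zjeFunctor]
  unfold Cfsg.inducedFunctor
  haveI : Nontrivial ↥R := (Subgroup.nontrivial_iff_ne_bot R).mpr hne
  intro h
  rw [Subgroup.map_eq_bot_iff_of_injective _ R.subtype_injective] at h
  exact Cfsg.Agent.Lib.helper67.zjeFunctor_ne_bot p ↥R hR h

/-- if `O_{p'}(H) = 1` for a solvable `H` of odd order then `H` normalizes `Z(J(S))`. -/
theorem ua_le_normalizer_zj [Finite G] {p : ℕ} [Fact p.Prime] (H : Subgroup G)
    (hH : Group.IsSolvable H) (hodd : Odd (Nat.card H)) (hO : pPrimeCore p ↥H = ⊥)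
    (S : Sylow p ↥H) :
    H ≤ Subgroup.normalizer
      (centerThompsonOf p ((S : Subgroup ↥H).map H.subtype) : Set G) := by
  haveI := hH
  have h := Cfsg.Agent.S1458.result (G := ↥H) hodd p S
  rw [hO, sup_bot_eq] at h
  rw [ua_zj_map]
  haveI := h
  exact Cfsg.Agent.Lib.helper27.le_normalizer_map_subtype_of_normal H _

/-- a Sylow subgroup of `M` whose `G`-normalizer lies in `M` is a maximal `p`-subgroup of `G`. -/
theorem ua_sylow_max [Finite G] {p : ℕ} [Fact p.Prime] (M : Subgroup G) (P : Sylow p ↥M)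
    (hN : Subgroup.normalizer (((P : Subgroup ↥M).map M.subtype : Subgroup G) : Set G) ≤ M) :
    ∀ T : Subgroup G, IsPGroup p T → (P : Subgroup ↥M).map M.subtype ≤ T →
      T = (P : Subgroup ↥M).map M.subtype := by
  intro T hT hle
  by_contra hne
  have hlt : (P : Subgroup ↥M).map M.subtype < T := lt_of_le_of_ne hle (Ne.symm hne)
  have h1 := bi_lt_inf_normalizer_of_lt hT.isNilpotent hlt
  set T₁ := T ⊓ Subgroup.normalizer (((P : Subgroup ↥M).map M.subtype : Subgroup G) : Set G)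
    with hT₁
  have hT₁M : T₁ ≤ M := inf_le_right.trans hN
  have hT₁p : IsPGroup p T₁ := hT.to_le inf_le_left
  have h2 : IsPGroup p (T₁.subgroupOf M) :=
    hT₁p.comap_of_injective M.subtype M.subtype_injective
  have h3 : (P : Subgroup ↥M) ≤ T₁.subgroupOf M := by
    intro y hy
    rw [Subgroup.mem_subgroupOf]
    exact h1.le ⟨y, hy, rfl⟩
  have h4 := P.is_maximal' h2 h3
  have h5 : T₁ = (P : Subgroup ↥M).map M.subtype := by
    rw [← h4, Subgroup.map_subgroupOf_eq_of_le hT₁M]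
  exact h1.ne h5.symm

theorem ua_not_dvd_index_of_max [Finite G] {p : ℕ} [Fact p.Prime] {P : Subgroup G}
    (hP : IsPGroup p P) (hmax : ∀ T : Subgroup G, IsPGroup p T → P ≤ T → T = P) :
    ¬ p ∣ P.index := by
  let S : Sylow p G := ⟨P, hP, fun {Q} hQ hle => hmax Q hQ hle⟩
  exact S.not_dvd_index

end Cfsg.Agent.Lib.helper54
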