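import Cfsg.Agent.Lib.helper54.UniqA
import Cfsg.Agent.Lib.helper29.Trans3
import Cfsg.Agent.Lib.helper1.Coprime
import Cfsg.Agent.S1393
import Cfsg.Agent.S1395
import Cfsg.Agent.S1442

/-!
# Bender–Glauberman uniqueness chain, part 2 (helper54)

* `ub_inv_trivial` : if `A ≤ F(M)` contains `Z(F(M))`, is self-centralizing in `F(M)`, has the same
  primes, satisfies the transitivity hypothesis and has centre of rank at least 3, then the only
  `A`-invariant `π(F(M))'`-subgroup of `G` is trivial.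
* `ub_uniq_of_zj` : if `O_{p'}(H) = 1` for every maximal subgroup `H` containing the nontrivial
  `p`-subgroup `A` of `M`, and `O_{p'}(M) = 1`, then `M` is the only maximal subgroup containing `A`.
-/

set_option autoImplicit false
set_option linter.style.haveILetI false

namespace Cfsg.Agent.Lib.helper54

open Cfsg Cfsg.Agent.Lib.helper31 Cfsg.Agent.Lib.helper29
open scoped Pointwise

variable {G : Type*} [Group G]

theorem ub_conj_one (Q : Subgroup G) : Q.map (MulAut.conj (1 : G)).toMonoidHom = Q := by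
  have : (MulAut.conj (1 : G)).toMonoidHom = MonoidHom.id G := by ext x; simp
  rw [this, Subgroup.map_id]

theorem ub_coatom_eq {M N : Subgroup G} (hM : IsCoatom M) (hMN : M ≤ N) (hN : N ≠ ⊤) :
    N = M := by
  by_contra hne
  exact hN (hM.2 N (lt_of_le_of_ne hMN (Ne.symm hne)))

theorem ub_inv_trivial [Finite G] (hG : IsMinSimpleOddOrder G) (M : Subgroup G) (hM : IsCoatom M)
    (A : Subgroup G) (hAF : A ≤ fittingOf M)
    (hZ : fittingOf M ⊓ Subgroup.centralizer (fittingOf M : Set G) ≤ A)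
    (hC : fittingOf M ⊓ Subgroup.centralizer (A : Set G) ≤ A)
    (hπ : ∀ r : ℕ, r.Prime → r ∣ Nat.card (fittingOf M) → r ∣ Nat.card A)
    (hTH : TransitivityHypothesis A)
    (hrk : ¬ RankLE 2 ↥(A ⊓ Subgroup.centralizer (A : Set G)))
    (hsn : (A.subgroupOf (fittingOf M)).IsSubnormal) :
    ∀ Y ∈ invSubgroups ⊤ A (primesNotDvd (Nat.card (fittingOf M))), Y = ⊥ := by
  obtain ⟨hodd, hsimple, hna, hsolv⟩ := id hG
  haveI := hsimple
  have hMtop : M ≠ ⊤ := hM.1
  have hMsolv : Group.IsSolvable M := hsolv M hMtop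
  have hFM : fittingOf M ≤ M := bi_fittingOf_le M
  have hMF : M ≤ Subgroup.normalizer (fittingOf M : Set G) := bi_le_normalizer_fittingOf M
  have hFnil : Group.IsNilpotent (fittingOf M) := bi_fittingOf_isNilpotent M
  have hA1 : A ≠ ⊥ := hTH.1
  have hF1 : fittingOf M ≠ ⊥ := fun h => hA1 (le_bot_iff.mp (h ▸ hAF))
  have hFtop : fittingOf M ≠ ⊤ := fun h => hMtop (top_le_iff.mp (h ▸ hFM))
  -- the centre of F
  have hZ1 : fittingOf M ⊓ Subgroup.centralizer (fittingOf M : Set G) ≠ ⊥ := by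
    obtain ⟨r, hr, hrF⟩ := Nat.exists_prime_and_dvd (n := Nat.card (fittingOf M))
      (fun h1 => hF1 (Subgroup.card_eq_one.mp h1))
    haveI : Fact r.Prime := ⟨hr⟩
    have h1 := biZ_ne_bot M hrF
    have h2 : biZ M r ≤ fittingOf M ⊓ Subgroup.centralizer (fittingOf M : Set G) :=
      Cfsg.Agent.Lib.helper29.piCoreOf_le _ _
    intro h
    exact h1 (le_bot_iff.mp (h ▸ h2))
  have hMZ : M ≤ Subgroup.normalizer
      ((fittingOf M ⊓ Subgroup.centralizer (fittingOf M : Set G) : Subgroup G) : Set G) :=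
    bi_le_normalizer_inf hMF (hMF.trans (bi_normalizer_le_normalizer_centralizer _))
  have hNZ : Subgroup.normalizer
      ((fittingOf M ⊓ Subgroup.centralizer (fittingOf M : Set G) : Subgroup G) : Set G) = M :=
    bi_normalizer_eq_of_coatom hM hZ1 (inf_le_left.trans hFM) hMZ
  have hprimes : primesNotDvd (Nat.card (fittingOf M)) = primesNotDvd (Nat.card A) :=
    primesNotDvd_card_eq hAF hπ
  -- K = ⊥
  obtain ⟨K, hK⟩ : ∃ K : Subgroup G,
      K = piCoreOf (primesNotDvd (Nat.card A)) (Subgroup.centralizer (A : Set G)) := ⟨_, rfl⟩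
  have hKC : K ≤ Subgroup.centralizer (A : Set G) := hK ▸ piCoreOf_le _ _
  have hKM : K ≤ M := by
    calc K ≤ Subgroup.centralizer (A : Set G) := hKC
      _ ≤ Subgroup.centralizer
          ((fittingOf M ⊓ Subgroup.centralizer (fittingOf M : Set G) : Subgroup G) : Set G) :=
        Subgroup.centralizer_le hZ
      _ ≤ Subgroup.normalizer
          ((fittingOf M ⊓ Subgroup.centralizer (fittingOf M : Set G) : Subgroup G) : Set G) :=
        Subgroup.centralizer_le_normalizer _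
      _ = M := hNZ
  have hKcop : (Nat.card K).Coprime (Nat.card (fittingOf M)) := by
    apply bi_coprime_of_forall_prime
    intro r hr hd
    rw [hK] at hd
    have h1 := prime_mem_of_dvd_card_piCoreOf _ _ r hr hd
    rw [← hprimes] at h1
    exact h1.2
  have hAK : A ≤ Subgroup.centralizer (K : Set G) := Subgroup.le_centralizer_iff.mp hKC
  have hKcF : K ≤ Subgroup.centralizer (fittingOf M : Set G) := by
    apply Cfsg.Agent.S1442.result (fittingOf M) K hFnil (hKM.trans hMF) hKcop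
    intro x hx
    have hxA : x ∈ A := hC ⟨hx.1, Subgroup.centralizer_le (le_inf hAF hAK) hx.2⟩
    exact ⟨hAF hxA, hAK hxA⟩
  have hKF : K ≤ fittingOf M := (le_inf hKM hKcF).trans (ua_cent_fitting_le M hMsolv)
  have hKbot : K = ⊥ :=
    le_bot_iff.mp ((Subgroup.disjoint_of_coprime_natCard hKcop).eq_bot ▸ le_inf le_rfl hKF)
  -- invariant q-subgroups are trivial
  have hq_triv : ∀ q : ℕ, q.Prime → ¬ q ∣ Nat.card (fittingOf M) →
      ∀ Y ∈ invSubgroups ⊤ A {q}, Y = ⊥ := by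
    intro q hq hqF Y hY
    haveI : Fact q.Prime := ⟨hq⟩
    have hqA : ¬ q ∣ Nat.card A := fun h => hqF (h.trans (Subgroup.card_dvd_of_le hAF))
    have htr := Cfsg.Agent.S1393.result hG A hTH hrk q hq hqA
    have heq : ∀ Q₁ ∈ maxInvSubgroups ⊤ A {q}, ∀ Q₂ ∈ maxInvSubgroups ⊤ A {q}, Q₂ = Q₁ := by
      intro Q₁ h1 Q₂ h2
      obtain ⟨k, hk, hkq⟩ := htr Q₁ h1 Q₂ h2
      rw [← hK, hKbot, Subgroup.mem_bot] at hk
      rw [hk, ub_conj_one] at hkq
      exact hkq
    have h1395 := Cfsg.Agent.S1395.result hG A hTH q hq hqA (fittingOf M) hFtop hπ hAF hsn htr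
    have hsub := h1395.2.2.1
    obtain ⟨Q, hQ, -⟩ := exists_maxInv_ge (bot_mem_invSubgroups (fittingOf M) {q})
    have hQA := hsub hQ
    have hMQ : M ≤ Subgroup.normalizer (Q : Set G) := by
      intro m hm
      have h1 := conj_mem_maxInvSubgroups_of_mem_normalizer (hMF hm) hQ
      have h2 : MulAut.conj m • Q = Q := heq Q hQA _ (hsub h1)
      rw [Subgroup.mem_normalizer_iff]
      intro x
      constructor
      · intro hx
        have h3 : m * x * m⁻¹ ∈ MulAut.conj m • Q :=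
          (Subgroup.mem_smul_pointwise_iff_exists _ _ _).mpr ⟨x, hx, rfl⟩
        rwa [h2] at h3
      · intro hx
        rw [← h2] at hx
        obtain ⟨y, hy, hyx⟩ := (Subgroup.mem_smul_pointwise_iff_exists _ _ _).mp hx
        have h3 : m * y * m⁻¹ = m * x * m⁻¹ := hyx
        have h4 : y = x := by simpa using h3
        rw [← h4]; exact hy
    have hQbot : Q = ⊥ := by
      by_contra hne
      have hQq : IsPGroup q Q := bi_isPGroup_of_forall_prime hQ.1.2.1
      have hQtop : Q ≠ ⊤ := Cfsg.Agent.Lib.helper31.pgroup_ne_top hG hQq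
      have hNQ : Subgroup.normalizer (Q : Set G) = M :=
        ub_coatom_eq hM hMQ (Cfsg.Agent.Lib.helper31.normalizer_ne_top hG hne hQtop)
      have hQM : Q ≤ M := hNQ ▸ Subgroup.le_normalizer
      have hQF : Q ≤ fittingOf M :=
        (le_piCoreOf hQM hMQ hQ.1.2.1).trans (bi_piCoreOf_singleton_le_fittingOf M hq)
      have hqQ : q ∣ Nat.card Q := by
        obtain ⟨n, hn⟩ := IsPGroup.iff_card.mp hQq
        have hn0 : n ≠ 0 := by
          rintro rfl
          rw [pow_zero] at hn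
          exact hne (Subgroup.card_eq_one.mp hn)
        rw [hn]; exact dvd_pow_self q hn0
      exact hqF (hqQ.trans (Subgroup.card_dvd_of_le hQF))
    obtain ⟨T, hT, hYT⟩ := exists_maxInv_ge hY
    have h5 := heq Q hQA T hT
    rw [h5, hQbot] at hYT
    exact le_bot_iff.mp hYT
  -- the general case
  intro Y hY
  by_contra hne
  obtain ⟨-, hYπ, hAY⟩ := hY
  obtain ⟨q, hq, hqY⟩ := Nat.exists_prime_and_dvd (n := Nat.card Y)
    (fun h1 => hne (Subgroup.card_eq_one.mp h1))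
  haveI : Fact q.Prime := ⟨hq⟩
  have hqF : ¬ q ∣ Nat.card (fittingOf M) := (hYπ q hq hqY).2
  have hcop : (Nat.card A).Coprime (Nat.card Y) := by
    apply bi_coprime_of_forall_prime
    intro r hr hdA hdY
    exact (hYπ r hr hdY).2 (hdA.trans (Subgroup.card_dvd_of_le hAF))
  have hAsolv : Group.IsSolvable A := bi_isSolvable_of_le_nilpotent hFnil hAF
  obtain ⟨P₀, hP₀⟩ := Cfsg.Agent.Lib.helper1.exists_invariant_sylow (p := q) A Y hAY hcop
    (Or.inl hAsolv)
  have hmem : (P₀ : Subgroup ↥Y).map Y.subtype ∈ invSubgroups ⊤ A {q} :=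
    ⟨le_top, bi_forall_prime_of_isPGroup (P₀.isPGroup'.map _), hP₀⟩
  have hbot := hq_triv q hq hqF _ hmem
  have hP₀bot : (P₀ : Subgroup ↥Y) = ⊥ :=
    (Subgroup.map_eq_bot_iff_of_injective _ Y.subtype_injective).mp hbot
  exact P₀.ne_bot_of_dvd_card hqY hP₀bot

theorem ub_uniq_of_zj [Finite G] (hG : IsMinSimpleOddOrder G) (M : Subgroup G) (hM : IsCoatom M)
    {p : ℕ} [Fact p.Prime] (A : Subgroup G) (hAM : A ≤ M) (hAp : IsPGroup p A) (hA1 : A ≠ ⊥)
    (hOM : pPrimeCore p ↥M = ⊥)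
    (hO : ∀ H : Subgroup G, IsCoatom H → A ≤ H → pPrimeCore p ↥H = ⊥) :
    ∀ H : Subgroup G, IsCoatom H → A ≤ H → H = M := by
  obtain ⟨hodd, hsimple, hna, hsolv⟩ := id hG
  haveI := hsimple
  have hp : p.Prime := Fact.out
  have hoddS : ∀ H : Subgroup G, Odd (Nat.card H) := fun H =>
    Odd.of_dvd_nat hodd (Subgroup.card_subgroup_dvd_card H)
  have hZJN : ∀ R : Subgroup G, IsPGroup p R → R ≠ ⊥ →
      Subgroup.normalizer (centerThompsonOf p R : Set G) ≠ ⊤ := by
    intro R hR hR1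
    exact Cfsg.Agent.Lib.helper31.normalizer_ne_top hG (ua_zj_ne_bot hR hR1)
      (Cfsg.Agent.Lib.helper31.pgroup_ne_top hG (hR.to_le (ua_zj_le p R)))
  have hkey : ∀ H : Subgroup G, IsCoatom H → A ≤ H → ∀ S : Sylow p ↥H,
      (S : Subgroup ↥H).map H.subtype ≠ ⊥ →
      Subgroup.normalizer
        (centerThompsonOf p ((S : Subgroup ↥H).map H.subtype) : Set G) = H := by
    intro H hH hAH S hS1
    exact ub_coatom_eq hH (ua_le_normalizer_zj H (hsolv H hH.1) (hoddS H) (hO H hH hAH) S)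
      (hZJN _ (S.isPGroup'.map _) hS1)
  intro H₀ hH₀ hAH₀
  by_contra hne₀
  obtain ⟨H, hHmem, hHmax⟩ := Set.exists_max_image
    {H : Subgroup G | IsCoatom H ∧ A ≤ H ∧ H ≠ M}
    (fun H : Subgroup G => (Nat.card ↥(H ⊓ M)).factorization p)
    (Set.toFinite _) ⟨H₀, hH₀, hAH₀, hne₀⟩
  obtain ⟨hH, hAH, hHM⟩ := hHmem
  have hAD : A ≤ H ⊓ M := le_inf hAH hAM
  obtain ⟨R, hR⟩ := (hAp.comap_of_injective (H ⊓ M).subtype (H ⊓ M).subtype_injective :
    IsPGroup p (A.subgroupOf (H ⊓ M))).exists_le_sylow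
  obtain ⟨R', hR'⟩ : ∃ R' : Subgroup G, R' = (R : Subgroup ↥(H ⊓ M)).map (H ⊓ M).subtype :=
    ⟨_, rfl⟩
  have hR'D : R' ≤ H ⊓ M := hR' ▸ Subgroup.map_subtype_le _
  have hR'p : IsPGroup p R' := hR' ▸ R.isPGroup'.map _
  have hAR' : A ≤ R' := by
    intro a ha
    rw [hR']
    exact ⟨⟨a, hAD ha⟩, hR (Subgroup.mem_subgroupOf.mpr ha), rfl⟩
  have hR'1 : R' ≠ ⊥ := fun h => hA1 (le_bot_iff.mp (h ▸ hAR'))
  have hcardR' : Nat.card R' = p ^ (Nat.card ↥(H ⊓ M)).factorization p := by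
    rw [hR', Subgroup.card_map_of_injective (H ⊓ M).subtype_injective]
    exact R.card_eq_multiplicity
  have hX : ∀ U : Subgroup G, IsCoatom U → A ≤ U → U ≠ M → ∀ T : Subgroup G, IsPGroup p T →
      T ≤ U → T ≤ M → R' ≤ T → T = R' := by
    intro U hU hAU hUM T hT hTU hTM hRT
    have h1 : Nat.card T ∣ Nat.card ↥(U ⊓ M) := Subgroup.card_dvd_of_le (le_inf hTU hTM)
    obtain ⟨k, hk⟩ := IsPGroup.iff_card.mp hT
    rw [hk] at h1
    have h2 : k ≤ (Nat.card ↥(U ⊓ M)).factorization p :=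
      (hp.pow_dvd_iff_le_factorization Nat.card_pos.ne').mp h1
    have h3 : Nat.card T ≤ Nat.card R' := by
      rw [hk, hcardR']
      exact Nat.pow_le_pow_right hp.pos (h2.trans (hHmax U ⟨hU, hAU, hUM⟩))
    exact (Subgroup.eq_of_le_of_card_ge hRT h3).symm
  have hR'M : R' ≤ M := hR'D.trans inf_le_right
  have hR'H : R' ≤ H := hR'D.trans inf_le_left
  -- a Sylow subgroup of M containing R'
  obtain ⟨P₁, hP₁⟩ := (hR'p.comap_of_injective M.subtype M.subtype_injective :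
    IsPGroup p (R'.subgroupOf M)).exists_le_sylow
  obtain ⟨P₁', hP₁'⟩ : ∃ P₁' : Subgroup G, P₁' = (P₁ : Subgroup ↥M).map M.subtype := ⟨_, rfl⟩
  have hRP : R' ≤ P₁' := by
    intro x hx
    rw [hP₁']
    exact ⟨⟨x, hR'M hx⟩, hP₁ (Subgroup.mem_subgroupOf.mpr hx), rfl⟩
  have hP₁'p : IsPGroup p P₁' := hP₁' ▸ P₁.isPGroup'.map _
  have hP₁'1 : P₁' ≠ ⊥ := fun h => hR'1 (le_bot_iff.mp (h ▸ hRP))
  have hP₁'M : P₁' ≤ M := hP₁' ▸ Subgroup.map_subtype_le _
  have hMZJ : Subgroup.normalizer (centerThompsonOf p P₁' : Set G) = M := by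
    have h1 := ua_le_normalizer_zj M (hsolv M hM.1) (hoddS M) hOM P₁
    rw [← hP₁'] at h1
    exact ub_coatom_eq hM h1 (hZJN _ hP₁'p hP₁'1)
  have hNP₁ : Subgroup.normalizer (P₁' : Set G) ≤ M :=
    hMZJ ▸ ua_normalizer_le_normalizer_zj p P₁'
  have hP₁max : ∀ T : Subgroup G, IsPGroup p T → P₁' ≤ T → T = P₁' := by
    have h1 := ua_sylow_max M P₁ (hP₁' ▸ hNP₁)
    rw [← hP₁'] at h1
    exact h1
  -- a Sylow subgroup of H containing R'
  obtain ⟨S, hS⟩ := (hR'p.comap_of_injective H.subtype H.subtype_injective :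
    IsPGroup p (R'.subgroupOf H)).exists_le_sylow
  obtain ⟨S', hS'⟩ : ∃ S' : Subgroup G, S' = (S : Subgroup ↥H).map H.subtype := ⟨_, rfl⟩
  have hRS : R' ≤ S' := by
    intro x hx
    rw [hS']
    exact ⟨⟨x, hR'H hx⟩, hS (Subgroup.mem_subgroupOf.mpr hx), rfl⟩
  have hS'p : IsPGroup p S' := hS' ▸ S.isPGroup'.map _
  have hS'1 : S' ≠ ⊥ := fun h => hR'1 (le_bot_iff.mp (h ▸ hRS))
  have hS'H : S' ≤ H := hS' ▸ Subgroup.map_subtype_le _
  have hHZJ : Subgroup.normalizer (centerThompsonOf p S' : Set G) = H := by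
    have h1 := hkey H hH hAH S (hS' ▸ hS'1)
    rw [← hS'] at h1
    exact h1
  by_cases hcase : R' = P₁'
  · have h1 : S' = P₁' := hP₁max S' hS'p (hcase ▸ hRS)
    rw [h1, hMZJ] at hHZJ
    exact hHM hHZJ.symm
  · have hlt : R' < P₁' := lt_of_le_of_ne hRP hcase
    have hlt1 := bi_lt_inf_normalizer_of_lt hP₁'p.isNilpotent hlt
    have hT₁p : IsPGroup p ↥(P₁' ⊓ Subgroup.normalizer (R' : Set G)) := hP₁'p.to_le inf_le_left
    have hT₁M : P₁' ⊓ Subgroup.normalizer (R' : Set G) ≤ M := inf_le_left.trans hP₁'M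
    have hNR : Subgroup.normalizer (R' : Set G) ≠ ⊤ :=
      Cfsg.Agent.Lib.helper31.normalizer_ne_top hG hR'1
        (Cfsg.Agent.Lib.helper31.pgroup_ne_top hG hR'p)
    obtain ⟨U, hU, hNU⟩ :=
      (eq_top_or_exists_le_coatom (Subgroup.normalizer (R' : Set G))).resolve_left hNR
    have hAU : A ≤ U := hAR'.trans (Subgroup.le_normalizer.trans hNU)
    by_cases hUM : U = M
    · have hNM : Subgroup.normalizer (R' : Set G) ≤ M := hUM ▸ hNU
      by_cases hcase2 : R' = S'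
      · rw [← hcase2] at hHZJ
        have hNH : Subgroup.normalizer (R' : Set G) ≤ H :=
          hHZJ ▸ ua_normalizer_le_normalizer_zj p R'
        have h2 := hX H hH hAH hHM _ hT₁p (inf_le_right.trans hNH) hT₁M hlt1.le
        exact hlt1.ne h2.symm
      · have hlt2 := bi_lt_inf_normalizer_of_lt hS'p.isNilpotent (lt_of_le_of_ne hRS hcase2)
        have h2 := hX H hH hAH hHM _ (hS'p.to_le inf_le_left) (inf_le_left.trans hS'H)
          (inf_le_right.trans hNM) hlt2.le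
        exact hlt2.ne h2.symm
    · have h2 := hX U hU hAU hUM _ hT₁p (inf_le_right.trans hNU) hT₁M hlt1.le
      exact hlt1.ne h2.symm

end Cfsg.Agent.Lib.helper54
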