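import Mathlib
import Cfsg.Agent.Lib.helper28.Components
import Cfsg.Agent.Lib.helper38.PGroupNormal
import Cfsg.Agent.Lib.helper54.AxB

/-!
`F*(H) = O_p(H)` versus `C_H(O_p(H)) ≤ O_p(H)` (characteristic `p`), and criteria for `p`-local
subgroups to have characteristic `p` (helper54). Uses Bender's theorem from helper28.

* `isPGroup_of_isNilpotent_of_centralizer_le`
* `generalizedFittingSubgroup_eq_pCore_iff`: `F*(H) = O_p(H) ↔ C_H(O_p(H)) ≤ O_p(H)`.
* `charPIn_iff_fstar`: `CharPIn p Y ↔ F*(↥Y) = O_p(↥Y)`.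
* `CharPIn.conj`: conjugates.
* `charPIn_of_centralizer_subgroup`: `P ⊴ H` a `p`-group with `C_H(P)` of characteristic `p`.
* `CharPIn.centralizer_of_normalizer_zpowers`, `CharPIn.normalizer_of_central`.
* `le_of_le_normalizer_sylow`, `exists_orderOf_eq_prime_central_of_normal`.
-/

set_option autoImplicit false

namespace Cfsg.Agent.Lib.helper54

open Cfsg.Agent.Lib.helper53

/-- A nilpotent normal subgroup `N` of a finite group `H` containing a normal `p`-subgroup `Q` of
`H` with `C_H(Q) ≤ Q` is a `p`-group. -/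
theorem isPGroup_of_isNilpotent_of_centralizer_le {H : Type*} [Group H] [Finite H] {p : ℕ}
    [Fact p.Prime] {Q N : Subgroup H} (hQn : Q.Normal) (hQ : IsPGroup p Q)
    (hcen : Subgroup.centralizer (Q : Set H) ≤ Q) (hQN : Q ≤ N)
    (hN : Group.IsNilpotent N) : IsPGroup p N := by
  have hcard : Nat.card N = p ^ (Nat.card N).primeFactorsList.length := by
    apply Nat.eq_prime_pow_of_unique_prime_dvd (Nat.card_pos.ne')
    intro q hq hqd
    by_contra hne
    have hqf : Fact q.Prime := ⟨hq⟩
    obtain P : Sylow q ↥N := default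
    have hPn : (P : Subgroup ↥N).Normal := inferInstance
    have hQ'n : (Q.subgroupOf N).Normal := hQn.subgroupOf N
    have hdis : Disjoint (P : Subgroup ↥N) (Q.subgroupOf N) :=
      IsPGroup.disjoint_of_ne q p hne _ _ P.2 hQ.comap_subtype
    have hPbot : (P : Subgroup ↥N) = ⊥ := by
      rw [eq_bot_iff]
      intro x hx
      have hxc : (x : H) ∈ Subgroup.centralizer (Q : Set H) := by
        rw [Subgroup.mem_centralizer_iff]
        intro y hy
        have h1 := Subgroup.commute_of_normal_of_disjoint _ _ hPn hQ'n hdis x ⟨y, hQN hy⟩ hx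
          (Subgroup.mem_subgroupOf.mpr hy)
        exact (congrArg Subtype.val h1.eq).symm
      have hxQ : (x : H) ∈ Q := hcen hxc
      have hxP : (x : H) ∈ (P : Subgroup ↥N).map N.subtype := ⟨x, hx, rfl⟩
      have h2 := (IsPGroup.disjoint_of_ne q p hne _ _ (P.2.map N.subtype) hQ).le_bot
        (Subgroup.mem_inf.mpr ⟨hxP, hxQ⟩)
      rw [Subgroup.mem_bot] at h2 ⊢
      exact Subtype.ext h2
    exact P.ne_bot_of_dvd_card hqd hPbot
  exact IsPGroup.of_card hcard

/-- For a finite group `H`: `F*(H) = O_p(H)` if and only if `C_H(O_p(H)) ≤ O_p(H)`. -/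
theorem generalizedFittingSubgroup_eq_pCore_iff (H : Type*) [Group H] [Finite H] (p : ℕ)
    [Fact p.Prime] :
    Cfsg.generalizedFittingSubgroup H = Cfsg.pCore p H ↔
      Subgroup.centralizer (Cfsg.pCore p H : Set H) ≤ Cfsg.pCore p H := by
  have hQn : (Cfsg.pCore p H).Normal := Cfsg.Agent.Lib.helper53.pCore_normal p H
  have hQp : IsPGroup p (Cfsg.pCore p H) := Cfsg.Agent.Lib.helper54.isPGroup_pCore p H
  constructor
  · intro h
    rw [← h]
    exact Cfsg.Agent.Lib.helper28.centralizer_generalizedFittingSubgroup_le H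
  · intro h
    have hQF : Cfsg.pCore p H ≤ Cfsg.fittingSubgroup H :=
      Cfsg.Agent.Lib.helper28.le_fittingSubgroup hQn hQp.isNilpotent
    have hFp : IsPGroup p (Cfsg.fittingSubgroup H) :=
      isPGroup_of_isNilpotent_of_centralizer_le hQn hQp h hQF
        (Cfsg.Agent.Lib.helper28.fittingSubgroup_isNilpotent H)
    have hFQ : Cfsg.fittingSubgroup H ≤ Cfsg.pCore p H :=
      Cfsg.Agent.Lib.helper54.le_pCore (Cfsg.Agent.Lib.helper28.fittingSubgroup_normal H) hFp
    have hL : Cfsg.layer H = ⊥ := by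
      rw [eq_bot_iff]
      apply sSup_le
      intro K hK
      exfalso
      have h1 : K ≤ Cfsg.pCore p H := by
        have h2 : Cfsg.layer H ≤ Subgroup.centralizer (Cfsg.fittingSubgroup H : Set H) :=
          Subgroup.commutator_eq_bot_iff_le_centralizer.mp
            (Cfsg.Agent.Lib.helper28.commutator_layer_fittingSubgroup H)
        exact (Cfsg.Agent.Lib.helper28.le_layer hK).trans
          (h2.trans ((Subgroup.centralizer_le (SetLike.coe_subset_coe.mpr hQF)).trans h))
      have h3 : IsPGroup p K := hQp.to_le h1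
      have h4 : Group.IsNilpotent K := h3.isNilpotent
      exact (Cfsg.Agent.Lib.helper28.isComponent_qs hK).not_isSolvable inferInstance
    unfold Cfsg.generalizedFittingSubgroup
    rw [hL, bot_sup_eq]
    exact le_antisymm hFQ hQF

/-- `CharPIn p Y` is the statement `F*(Y) = O_p(Y)`. -/
theorem charPIn_iff_fstar {G : Type*} [Group G] [Finite G] {p : ℕ} [Fact p.Prime]
    (Y : Subgroup G) :
    CharPIn p Y ↔ Cfsg.generalizedFittingSubgroup ↥Y = Cfsg.pCore p ↥Y :=
  (charPIn_iff Y).trans (generalizedFittingSubgroup_eq_pCore_iff ↥Y p).symm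

/-- Characteristic `p` passes to conjugates. -/
theorem CharPIn.conj {G : Type*} [Group G] {p : ℕ} {Y : Subgroup G} (h : CharPIn p Y) (g : G) :
    CharPIn p (Y.map (MulAut.conj g).toMonoidHom) := by
  obtain ⟨Q, hQY, hYQ, hQp, hcen⟩ := h
  refine ⟨Q.map (MulAut.conj g).toMonoidHom, Subgroup.map_mono hQY, ?_, hQp.map _, ?_⟩
  · rw [normalizer_conj]; exact Subgroup.map_mono hYQ
  · intro x hx
    obtain ⟨hxY, hxc⟩ := Subgroup.mem_inf.mp hx
    rw [mem_conj_iff] at hxY ⊢
    apply hcen
    refine Subgroup.mem_inf.mpr ⟨hxY, ?_⟩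
    rw [Subgroup.mem_centralizer_iff]
    intro q hq
    have h1 := Subgroup.mem_centralizer_iff.mp hxc (g * q * g⁻¹) (conj_mem_conj hq)
    calc q * (g⁻¹ * x * g) = g⁻¹ * (g * q * g⁻¹ * x) * g := by group
      _ = g⁻¹ * (x * (g * q * g⁻¹)) * g := by rw [h1]
      _ = g⁻¹ * x * g * q := by group

/-- If `P` is a normal `p`-subgroup of `H` and `C_H(P)` has characteristic `p`, then `H` has
characteristic `p`. -/
theorem charPIn_of_centralizer_subgroup {G : Type*} [Group G] [Finite G] {p : ℕ} [Fact p.Prime]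
    {H P : Subgroup G} (hPH : P ≤ H) (hHP : H ≤ Subgroup.normalizer (P : Set G))
    (hP : IsPGroup p P)
    (hDchar : CharPIn p (H ⊓ Subgroup.centralizer (P : Set G))) : CharPIn p H := by
  have hHD : H ≤ Subgroup.normalizer
      ((H ⊓ Subgroup.centralizer (P : Set G) : Subgroup G) : Set G) :=
    le_normalizer_inf_centralizer hHP
  have hE := hDchar.pCoreOf_spec
  have hEH : Cfsg.pCoreOf p (H ⊓ Subgroup.centralizer (P : Set G)) ≤ H :=
    (pCoreOf_le p _).trans inf_le_left
  have hHE : H ≤ Subgroup.normalizer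
      (Cfsg.pCoreOf p (H ⊓ Subgroup.centralizer (P : Set G)) : Set G) :=
    hHD.trans (normalizer_le_normalizer_pCoreOf p _)
  refine ⟨P ⊔ Cfsg.pCoreOf p (H ⊓ Subgroup.centralizer (P : Set G)), sup_le hPH hEH, ?_, ?_, ?_⟩
  · exact (le_inf hHP hHE).trans (Subgroup.normalizer_inf_normalizer_le_normalizer_sup _ _)
  · exact hP.to_sup_of_normal_left' (pCoreOf_isPGroup p _) (hEH.trans hHP)
  · intro x hx
    obtain ⟨hxH, hxc⟩ := Subgroup.mem_inf.mp hx
    apply Subgroup.mem_sup_right
    apply hE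
    exact Subgroup.mem_inf.mpr ⟨Subgroup.mem_inf.mpr ⟨hxH,
      Subgroup.centralizer_le (SetLike.coe_subset_coe.mpr le_sup_left) hxc⟩,
      Subgroup.centralizer_le (SetLike.coe_subset_coe.mpr le_sup_right) hxc⟩

/-- `N_G(B)` normalizes `C_G(B)`. -/
theorem normalizer_le_normalizer_centralizer_coe {G : Type*} [Group G] [Finite G]
    (B : Subgroup G) :
    Subgroup.normalizer (B : Set G) ≤
      Subgroup.normalizer ((Subgroup.centralizer (B : Set G) : Subgroup G) : Set G) := by
  have h1 := le_normalizer_inf_centralizer (le_refl (Subgroup.normalizer (B : Set G)))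
  have h2 : Subgroup.normalizer (B : Set G) ⊓ Subgroup.centralizer (B : Set G) =
      Subgroup.centralizer (B : Set G) :=
    inf_eq_right.mpr (Subgroup.centralizer_le_normalizer _)
  rwa [h2] at h1

/-- `N_G(⟨z⟩)` normalizes `C_G(z)`. -/
theorem normalizer_zpowers_le_normalizer_centralizer {G : Type*} [Group G] [Finite G] (z : G) :
    Subgroup.normalizer ((Subgroup.zpowers z : Subgroup G) : Set G) ≤
      Subgroup.normalizer ((Subgroup.centralizer ({z} : Set G) : Subgroup G) : Set G) := by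
  intro n hn
  apply mem_normalizer_of_conj_le
  rw [conj_le_iff]
  intro c hc
  rw [Subgroup.mem_centralizer_iff]
  intro h hh
  rw [Set.mem_singleton_iff] at hh
  subst hh
  have h1 : n⁻¹ * h * n ∈ Subgroup.zpowers h := by
    have h2 := (Subgroup.mem_normalizer_iff.mp (Subgroup.inv_mem _ hn) h).mp
      (Subgroup.mem_zpowers h)
    rwa [inv_inv] at h2
  obtain ⟨k, hk⟩ := Subgroup.mem_zpowers_iff.mp h1
  have h3 : Commute h c := Subgroup.mem_centralizer_iff.mp hc h rfl
  have h4 : (n⁻¹ * h * n) * c = c * (n⁻¹ * h * n) := by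
    rw [← hk]
    exact (h3.zpow_left k).eq
  calc h * (n * c * n⁻¹) = n * ((n⁻¹ * h * n) * c) * n⁻¹ := by group
    _ = n * (c * (n⁻¹ * h * n)) * n⁻¹ := by rw [h4]
    _ = n * c * n⁻¹ * h := by group

/-- If `N_G(⟨z⟩)` has characteristic `p`, so has `C_G(z)`. -/
theorem CharPIn.centralizer_of_normalizer_zpowers {G : Type*} [Group G] [Finite G] {p : ℕ}
    [Fact p.Prime] {z : G}
    (h : CharPIn p (Subgroup.normalizer ((Subgroup.zpowers z : Subgroup G) : Set G))) :
    CharPIn p (Subgroup.centralizer ({z} : Set G)) :=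
  CharPIn.of_normal (centralizer_singleton_le_normalizer_zpowers z)
    (normalizer_zpowers_le_normalizer_centralizer z) h

/-- If `z ∈ Z(X)` for a `p`-subgroup `X` and `C_G(z)` has characteristic `p`, then `N_G(X)` has
characteristic `p`. -/
theorem CharPIn.normalizer_of_central {G : Type*} [Group G] [Finite G] {p : ℕ} [Fact p.Prime]
    {X : Subgroup G} {z : G} (hX : IsPGroup p X) (hz : z ∈ X) (hzc : ∀ x ∈ X, x * z = z * x)
    (hC : CharPIn p (Subgroup.centralizer ({z} : Set G))) :
    CharPIn p (Subgroup.normalizer (X : Set G)) := by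
  have hXC : X ≤ Subgroup.centralizer ({z} : Set G) := by
    intro x hx
    rw [Subgroup.mem_centralizer_iff]
    intro h hh
    rw [Set.mem_singleton_iff] at hh
    subst hh
    exact (hzc x hx).symm
  have h1 := hC.inf_normalizer hXC hX
  rw [inf_comm] at h1
  exact charPIn_of_centralizer (P := X) (z := z) Subgroup.le_normalizer le_rfl hX hz h1

/-- A `p`-subgroup normalized by a Sylow `p`-subgroup lies in it. -/
theorem le_of_le_normalizer_sylow {G : Type*} [Group G] {p : ℕ} (T : Sylow p G)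
    {R : Subgroup G} (hR : IsPGroup p R)
    (hT : (T : Subgroup G) ≤ Subgroup.normalizer (R : Set G)) : R ≤ T := by
  have h1 : IsPGroup p (R ⊔ (T : Subgroup G) : Subgroup G) := hR.to_sup_of_normal_left' T.2 hT
  have h2 := T.3 h1 le_sup_right
  rw [← h2]; exact le_sup_left

/-- A nontrivial subgroup `R` of a `p`-group `T` normalized by `T` contains an element of order
`p` central in `T`. -/
theorem exists_orderOf_eq_prime_central_of_normal {G : Type*} [Group G] [Finite G] {p : ℕ}
    [Fact p.Prime] {T R : Subgroup G} (hT : IsPGroup p T) (hRT : R ≤ T)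
    (hTR : T ≤ Subgroup.normalizer (R : Set G)) (hne : R ≠ ⊥) :
    ∃ z ∈ R, orderOf z = p ∧ ∀ t ∈ T, t * z = z * t := by
  have hZne : R ⊓ Subgroup.centralizer (T : Set G) ≠ ⊥ := by
    have hn : (R.subgroupOf T).Normal :=
      (Subgroup.normal_subgroupOf_iff_le_normalizer hRT).mpr hTR
    have hnb : R.subgroupOf T ≠ ⊥ := by
      intro hb
      apply hne
      rw [eq_bot_iff]
      intro r hr
      have h1 : (⟨r, hRT hr⟩ : ↥T) ∈ R.subgroupOf T := Subgroup.mem_subgroupOf.mpr hr
      rw [hb, Subgroup.mem_bot] at h1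
      rw [Subgroup.mem_bot]
      exact congrArg Subtype.val h1
    obtain ⟨z', hz'R, hz'1, hz'c⟩ := Cfsg.Agent.Lib.helper38.exists_central_of_normal_ne_bot
      (p := p) (Q := ↥T) hT (R.subgroupOf T) hnb
    intro hb
    apply hz'1
    have h1 : (z' : G) ∈ R ⊓ Subgroup.centralizer (T : Set G) := by
      refine Subgroup.mem_inf.mpr ⟨Subgroup.mem_subgroupOf.mp hz'R, ?_⟩
      rw [Subgroup.mem_centralizer_iff]
      intro t ht
      have h2 := congrArg Subtype.val (hz'c ⟨t, ht⟩)
      have h3 : t * (z' : G) * t⁻¹ = (z' : G) := h2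
      calc t * (z' : G) = t * (z' : G) * t⁻¹ * t := by group
        _ = (z' : G) * t := by rw [h3]
    rw [hb, Subgroup.mem_bot] at h1
    exact Subtype.ext h1
  obtain ⟨z, hzZ, hzord⟩ := exists_orderOf_eq_prime_of_ne_bot
    ((hT.to_le hRT).to_le inf_le_left) hZne
  obtain ⟨hzR, hzc⟩ := Subgroup.mem_inf.mp hzZ
  exact ⟨z, hzR, hzord, Subgroup.mem_centralizer_iff.mp hzc⟩

end Cfsg.Agent.Lib.helper54
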