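import Mathlib
import Cfsg.Prelude.Def_OddOrderLocal
import Cfsg.Agent.Lib.helper8.BGTen1
import Cfsg.Agent.S1403
import Cfsg.Agent.S1350
import Cfsg.Agent.S1451

/-!
# `σ(M)` is non-empty and `M_σ ≠ 1` for a maximal subgroup of a minimal simple group of odd order
-/

set_option autoImplicit false
set_option linter.style.haveILetI false

namespace Cfsg.Agent.Lib.helper54

open Cfsg

/-- A maximal subgroup of a minimal simple group of odd order is non-trivial. -/
theorem coatom_card_gt_one {G : Type*} [Group G] [Finite G] (hG : Cfsg.IsMinSimpleOddOrder G)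
    (M : Subgroup G) (hM : IsCoatom M) : 1 < Nat.card ↥M := by
  obtain ⟨-, hsimple, hnc, -⟩ := id hG
  haveI := hsimple
  by_contra hle
  have hM1 : M = ⊥ := Subgroup.eq_bot_of_card_le M (by omega)
  obtain ⟨g, hg⟩ := exists_ne (1 : G)
  have hz : Subgroup.zpowers g = ⊤ := by
    apply hM.2
    rw [hM1, bot_lt_iff_ne_bot]
    intro h
    exact hg (Subgroup.zpowers_eq_bot.mp h)
  apply hnc
  constructor
  constructor
  intro a b
  obtain ⟨i, rfl⟩ := Subgroup.mem_zpowers_iff.mp (hz ▸ Subgroup.mem_top a)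
  obtain ⟨j, rfl⟩ := Subgroup.mem_zpowers_iff.mp (hz ▸ Subgroup.mem_top b)
  exact (Commute.zpow_zpow_self g i j).eq

/-- `σ(M)` is non-empty. -/
theorem sigma_nonempty {G : Type*} [Group G] [Finite G] (hG : Cfsg.IsMinSimpleOddOrder G)
    (M : Subgroup G) (hM : IsCoatom M) : ∃ r, r ∈ Cfsg.sigma M := by
  classical
  obtain ⟨hodd, hsimple, hnc, hsolv⟩ := id hG
  haveI := hsimple
  by_cases hα : ∃ r, r ∈ Cfsg.alpha M
  · obtain ⟨r, hr⟩ := hα
    have hU : Cfsg.Agent.Lib.helper8.BGUniqHyp G :=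
      fun K hK h1 h2 => Cfsg.Agent.S1403.result hG K hK h1 h2
    exact ⟨r, Cfsg.Agent.Lib.helper8.bg_alpha_sub_sigma hG hU M hM hr⟩
  · push Not at hα
    have hrank : Cfsg.RankLE 2 ↥M := by
      intro p hp
      by_contra h
      exact hα p ⟨hp, h⟩
    haveI : Group.IsSolvable ↥M := hsolv M hM.1
    have hoddM : Odd (Nat.card ↥M) := hodd.of_dvd_nat (Subgroup.card_subgroup_dvd_card M)
    have hM1 : 1 < Nat.card ↥M := coatom_card_gt_one hG M hM
    have hne : (Nat.card ↥M).primeFactors.Nonempty := Nat.nonempty_primeFactors.mpr hM1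
    obtain ⟨r, hrdef⟩ : ∃ r, r = (Nat.card ↥M).primeFactors.max' hne := ⟨_, rfl⟩
    have hrmem : r ∈ (Nat.card ↥M).primeFactors := hrdef ▸ Finset.max'_mem _ hne
    obtain ⟨hrp, hrdvd, -⟩ := Nat.mem_primeFactors.mp hrmem
    have hrmax : ∀ q : ℕ, q.Prime → q ∣ Nat.card ↥M → q ≤ r := by
      intro q hq hqd
      rw [hrdef]
      exact Finset.le_max' _ q (Nat.mem_primeFactors.mpr ⟨hq, hqd, by omega⟩)
    haveI : Fact r.Prime := ⟨hrp⟩
    obtain ⟨N, hNchar, hNhall⟩ := (Cfsg.Agent.S1451.result hoddM (Or.inl hrank)).2.2 (r - 1)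
    have hNp : IsPGroup r ↥N := by
      have hpos : Nat.card ↥N ≠ 0 := Nat.card_pos.ne'
      have h1 := Nat.eq_prime_pow_of_unique_prime_dvd (p := r) hpos (by
        intro d hd hdN
        have h2 := (hNhall.1 d hd hdN).2
        have h3 := hrmax d hd (hdN.trans (Subgroup.card_subgroup_dvd_card N))
        omega)
      exact IsPGroup.of_card h1
    have hidx : ¬ r ∣ N.index := hNhall.2 r hrp ⟨hrp, by have := hrp.pos; omega⟩
    have hNn : N.Normal := Subgroup.normal_of_characteristic N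
    have hN1 : N ≠ ⊥ := by
      intro h
      apply hidx
      rw [h, Subgroup.index_bot]
      exact hrdvd
    obtain ⟨N', hN'⟩ : ∃ N' : Subgroup G, N' = N.map M.subtype := ⟨_, rfl⟩
    have hN'M : N' ≤ M := hN' ▸ Subgroup.map_subtype_le N
    have hN'1 : N' ≠ ⊥ := by
      intro h
      apply hN1
      rw [eq_bot_iff]
      intro y hy
      have h1 : M.subtype y ∈ N' := by rw [hN']; exact ⟨y, hy, rfl⟩
      rw [h, Subgroup.mem_bot] at h1
      rw [Subgroup.mem_bot]
      exact M.subtype_injective (by simpa using h1)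
    have hMle : M ≤ Subgroup.normalizer (N' : Set G) := by
      have h1 := Subgroup.le_normalizer_map (H := N) M.subtype
      rw [Subgroup.normalizer_eq_top_iff.mpr hNn, ← MonoidHom.range_eq_map, Subgroup.range_subtype]
        at h1
      rw [hN']
      exact h1
    have hNtop : Subgroup.normalizer (N' : Set G) ≠ ⊤ := by
      intro h
      have hn : N'.Normal := Subgroup.normalizer_eq_top_iff.mp h
      rcases hn.eq_bot_or_eq_top with h1 | h1
      · exact hN'1 h1
      · exact hM.1 (top_le_iff.mp (h1 ▸ hN'M))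
    have hnorm : Subgroup.normalizer (N' : Set G) ≤ M := by
      by_contra hcon
      apply hNtop
      apply hM.2
      exact lt_of_le_of_ne hMle (fun h => hcon (h ▸ le_rfl))
    refine ⟨r, hrp, hrdvd, hNp.toSylow hidx, ?_⟩
    rw [IsPGroup.toSylow_coe, ← hN']
    exact hnorm

/-- `M_σ ≠ 1`. -/
theorem sigmaCore_ne_bot {G : Type*} [Group G] [Finite G] (hG : Cfsg.IsMinSimpleOddOrder G)
    (M : Subgroup G) (hM : IsCoatom M) : Cfsg.sigmaCore M ≠ ⊥ := by
  obtain ⟨r, hr⟩ := sigma_nonempty hG M hM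
  obtain ⟨hrp, hrdvd, -⟩ := id hr
  obtain ⟨-, -, hidx⟩ := (Cfsg.Agent.S1350.result hG M hM).1
  have h1 := hidx r hrp hr
  intro hbot
  apply h1
  rw [hbot, Subgroup.relIndex_bot_left]
  exact hrdvd

end Cfsg.Agent.Lib.helper54
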