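import Mathlib
import Cfsg.Agent.Lib.helper97.BGEight2
import Cfsg.Agent.Lib.helper8.BGTen5
import Cfsg.Agent.Lib.helper71.BGTenB

/-!
# S1360 / S1421: the nonabelian case (PN) for a subgroup `U` of a complement `E`

`mem_kappa_of_nonregular` : a prime `q ∉ σ(M)` with `M` of `q`-rank `≤ 1` such that some element of
order `q` of `M` centralizes a non-identity element of `M_σ` lies in `κ(M)`.
`bg8_nonab_sub` : the `E₀`-conclusion of S1421 for a subgroup `U ≤ E` containing all `p`-elements
of `E` and whose order is prime to `κ(M)`, when the Sylow `p`-subgroups of `G` are nonabelian for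
some `p ∈ τ₂(M)`.
-/

set_option autoImplicit false

namespace Cfsg.Agent.Lib.helper54.PNU

open Cfsg Cfsg.Agent.Lib.helper97
open scoped Pointwise

variable {G : Type*} [Group G]

open Cfsg.Agent.Lib.helper8 in
/-- A prime `q ∉ σ(M)` with `M` of `q`-rank at most one, such that some element of order `q` of `M`
centralizes a non-identity element of `M_σ`, lies in `κ(M)`. -/
theorem mem_kappa_of_nonregular [Finite G] (hodd : Odd (Nat.card G)) (M : Subgroup G)
    (q : ℕ) (hq : q.Prime) (hqσ : q ∉ sigma M) (hrk : PRankLE q 1 M)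
    (e : G) (heM : e ∈ M) (heo : orderOf e = q) (y : G) (hy : y ∈ sigmaCore M) (hy1 : y ≠ 1)
    (hey : e * y = y * e) : q ∈ kappa M := by
  have : Fact q.Prime := ⟨hq⟩
  have heo' : orderOf (⟨e, heM⟩ : M) = q := by
    rw [← heo]
    exact Subgroup.orderOf_mk e heM
  refine ⟨hq, ?_, hqσ, ?_⟩
  · rw [← heo']
    exact orderOf_dvd_natCard _
  · intro P
    refine ⟨bg_sylow_cyclic_of_prank_one hodd (le_refl M) q hrk P, ?_⟩
    have hZ : IsPGroup q (Subgroup.zpowers (⟨e, heM⟩ : M)) :=
      IsPGroup.of_card (n := 1) (by rw [Nat.card_zpowers, heo', pow_one])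
    obtain ⟨Q, hQ⟩ := hZ.exists_le_sylow
    obtain ⟨m, hm⟩ := MulAction.exists_smul_eq M Q P
    have hmem : m * (⟨e, heM⟩ : M) * m⁻¹ ∈ (P : Subgroup M) := by
      have h1 : MulAut.conj m • (⟨e, heM⟩ : M) ∈ MulAut.conj m • (Q : Subgroup M) :=
        Subgroup.smul_mem_pointwise_smul _ _ _ (hQ (Subgroup.mem_zpowers _))
      rw [← Sylow.pointwise_smul_def, ← Sylow.smul_def, hm] at h1
      simpa [MulAut.smul_def] using h1
    have hMn : M ≤ Subgroup.normalizer ((sigmaCore M : Subgroup G) : Set G) :=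
      Cfsg.Agent.Lib.helper71.BGA.le_normalizer_sigmaCore M
    refine ⟨m * (⟨e, heM⟩ : M) * m⁻¹, hmem, ?_, (m : G) * y * (m : G)⁻¹, ?_, ?_, ?_⟩
    · intro h1
      have h2 : (⟨e, heM⟩ : M) = 1 := by
        have h3 : m⁻¹ * (m * (⟨e, heM⟩ : M) * m⁻¹) * m = m⁻¹ * 1 * m := by rw [h1]
        simpa [mul_assoc] using h3
      rw [h2, orderOf_one] at heo'
      exact hq.ne_one heo'.symm
    · exact (Subgroup.mem_normalizer_iff.mp (hMn m.2) y).mp hy
    · intro h1
      apply hy1
      have h3 : (m : G)⁻¹ * ((m : G) * y * (m : G)⁻¹) * (m : G) = (m : G)⁻¹ * 1 * (m : G) := by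
        rw [h1]
      simpa [mul_assoc] using h3
    · simp only [Subgroup.coe_mul, Subgroup.coe_inv]
      calc (m : G) * e * (m : G)⁻¹ * ((m : G) * y * (m : G)⁻¹)
          = (m : G) * (e * y) * (m : G)⁻¹ := by group
        _ = (m : G) * (y * e) * (m : G)⁻¹ := by rw [hey]
        _ = (m : G) * y * (m : G)⁻¹ * ((m : G) * e * (m : G)⁻¹) := by group

open Cfsg.Agent.Lib.helper8 Cfsg.Agent.Lib.helper13 in
/-- PN for a subgroup `U` of a complement `E` of `M_σ`: if the Sylow `p`-subgroups of `G` are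
nonabelian for some `p ∈ τ₂(M)`, `U ≤ E` contains every `p`-element of `E` and no prime of `κ(M)`
divides the order of `U`, then `U` has a subgroup `U₀` of the same exponent all of whose
non-identity elements act regularly on `M_σ`. -/
theorem bg8_nonab_sub [Finite G] (hG : IsMinSimpleOddOrder G) (M : Subgroup G) (hM : IsCoatom M)
    (E : Subgroup G) (hE : IsComplIn E (sigmaCore M) M) (U : Subgroup G) (hUE : U ≤ E)
    (_hUn : E ≤ Subgroup.normalizer (U : Set G))
    (hHall : ∀ q : ℕ, q.Prime → q ∣ Nat.card U → q ∉ kappa M)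
    (p : ℕ) [Fact p.Prime] (hp : p ∈ tau2 M)
    (hpU : ∀ x ∈ E, ∀ k : ℕ, x ^ p ^ k = 1 → x ∈ U)
    (hS : ∀ S : Sylow p G, ¬ IsMulCommutative (S : Subgroup G)) :
    ∃ U₀ : Subgroup G, U₀ ≤ U ∧ Monoid.exponent U₀ = Monoid.exponent U ∧
      ∀ e ∈ U₀, e ≠ 1 → sigmaCore M ⊓ Subgroup.centralizer ({e} : Set G) = ⊥ := by
  have hpp : p.Prime := Fact.out
  obtain ⟨hodd, -, -, -⟩ := id hG
  obtain ⟨A, hAE, hAe, hA2⟩ := bg7_exists_elemAb_compl M E hE p hp
  have hA : A ≤ E ∧ IsElementaryAbelian p A ∧ Nat.card A = p ^ 2 := ⟨hAE, hAe, hA2⟩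
  have hAM : A ≤ M := hAE.trans hE.1
  have hAU : A ≤ U := fun a ha => hpU a (hAE ha) 1 (by rw [pow_one]; exact hAe.2 a ha)
  obtain ⟨hτ, ⟨hA₀c, -⟩, hfpf⟩ := Cfsg.Agent.S1419.result hG M hM E hE p hp hS A hA
  obtain ⟨⟨hEA, -⟩, -, -⟩ := bg8_h18 hG M hM E hE p hp A hA
  have hA₀n := bg8_normalizes_cent M E A hE.1 hEA
  have hroot := bg8_no_root hG M hM E hE p hp hS A hA
  set A₀ : Subgroup G := A ⊓ Subgroup.centralizer ((sigmaCore M : Subgroup G) : Set G)
    with hA₀def
  have hA₀A : A₀ ≤ A := inf_le_left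
  have hA₀U : A₀ ≤ U := hA₀A.trans hAU
  have hA₀comm : ∀ x ∈ A₀, ∀ y ∈ A₀, x * y = y * x := by
    intro x hx y hy
    have h1 := hAe.1
    rw [isMulCommutative_iff] at h1
    exact congrArg Subtype.val (h1 ⟨x, hA₀A hx⟩ ⟨y, hA₀A hy⟩)
  have hA₀p : ∀ x ∈ A₀, x ^ p = 1 := fun x hx => hAe.2 x (hA₀A hx)
  -- the `U`-version of `bg8_cent_le`
  have hcent : ∀ x ∈ sigmaCore M, x ≠ 1 → U ⊓ Subgroup.centralizer ({x} : Set G) ≤ A₀ := by
    intro x hx hx1 e he
    obtain ⟨heU, hec⟩ := Subgroup.mem_inf.mp he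
    have heE : e ∈ E := hUE heU
    have hex : Commute e x := (Subgroup.mem_centralizer_iff.mp hec x rfl).symm
    have hprime : ∀ r : ℕ, r.Prime → r ∣ orderOf e → r = p := by
      intro r hr hrd
      by_contra hrp
      have hr2 : r ∉ tau2 M := by rw [hτ]; exact hrp
      have hfo : orderOf (e ^ (orderOf e / r)) = r :=
        orderOf_pow_orderOf_div (orderOf_pos e).ne' hrd
      have hfE : e ^ (orderOf e / r) ∈ E := E.pow_mem heE _
      have h13 := bg8_tau13 hG M hM E hE _ hfE r hr hfo hr2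
      have hrσ : r ∉ sigma M := by
        rcases h13 with h | h
        · exact h.2.1
        · exact h.2.1
      have hrk : PRankLE r 1 M := by
        rcases h13 with h | h
        · exact h.2.2.2.2
        · exact h.2.2.2
      have hκ := mem_kappa_of_nonregular hodd M r hr hrσ hrk _ (hE.1 hfE) hfo x hx hx1
        (show Commute (e ^ (orderOf e / r)) x from Commute.pow_left hex _).eq
      refine hHall r hr ?_ hκ
      have h1 : orderOf (⟨e ^ (orderOf e / r), U.pow_mem heU _⟩ : U) = r :=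
        (Subgroup.orderOf_mk (e ^ (orderOf e / r)) (U.pow_mem heU _)).trans hfo
      rw [← h1]
      exact orderOf_dvd_natCard _
    have hk : orderOf e = p ^ (orderOf e).primeFactorsList.length :=
      Nat.eq_prime_pow_of_unique_prime_dvd (orderOf_pos e).ne' (fun {m} hm hmd => hprime m hm hmd)
    generalize (orderOf e).primeFactorsList.length = k at hk
    rcases k with _ | k
    · rw [pow_zero, orderOf_eq_one_iff] at hk
      rw [hk]; exact Subgroup.one_mem _
    · have hdiv : orderOf e / p = p ^ k := by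
        rw [hk, pow_succ, Nat.mul_div_cancel _ hpp.pos]
      have ho' : orderOf (e ^ p ^ k) = p := by
        rw [← hdiv]
        exact orderOf_pow_orderOf_div (orderOf_pos e).ne'
          (by rw [hk]; exact dvd_pow_self p (by omega))
      have hX'E : Subgroup.zpowers (e ^ p ^ k) ≤ E := by
        rw [Subgroup.zpowers_le]; exact E.pow_mem heE _
      have hX'c : Nat.card (Subgroup.zpowers (e ^ p ^ k)) = p := by rw [Nat.card_zpowers, ho']
      have hX'eq : Subgroup.zpowers (e ^ p ^ k) = A₀ := by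
        by_contra hne
        have h1 := (hfpf _ hX'E hX'c hne).1
        have h2 : x ∈ sigmaCore M ⊓
            Subgroup.centralizer ((Subgroup.zpowers (e ^ p ^ k) : Subgroup G) : Set G) := by
          refine Subgroup.mem_inf.mpr ⟨hx, ?_⟩
          rw [Subgroup.mem_centralizer_iff]
          intro y hy
          obtain ⟨j, rfl⟩ := Subgroup.mem_zpowers_iff.mp hy
          exact (Commute.zpow_left (Commute.pow_left hex _) j).eq
        rw [h1, Subgroup.mem_bot] at h2
        exact hx1 h2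
      rcases k with _ | k
      · have h1 : e ∈ Subgroup.zpowers (e ^ p ^ 0) := by
          rw [pow_zero, pow_one]; exact Subgroup.mem_zpowers e
        rw [hX'eq] at h1
        exact h1
      · exfalso
        have hc := hroot (e ^ p ^ k) (E.pow_mem heE _)
          (by
            rw [← pow_mul, ← pow_succ, ← hX'eq]
            exact Subgroup.mem_zpowers _)
          (by
            rw [← pow_mul, ← pow_add, ← hk]
            exact pow_orderOf_eq_one e)
        rw [← pow_mul, ← pow_succ] at hc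
        rw [hc, orderOf_one] at ho'
        exact hpp.ne_one ho'.symm
  -- the complement, inside the group `↥U`
  have hA₀nU : U ≤ Subgroup.normalizer (A₀ : Set G) := hUE.trans hA₀n
  have hKn : (A₀.subgroupOf U).Normal := Subgroup.normal_subgroupOf_of_le_normalizer hA₀nU
  have hKc : IsMulCommutative (A₀.subgroupOf U) := by
    rw [isMulCommutative_iff]
    intro x y
    exact Subtype.ext (Subtype.ext (hA₀comm _ (Subgroup.mem_subgroupOf.mp x.2) _
      (Subgroup.mem_subgroupOf.mp y.2)))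
  have hKp : ∀ k ∈ A₀.subgroupOf U, k ^ p = 1 := by
    intro k hk
    have h1 := hA₀p _ (Subgroup.mem_subgroupOf.mp hk)
    exact Subtype.ext (by simpa using h1)
  have hrootU : ∀ c : U, c ^ p ∈ A₀.subgroupOf U → c ^ p ^ 2 = 1 → c ^ p = 1 := by
    intro c hc hc2
    have h1 : (c : G) ^ p ∈ A₀ := by simpa [Subgroup.mem_subgroupOf] using hc
    have h2 : (c : G) ^ p ^ 2 = 1 := by
      have := congrArg Subtype.val hc2
      simpa using this
    have h3 := hroot (c : G) (hUE c.2) h1 h2
    exact Subtype.ext (by simpa using h3)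
  obtain ⟨P⟩ : Nonempty (Sylow p U) := inferInstance
  have hP : ∀ x ∈ (P : Subgroup U), ∀ y ∈ (P : Subgroup U), x * y = y * x := by
    intro x hx y hy
    have hQ : IsPGroup p ((P : Subgroup U).map U.subtype) := P.isPGroup'.map U.subtype
    have h1 := bg8_psub_comm (bg8_h17 hG) M hM p hp A ⟨hAM, hAe, hA2⟩ _
      ((Subgroup.map_subtype_le _).trans (hUE.trans hE.1)) hQ (x : G) ⟨x, hx, rfl⟩ (y : G)
      ⟨y, hy, rfl⟩
    exact Subtype.ext h1
  obtain ⟨H, hH⟩ := bg8_compl_abs p (A₀.subgroupOf U) hKp P hP hrootU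
  have hpH : p ∣ Nat.card H := by
    have h1 := hH.card_mul_card
    have h2 : Nat.card (A₀.subgroupOf U) = p := by
      rw [Nat.card_congr (Subgroup.subgroupOfEquivOfLe hA₀U).toEquiv]; exact hA₀c
    have h3 : p ^ 2 ∣ Nat.card U := by
      rw [← hA2]; exact Subgroup.card_dvd_of_le hAU
    rw [← h1, h2, pow_two] at h3
    exact (Nat.mul_dvd_mul_iff_left hpp.pos).mp h3
  have hexp := bg8_exp_abs p (A₀.subgroupOf U) H hH hKp hpH hrootU
  refine ⟨H.map U.subtype, Subgroup.map_subtype_le H, ?_, ?_⟩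
  · rw [← hexp]
    exact (Monoid.exponent_eq_of_mulEquiv
      (H.equivMapOfInjective U.subtype U.subtype_injective)).symm
  · rintro _ ⟨e, heH, rfl⟩ he1
    rw [eq_bot_iff]
    intro x hx
    rw [Subgroup.mem_bot]
    by_contra hx1
    obtain ⟨hxσ, hxc⟩ := Subgroup.mem_inf.mp hx
    have h1 : (e : G) ∈ U ⊓ Subgroup.centralizer ({x} : Set G) := by
      refine Subgroup.mem_inf.mpr ⟨e.2, ?_⟩
      rw [Subgroup.mem_centralizer_iff]
      intro y hy
      rw [Set.mem_singleton_iff] at hy
      subst hy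
      exact (Subgroup.mem_centralizer_iff.mp hxc _ rfl).symm
    have h2 : (e : G) ∈ A₀ := hcent x hxσ hx1 h1
    have h3 : e ∈ A₀.subgroupOf U ⊓ H :=
      Subgroup.mem_inf.mpr ⟨Subgroup.mem_subgroupOf.mpr h2, heH⟩
    rw [hH.disjoint.eq_bot, Subgroup.mem_bot] at h3
    apply he1
    rw [h3]
    rfl

end Cfsg.Agent.Lib.helper54.PNU
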