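import Mathlib

/-!
# Sylow subgroups of "Schmidt type": the intrinsic predicate `SL`

`SL p P` records the properties of the normal Sylow `p`-subgroup `P` of a minimal non-nilpotent
group that are used for the `p`-length one theorem:

* `P` has class at most two and `P / Z(P)` has exponent `p`;
* for every non-central `w` the map `x ↦ ⁅w, x⁆` is onto `Z(P)`;
* if `P = Z(P)⟨w, y⟩` with `w` non-central, then `p ≠ 3`, and for `p = 2` all involutions of
  `P` are central.

Also: `fixed_le_commutator`, a coprime action lemma (`N = [N, D]` implies `C_N(D) ≤ N'`).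
-/

set_option autoImplicit false
set_option linter.style.haveILetI false

namespace Cfsg.Agent.Lib.helper54

open scoped commutatorElement

/-- Intrinsic structure of a Sylow subgroup of Schmidt type. -/
def SL (p : ℕ) (P : Type*) [Group P] : Prop :=
  (∀ a b c : P, ⁅a, b⁆ * c = c * ⁅a, b⁆) ∧
  (∀ a c : P, a ^ p * c = c * a ^ p) ∧
  (∀ w z : P, (∃ c, w * c ≠ c * w) → (∀ c, z * c = c * z) → ∃ x, ⁅w, x⁆ = z) ∧
  ((∃ w y : P, (∃ c, w * c ≠ c * w) ∧
      ∀ x : P, ∃ z : P, (∀ c, z * c = c * z) ∧ ∃ i j : ℕ, x = z * w ^ i * y ^ j) →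
    p ≠ 3 ∧ (p = 2 → ∀ v : P, v ^ 2 = 1 → ∀ c, v * c = c * v))

theorem SL.of_mulEquiv {p : ℕ} {P P' : Type*} [Group P] [Group P'] (e : P ≃* P')
    (h : SL p P) : SL p P' := by
  obtain ⟨h1, h2, h3, h4⟩ := h
  refine ⟨?_, ?_, ?_, ?_⟩
  · intro a b c
    have := congrArg e (h1 (e.symm a) (e.symm b) (e.symm c))
    simpa [map_mul, map_commutatorElement] using this
  · intro a c
    have := congrArg e (h2 (e.symm a) (e.symm c))
    simpa [map_mul, map_pow] using this
  · intro w z hw hz
    obtain ⟨c, hc⟩ := hw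
    have hw' : ∃ c', e.symm w * c' ≠ c' * e.symm w := by
      refine ⟨e.symm c, fun hcon => hc ?_⟩
      have := congrArg e hcon
      simpa [map_mul] using this
    have hz' : ∀ c', e.symm z * c' = c' * e.symm z := by
      intro c'
      apply e.injective
      have := hz (e c')
      simpa [map_mul] using this
    obtain ⟨x, hx⟩ := h3 (e.symm w) (e.symm z) hw' hz'
    refine ⟨e x, ?_⟩
    have := congrArg e hx
    simpa [map_commutatorElement] using this
  · rintro ⟨w, y, ⟨c, hc⟩, hgen⟩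
    have hex : ∃ w' y' : P, (∃ c', w' * c' ≠ c' * w') ∧
        ∀ x : P, ∃ z : P, (∀ c', z * c' = c' * z) ∧ ∃ i j : ℕ, x = z * w' ^ i * y' ^ j := by
      refine ⟨e.symm w, e.symm y, ⟨e.symm c, fun hcon => hc ?_⟩, ?_⟩
      · have := congrArg e hcon
        simpa [map_mul] using this
      · intro x
        obtain ⟨z, hz, i, j, hx⟩ := hgen (e x)
        refine ⟨e.symm z, ?_, i, j, ?_⟩
        · intro c'
          apply e.injective
          have := hz (e c')
          simpa [map_mul] using this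
        · apply e.injective
          simpa [map_mul, map_pow] using hx
    obtain ⟨hp3, hp2⟩ := h4 hex
    refine ⟨hp3, fun hp v hv c' => ?_⟩
    have hv' : (e.symm v) ^ 2 = 1 := by
      rw [← map_pow, hv, map_one]
    have := congrArg e (hp2 hp (e.symm v) hv' (e.symm c'))
    simpa [map_mul] using this

/-- Coprime action: if `N = [N, D]` then the fixed points of `D` on `N` lie in `N'`. -/
theorem fixed_le_commutator {G : Type*} [Group G] [Finite G] (N D : Subgroup G)
    (hDN : D ≤ Subgroup.normalizer (N : Set G)) (hcop : (Nat.card D).Coprime (Nat.card N))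
    (hgen : N ≤ ⁅N, D⁆) : N ⊓ Subgroup.centralizer (D : Set G) ≤ ⁅N, N⁆ := by
  classical
  haveI : Fintype D := Fintype.ofFinite D
  have hmem : ∀ (d : D) (n : N), (d : G) * n * (d : G)⁻¹ ∈ N := by
    intro d n
    have := hDN d.2
    rw [Subgroup.mem_normalizer_iff] at this
    exact (this n).mp n.2
  let cj : D → (N →* N) := fun d =>
    { toFun := fun n => ⟨(d : G) * n * (d : G)⁻¹, hmem d n⟩
      map_one' := by
        apply Subtype.ext
        simp
      map_mul' := by
        intro a b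
        apply Subtype.ext
        simp [mul_assoc] }
  have hcj : ∀ (d : D) (n : N), ((cj d n : N) : G) = (d : G) * n * (d : G)⁻¹ := fun _ _ => rfl
  let φ : N →* Abelianization N := Abelianization.of
  let ν : N →* Abelianization N := ∏ d : D, φ.comp (cj d)
  have hν : ∀ n : N, ν n = ∏ d : D, φ (cj d n) := by
    intro n
    show (∏ d : D, φ.comp (cj d)) n = _
    rw [MonoidHom.finsetProd_apply]
    rfl
  have hinv : ∀ (d₀ : D) (n : N), ν (cj d₀ n) = ν n := by
    intro d₀ n
    rw [hν, hν]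
    have h1 : ∀ d : D, φ (cj d (cj d₀ n)) = φ (cj (d * d₀) n) := by
      intro d
      congr 1
      apply Subtype.ext
      rw [hcj, hcj, hcj]
      simp [mul_assoc]
    rw [Finset.prod_congr rfl (fun d _ => h1 d)]
    exact Equiv.prod_comp (Equiv.mulRight d₀) (fun d => φ (cj d n))
  have hker : ⁅N, D⁆ ≤ ν.ker.map N.subtype := by
    rw [Subgroup.commutator_le]
    intro g₁ hg₁ g₂ hg₂
    refine ⟨(⟨g₁, hg₁⟩ : N) * cj ⟨g₂, hg₂⟩ (⟨g₁, hg₁⟩ : N)⁻¹, ?_, ?_⟩
    · rw [SetLike.mem_coe, MonoidHom.mem_ker, map_mul, hinv, map_inv, mul_inv_cancel]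
    · show g₁ * (g₂ * g₁⁻¹ * g₂⁻¹) = ⁅g₁, g₂⁆
      rw [commutatorElement_def]
      simp [mul_assoc]
  intro c hc
  obtain ⟨hcN, hcD⟩ := Subgroup.mem_inf.mp hc
  obtain ⟨c', hc', hcc'⟩ := hker (hgen hcN)
  have hc'eq : c' = ⟨c, hcN⟩ := Subtype.ext hcc'
  rw [SetLike.mem_coe, MonoidHom.mem_ker, hc'eq, hν] at hc'
  have hfix : ∀ d : D, cj d ⟨c, hcN⟩ = ⟨c, hcN⟩ := by
    intro d
    apply Subtype.ext
    rw [hcj]
    have := (Subgroup.mem_centralizer_iff.mp hcD) (d : G) d.2
    show (d : G) * c * (d : G)⁻¹ = c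
    rw [this, mul_inv_cancel_right]
  rw [Finset.prod_congr rfl (fun d _ => by rw [hfix d]), Finset.prod_const, Finset.card_univ,
    ← Nat.card_eq_fintype_card] at hc'
  have h2 : φ ⟨c, hcN⟩ ^ Nat.card N = 1 := by
    rw [← map_pow, pow_card_eq_one', map_one]
  have h3 : φ ⟨c, hcN⟩ = 1 := by
    have hd1 := orderOf_dvd_of_pow_eq_one hc'
    have hd2 := orderOf_dvd_of_pow_eq_one h2
    have := Nat.eq_one_of_dvd_coprimes hcop hd1 hd2
    exact orderOf_eq_one_iff.mp this
  have h4 : (⟨c, hcN⟩ : N) ∈ commutator N := by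
    rw [← Abelianization.ker_of, MonoidHom.mem_ker]
    exact h3
  rw [← Subgroup.map_subtype_commutator]
  exact ⟨⟨c, hcN⟩, h4, rfl⟩

end Cfsg.Agent.Lib.helper54
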