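import Mathlib
import Cfsg.Prelude.Def_OddOrderLocal
import Cfsg.Agent.Lib.helper8.BGTen1
import Cfsg.Agent.Lib.helper29.Basic
import Cfsg.Agent.Lib.helper1.Coprime
import Cfsg.Agent.Lib.helper65.Fitting
import Cfsg.Agent.Lib.helper54.SchmidtSL
import Cfsg.Agent.S1350
import Cfsg.Agent.S1404

/-!
# Bender–Glauberman: `[M_σ, E] = M_σ`, `C_{M_σ}(E) ≤ (M_σ)'`, and `M_σ ∩ M^g`
-/

set_option autoImplicit false
set_option linter.style.haveILetI false
set_option linter.unusedSectionVars false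

namespace Cfsg.Agent.Lib.helper54

open Cfsg
open scoped commutatorElement

/-- Central factors drop out of commutators. -/
theorem commutatorElement_mul_central {Q : Type*} [Group Q] (a b z w : Q)
    (hz : ∀ g, z * g = g * z) (hw : ∀ g, w * g = g * w) : ⁅a * z, b * w⁆ = ⁅a, b⁆ := by
  calc ⁅a * z, b * w⁆ = a * (z * (b * w) * z⁻¹) * a⁻¹ * w⁻¹ * b⁻¹ := by
        rw [commutatorElement_def]; group
    _ = a * (b * w) * a⁻¹ * w⁻¹ * b⁻¹ := by rw [hz (b * w), mul_inv_cancel_right]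
    _ = a * b * (w * a⁻¹ * w⁻¹) * b⁻¹ := by group
    _ = ⁅a, b⁆ := by rw [hw a⁻¹, mul_inv_cancel_right, commutatorElement_def]

/-- If `X = E K` with `K` a normal soluble subgroup, `E ∩ K = 1`, and no normal subgroup of `X`
containing `X'` has index divisible by a prime divisor of `|K|`, then `[K, E] = K`. -/
theorem comm_eq_of_residual {X : Type*} [Group X] [Finite X] (K E : Subgroup X) [hKn : K.Normal]
    (hKsol : Group.IsSolvable K) (hprod : ∀ x : X, ∃ e ∈ E, ∃ k ∈ K, x = e * k)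
    (hdisj : E ⊓ K = ⊥) (hcard : Nat.card E * Nat.card K = Nat.card X)
    (hres : ∀ q : ℕ, q.Prime → q ∣ Nat.card K → ∀ N : Subgroup X, N.Normal → commutator X ≤ N →
      ¬ q ∣ N.index) : ⁅K, E⁆ = K := by
  classical
  have hEN : E ≤ Subgroup.normalizer (K : Set X) := by
    rw [Subgroup.normalizer_eq_top_iff.mpr hKn]; exact le_top
  obtain ⟨C, hCdef⟩ : ∃ C : Subgroup X, C = ⁅K, E⁆ := ⟨_, rfl⟩
  have hCK : C ≤ K := hCdef ▸ Subgroup.commutator_le_left K E
  have hCn : C.Normal := by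
    rw [← Subgroup.normalizer_eq_top_iff, eq_top_iff]
    intro x _
    obtain ⟨e, he, k, hk, rfl⟩ := hprod x
    have h1 : E ≤ Subgroup.normalizer (C : Set X) :=
      hCdef ▸ Cfsg.Agent.Lib.helper1.right_le_normalizer_commutator hEN
    have h2 : K ≤ Subgroup.normalizer (C : Set X) :=
      hCdef ▸ Cfsg.Agent.Lib.helper1.left_le_normalizer_commutator K E
    exact Subgroup.mul_mem _ (h1 he) (h2 hk)
  haveI := hCn
  have hKKn : (⁅K, K⁆ : Subgroup X).Normal := inferInstance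
  obtain ⟨D, hDdef⟩ : ∃ D : Subgroup X, D = C ⊔ ⁅K, K⁆ := ⟨_, rfl⟩
  have hDn : D.Normal := by rw [hDdef]; infer_instance
  haveI := hDn
  have hDK : D ≤ K := by
    rw [hDdef]; exact sup_le hCK (Subgroup.commutator_le_left K K)
  have hcent : ∀ k ∈ K, ∀ x : X, ⁅k, x⁆ ∈ D := by
    intro k hk x
    obtain ⟨e, he, k', hk', rfl⟩ := hprod x
    have h1 : ⁅k, e * k'⁆ = ⁅k, e⁆ * (e * ⁅k, k'⁆ * e⁻¹) := by
      simp only [commutatorElement_def]; group
    rw [h1, hDdef]
    apply Subgroup.mul_mem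
    · exact Subgroup.mem_sup_left (hCdef ▸ Subgroup.commutator_mem_commutator hk he)
    · apply Subgroup.mem_sup_right
      exact hKKn.conj_mem _ (Subgroup.commutator_mem_commutator hk hk') e
  have hcentQ : ∀ k ∈ K, ∀ y : X ⧸ D,
      (QuotientGroup.mk' D k) * y = y * (QuotientGroup.mk' D k) := by
    intro k hk y
    obtain ⟨x, rfl⟩ := QuotientGroup.mk'_surjective D y
    rw [← commutatorElement_eq_one_iff_mul_comm, ← map_commutatorElement,
      QuotientGroup.mk'_apply, QuotientGroup.eq_one_iff]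
    exact hcent k hk x
  obtain ⟨N, hNdef⟩ : ∃ N : Subgroup X, N = D ⊔ E := ⟨_, rfl⟩
  have hDN : D ≤ N := hNdef ▸ le_sup_left
  have hENle : E ≤ N := hNdef ▸ le_sup_right
  have hcommN : ∀ x₁ x₂ : X, ⁅x₁, x₂⁆ ∈ N := by
    intro x₁ x₂
    obtain ⟨e₁, he₁, k₁, hk₁, rfl⟩ := hprod x₁
    obtain ⟨e₂, he₂, k₂, hk₂, rfl⟩ := hprod x₂
    have h1 : QuotientGroup.mk' D ⁅e₁ * k₁, e₂ * k₂⁆ = QuotientGroup.mk' D ⁅e₁, e₂⁆ := by
      rw [map_commutatorElement, map_mul, map_mul,
        commutatorElement_mul_central _ _ _ _ (hcentQ k₁ hk₁) (hcentQ k₂ hk₂),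
        ← map_commutatorElement]
    have h2 : (⁅e₁, e₂⁆)⁻¹ * ⁅e₁ * k₁, e₂ * k₂⁆ ∈ D := by
      rw [← QuotientGroup.eq_one_iff, ← QuotientGroup.mk'_apply, map_mul, map_inv, h1,
        inv_mul_cancel]
    have h3 : ⁅e₁ * k₁, e₂ * k₂⁆ = ⁅e₁, e₂⁆ * ((⁅e₁, e₂⁆)⁻¹ * ⁅e₁ * k₁, e₂ * k₂⁆) := by
      rw [mul_inv_cancel_left]
    rw [h3]
    have h4 : ⁅e₁, e₂⁆ ∈ E :=
      E.mul_mem (E.mul_mem (E.mul_mem he₁ he₂) (E.inv_mem he₁)) (E.inv_mem he₂)
    exact N.mul_mem (hENle h4) (hDN h2)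
  have hNcomm : commutator X ≤ N := by
    rw [commutator_eq_closure, Subgroup.closure_le]
    rintro _ ⟨a, b, rfl⟩
    exact hcommN a b
  have hNn : N.Normal := by
    constructor
    intro n hn g
    have h1 : g * n * g⁻¹ = ⁅g, n⁆ * n := by rw [commutatorElement_def]; group
    rw [h1]
    exact N.mul_mem (hcommN g n) hn
  have hEidx : E.index = Nat.card K := by
    have h1 := Subgroup.card_mul_index E
    rw [← hcard] at h1
    exact Nat.eq_of_mul_eq_mul_left Nat.card_pos h1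
  have hNidx : N.index ∣ Nat.card K := hEidx ▸ Subgroup.index_dvd_of_le hENle
  have hNtop : N = ⊤ := by
    rw [← Subgroup.index_eq_one]
    by_contra hne
    obtain ⟨q, hq, hqd⟩ := Nat.exists_prime_and_dvd hne
    exact hres q hq (hqd.trans hNidx) N hNn hNcomm hqd
  have hKD : K ≤ D := by
    intro k hk
    have hkN : k ∈ D ⊔ E := by rw [← hNdef, hNtop]; exact Subgroup.mem_top k
    rw [← SetLike.mem_coe, Subgroup.normal_mul] at hkN
    obtain ⟨d, hd, e, he, hde⟩ := Set.mem_mul.mp hkN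
    have he' : e ∈ E ⊓ K := by
      refine ⟨he, ?_⟩
      have : e = d⁻¹ * k := by rw [← hde]; group
      rw [this]
      exact K.mul_mem (K.inv_mem (hDK hd)) hk
    rw [hdisj, Subgroup.mem_bot] at he'
    rw [← hde, he', mul_one]
    exact hd
  have hKC : K ≤ C := by
    haveI : Group.IsSolvable K := hKsol
    by_contra hnot
    have hnt : Nontrivial (↥K ⧸ C.subgroupOf K) := by
      by_contra hsub
      rw [not_nontrivial_iff_subsingleton] at hsub
      apply hnot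
      intro k hk
      have h1 : QuotientGroup.mk' (C.subgroupOf K) ⟨k, hk⟩ = 1 := Subsingleton.elim _ _
      rw [QuotientGroup.mk'_apply, QuotientGroup.eq_one_iff, Subgroup.mem_subgroupOf] at h1
      exact h1
    have hlt := Group.IsSolvable.commutator_lt_top_of_nontrivial (↥K ⧸ C.subgroupOf K)
    apply hlt.ne
    rw [eq_top_iff]
    intro y _
    obtain ⟨k, rfl⟩ := QuotientGroup.mk'_surjective (C.subgroupOf K) y
    have hkD : (k : X) ∈ C ⊔ ⁅K, K⁆ := by rw [← hDdef]; exact hKD k.2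
    rw [← SetLike.mem_coe, Subgroup.normal_mul] at hkD
    obtain ⟨c, hc, d, hd, hcd⟩ := Set.mem_mul.mp hkD
    rw [← Subgroup.map_subtype_commutator] at hd
    obtain ⟨d', hd', rfl⟩ := hd
    have hc' : (⟨c, hCK hc⟩ : K) ∈ C.subgroupOf K := Subgroup.mem_subgroupOf.mpr hc
    have hk : k = ⟨c, hCK hc⟩ * d' := Subtype.ext hcd.symm
    have h1 : QuotientGroup.mk' (C.subgroupOf K) (⟨c, hCK hc⟩ : K) = 1 := by
      rw [QuotientGroup.mk'_apply, QuotientGroup.eq_one_iff]
      exact hc'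
    rw [hk, map_mul, h1, one_mul]
    have h2 : (commutator ↥K).map (QuotientGroup.mk' (C.subgroupOf K)) ≤
        commutator (↥K ⧸ C.subgroupOf K) := by
      rw [commutator_def, commutator_def, Subgroup.map_commutator]
      exact Subgroup.commutator_mono le_top le_top
    exact h2 ⟨d', hd', rfl⟩
  rw [← hCdef]
  exact le_antisymm hCK hKC

section bg

variable {G : Type*} [Group G] [Finite G]

/-- `M` normalizes the image of a normal subgroup of `↥M`. -/
theorem le_normalizer_map_subtype (M : Subgroup G) (N : Subgroup ↥M) [hN : N.Normal] :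
    M ≤ Subgroup.normalizer ((N.map M.subtype : Subgroup G) : Set G) := by
  have h1 := Subgroup.le_normalizer_map (H := N) M.subtype
  rw [Subgroup.normalizer_eq_top_iff.mpr hN, ← MonoidHom.range_eq_map, Subgroup.range_subtype]
    at h1
  exact h1

/-- The fusion lemma B-G 10.1(a), from S1404. -/
theorem bgFusHyp (hG : IsMinSimpleOddOrder G) : Cfsg.Agent.Lib.helper8.BGFusHyp G := by
  intro M hM p hp X hXp hX1 hXM g hg
  have : Fact p.Prime := ⟨hp.1⟩
  exact (Cfsg.Agent.S1404.result hG M hM p hp X hXp hX1 hXM).1 g hg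

/-- `[M_σ, E] = M_σ` for a complement `E` of `M_σ` in `M`. -/
theorem sigmaCore_comm_compl (hG : IsMinSimpleOddOrder G) (M : Subgroup G) (hM : IsCoatom M)
    (E : Subgroup G) (hE : IsComplIn E (sigmaCore M) M) : ⁅sigmaCore M, E⁆ = sigmaCore M := by
  classical
  obtain ⟨hodd, hsimple, hnc, hsolv⟩ := id hG
  obtain ⟨hEM, hMsM, hdisj, hprod⟩ := id hE
  haveI : Group.IsSolvable ↥M := hsolv M hM.1
  have hKsol : Group.IsSolvable ↥(piCore (sigma M) ↥M) := inferInstance
  have hmapE : (E.subgroupOf M).map M.subtype = E := Subgroup.map_subgroupOf_eq_of_le hEM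
  have key := comm_eq_of_residual (piCore (sigma M) ↥M) (E.subgroupOf M) hKsol ?_ ?_ ?_ ?_
  · have h1 := congrArg (Subgroup.map M.subtype) key
    rw [Subgroup.map_commutator, hmapE] at h1
    exact h1
  · intro x
    obtain ⟨a, ha, b, hb, hab⟩ := hprod (x : G) x.2
    unfold sigmaCore at hb
    obtain ⟨k, hk, rfl⟩ := hb
    exact ⟨⟨a, hEM ha⟩, Subgroup.mem_subgroupOf.mpr ha, k, hk, Subtype.ext hab⟩
  · rw [eq_bot_iff]
    intro y hy
    obtain ⟨hy1, hy2⟩ := Subgroup.mem_inf.mp hy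
    have h1 : (y : G) ∈ E ⊓ sigmaCore M := ⟨Subgroup.mem_subgroupOf.mp hy1, ⟨y, hy2, rfl⟩⟩
    rw [hdisj, Subgroup.mem_bot] at h1
    rw [Subgroup.mem_bot]
    exact Subtype.ext h1
  · have h1 := Cfsg.Agent.Lib.helper29.IsComplIn.card_mul hE
    have h2 : Nat.card (E.subgroupOf M) = Nat.card E :=
      Nat.card_congr (Subgroup.subgroupOfEquivOfLe hEM).toEquiv
    have h3 : Nat.card (sigmaCore M) = Nat.card (piCore (sigma M) ↥M) :=
      Subgroup.card_map_of_injective M.subtype_injective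
    rw [h2, ← h3]
    exact h1
  · intro q hq hqd N hNn hNc
    have hqσ : q ∈ sigma M :=
      Cfsg.Agent.Lib.helper65.piCore_isPiGrp (G := M) (sigma M) q hq hqd
    haveI : Fact q.Prime := ⟨hq⟩
    haveI := hNn
    exact Cfsg.Agent.Lib.helper8.bg_not_dvd_index_of_comm
      (Cfsg.Agent.Lib.helper8.bg_sigma_residual hG (bgFusHyp hG) M hM hqσ) N hNc

/-- `|E|` is prime to `|M_σ|`. -/
theorem compl_card_coprime (hG : IsMinSimpleOddOrder G) (M : Subgroup G) (hM : IsCoatom M)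
    (E : Subgroup G) (hE : IsComplIn E (sigmaCore M) M) :
    (Nat.card E).Coprime (Nat.card (sigmaCore M)) := by
  obtain ⟨-, hπ, hidx⟩ := (Cfsg.Agent.S1350.result hG M hM).1
  by_contra hnc
  obtain ⟨q, hq, hq1, hq2⟩ := Nat.Prime.not_coprime_iff_dvd.mp hnc
  apply hidx q hq (hπ q hq hq2)
  rw [← Cfsg.Agent.Lib.helper29.IsComplIn.card_left hE]
  exact hq1

/-- `C_{M_σ}(E) ≤ (M_σ)'`. -/
theorem sigmaCore_fixed_le (hG : IsMinSimpleOddOrder G) (M : Subgroup G) (hM : IsCoatom M)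
    (E : Subgroup G) (hE : IsComplIn E (sigmaCore M) M) :
    sigmaCore M ⊓ Subgroup.centralizer (E : Set G) ≤ ⁅sigmaCore M, sigmaCore M⁆ := by
  have hb := sigmaCore_comm_compl hG M hM E hE
  have hMn : M ≤ Subgroup.normalizer (sigmaCore M : Set G) :=
    le_normalizer_map_subtype M (piCore (sigma M) ↥M)
  exact fixed_le_commutator (sigmaCore M) E (hE.1.trans hMn) (compl_card_coprime hG M hM E hE)
    (le_of_eq hb.symm)

/-- `M_σ ∩ M^g` for `g ∉ M`: cyclic, a `β(M)'`-group, meeting `(M_σ)'` trivially.  `H1` is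
B-G 13.1 (S1423) and `H2` is B-G 12.10(c) (S1420). -/
theorem sigmaCore_inter_conj (hG : IsMinSimpleOddOrder G) (M : Subgroup G) (hM : IsCoatom M)
    (H1 : ∀ (q : ℕ) (X : Subgroup G), q ∈ sigma M → X ≤ M → Nat.card X = q →
      (q ∈ beta M ∨ X ≤ ⁅sigmaCore M, sigmaCore M⁆) → Subgroup.centralizer (X : Set G) ≤ M)
    (H2 : ∀ (q : ℕ) (P : Subgroup G), q ∈ sigma M → IsPGroup q P → P ≤ M → ¬ IsCyclic P →
      Subgroup.normalizer (P : Set G) ≤ M)
    (g : G) (hg : g ∉ M) :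
    IsCyclic ↥(sigmaCore M ⊓ M.map (MulAut.conj g).toMonoidHom) ∧
      (∀ p : ℕ, p.Prime → p ∣ Nat.card ↥(sigmaCore M ⊓ M.map (MulAut.conj g).toMonoidHom) →
        p ∉ beta M) ∧
      sigmaCore M ⊓ M.map (MulAut.conj g).toMonoidHom ⊓ ⁅sigmaCore M, sigmaCore M⁆ = ⊥ := by
  classical
  obtain ⟨D, hDdef⟩ : ∃ D : Subgroup G, D = sigmaCore M ⊓ M.map (MulAut.conj g).toMonoidHom :=
    ⟨_, rfl⟩
  rw [← hDdef]
  have hMsM : sigmaCore M ≤ M := Subgroup.map_subtype_le _
  have hDMs : D ≤ sigmaCore M := hDdef ▸ inf_le_left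
  have hDg : D ≤ M.map (MulAut.conj g).toMonoidHom := hDdef ▸ inf_le_right
  have hπ := (Cfsg.Agent.S1350.result hG M hM).1.2.1
  have key : ∀ (q : ℕ) [Fact q.Prime] (X : Subgroup G), q ∈ sigma M → IsPGroup q X → X ≠ ⊥ →
      X ≤ D → ¬ Subgroup.centralizer (X : Set G) ≤ M := by
    intro q _ X hq hXq hX1 hXD hcon
    have hXM : X ≤ M := hXD.trans (hDMs.trans hMsM)
    have hmap : X.map (MulAut.conj g⁻¹).toMonoidHom ≤ M := by
      rintro _ ⟨x, hx, rfl⟩
      obtain ⟨m, hm, hmx⟩ := hDg (hXD hx)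
      have h1 : (MulAut.conj g⁻¹).toMonoidHom x = m := by
        rw [← hmx]
        simp [mul_assoc]
      rw [h1]
      exact hm
    obtain ⟨m, hm, c, hc, hgmc⟩ :=
      (Cfsg.Agent.S1404.result hG M hM q hq X hXq hX1 hXM).1 g⁻¹ hmap
    apply hg
    have hcM : c ∈ M := hcon hc
    have h2 : g = (m * c)⁻¹ := by rw [← hgmc, inv_inv]
    rw [h2]
    exact M.inv_mem (M.mul_mem hm hcM)
  have hprime : ∀ x ∈ D, ∀ q : ℕ, q.Prime → orderOf x = q →
      q ∉ beta M ∧ ¬ Subgroup.zpowers x ≤ ⁅sigmaCore M, sigmaCore M⁆ := by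
    intro x hx q hq hxq
    haveI : Fact q.Prime := ⟨hq⟩
    have hcard : Nat.card (Subgroup.zpowers x) = q := by rw [Nat.card_zpowers, hxq]
    have hXD : Subgroup.zpowers x ≤ D := Subgroup.zpowers_le.mpr hx
    have hqσ : q ∈ sigma M := by
      apply hπ q hq
      rw [← hcard]
      exact Subgroup.card_dvd_of_le (hXD.trans hDMs)
    have hXq : IsPGroup q (Subgroup.zpowers x) :=
      IsPGroup.of_card (n := 1) (by rw [hcard, pow_one])
    have hX1 : Subgroup.zpowers x ≠ ⊥ := by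
      intro h
      rw [h, Subgroup.card_bot] at hcard
      exact hq.ne_one hcard.symm
    have hnot := key q (Subgroup.zpowers x) hqσ hXq hX1 hXD
    constructor
    · intro hβ
      exact hnot (H1 q _ hqσ (hXD.trans (hDMs.trans hMsM)) hcard (Or.inl hβ))
    · intro hle
      exact hnot (H1 q _ hqσ (hXD.trans (hDMs.trans hMsM)) hcard (Or.inr hle))
  have hbot : D ⊓ ⁅sigmaCore M, sigmaCore M⁆ = ⊥ := by
    by_contra hne
    have hcard : Nat.card ↥(D ⊓ ⁅sigmaCore M, sigmaCore M⁆) ≠ 1 :=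
      fun h => hne (Subgroup.card_eq_one.mp h)
    obtain ⟨q, hq, hqd⟩ := Nat.exists_prime_and_dvd hcard
    haveI : Fact q.Prime := ⟨hq⟩
    obtain ⟨y, hy⟩ := exists_prime_orderOf_dvd_card' q hqd
    have hyo : orderOf (y : G) = q := by rw [← hy]; exact Subgroup.orderOf_coe y
    apply (hprime (y : G) y.2.1 q hq hyo).2
    rw [Subgroup.zpowers_le]
    exact y.2.2
  have hβ : ∀ p : ℕ, p.Prime → p ∣ Nat.card ↥D → p ∉ beta M := by
    intro p hp hpd
    haveI : Fact p.Prime := ⟨hp⟩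
    obtain ⟨y, hy⟩ := exists_prime_orderOf_dvd_card' p hpd
    have hyo : orderOf (y : G) = p := by rw [← hy]; exact Subgroup.orderOf_coe y
    exact (hprime (y : G) y.2 p hp hyo).1
  refine ⟨?_, hβ, hbot⟩
  have hab : ∀ a ∈ D, ∀ b ∈ D, a * b = b * a := by
    intro a ha b hb
    have h1 : ⁅a, b⁆ ∈ D ⊓ ⁅sigmaCore M, sigmaCore M⁆ :=
      ⟨D.mul_mem (D.mul_mem (D.mul_mem ha hb) (D.inv_mem ha)) (D.inv_mem hb),
        Subgroup.commutator_mem_commutator (hDMs ha) (hDMs hb)⟩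
    rw [hbot, Subgroup.mem_bot] at h1
    exact commutatorElement_eq_one_iff_mul_comm.mp h1
  haveI : Group.IsNilpotent ↥D := by
    refine ⟨⟨1, ?_⟩⟩
    rw [Subgroup.upperCentralSeries_one, eq_top_iff]
    intro a _
    rw [Subgroup.mem_center_iff]
    intro b
    exact Subtype.ext (hab b b.2 a a.2)
  haveI : IsZGroup ↥D := by
    constructor
    intro q hq Q
    haveI : Fact q.Prime := ⟨hq⟩
    by_contra hnc
    have hQ'D : (Q : Subgroup ↥D).map D.subtype ≤ D := Subgroup.map_subtype_le _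
    have hQ'q : IsPGroup q ((Q : Subgroup ↥D).map D.subtype) := Q.2.map _
    have hQ'nc : ¬ IsCyclic ↥((Q : Subgroup ↥D).map D.subtype) := by
      intro hc
      apply hnc
      have e := Subgroup.equivMapOfInjective (Q : Subgroup ↥D) D.subtype D.subtype_injective
      haveI := hc
      exact isCyclic_of_surjective e.symm e.symm.surjective
    have hQ'1 : (Q : Subgroup ↥D).map D.subtype ≠ ⊥ := by
      intro h
      apply hQ'nc
      rw [h]
      infer_instance
    have hqσ : q ∈ sigma M := by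
      apply hπ q hq
      obtain ⟨n, hn⟩ := IsPGroup.iff_card.mp hQ'q
      have hn0 : n ≠ 0 := by
        rintro rfl
        rw [pow_zero] at hn
        exact hQ'1 (Subgroup.card_eq_one.mp hn)
      exact (dvd_pow_self q hn0).trans (hn ▸ Subgroup.card_dvd_of_le (hQ'D.trans hDMs))
    have hN := H2 q _ hqσ hQ'q (hQ'D.trans (hDMs.trans hMsM)) hQ'nc
    exact key q _ hqσ hQ'q hQ'1 hQ'D (le_trans (Subgroup.centralizer_le_normalizer _) hN)
  infer_instance

end bg

end Cfsg.Agent.Lib.helper54
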