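import Mathlib
import Cfsg.Prelude.Def_OddOrderLocal
import Cfsg.Agent.Lib.helper54.BGThirteen
import Cfsg.Agent.Lib.helper13.SigFus
import Cfsg.Agent.Lib.helper13.SylowIn
import Cfsg.Agent.Lib.helper13.BG11a
import Cfsg.Agent.Lib.helper8.BGTwelve
import Cfsg.Agent.Lib.helper8.BGTen4
import Cfsg.Agent.Lib.helper86.BG1424
import Cfsg.Agent.Lib.helper71.BGTwelveAux
import Cfsg.Agent.Lib.helper74.PronBasic
import Cfsg.Agent.S1350
import Cfsg.Agent.S1409

/-!
# Bender–Glauberman: prime action of a cyclic Sylow subgroup of a complement on `M_σ`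

`C_{M_σ}(x) = C_{M_σ}(S)` for every non-identity element `x` of a cyclic Sylow subgroup `S` of a
complement `E` of `M_σ` in `M`, from Theorem 12.5 (`H17`) and Theorem 13.1 (`H23`).
-/

set_option autoImplicit false
set_option linter.style.haveILetI false
set_option linter.unusedSectionVars false

namespace Cfsg.Agent.Lib.helper54.PrimeAct

open Cfsg
open scoped commutatorElement Pointwise

variable {G : Type*} [Group G] [Finite G]

/-- The part of Theorem 13.1 that is used: a Sylow subgroup of `M_σ` for a prime `q ∈ σ(M)` such that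
`(M_σ)'` contains a subgroup of order `q` lies in a unique maximal subgroup. -/
def H23 (G : Type*) [Group G] : Prop :=
  ∀ M : Subgroup G, IsCoatom M → ∀ (q : ℕ) [Fact q.Prime], q ∈ sigma M → ∀ X : Subgroup G, X ≤ M →
    Nat.card X = q → ∀ P : Sylow q ↥(sigmaCore M), X ≤ ⁅sigmaCore M, sigmaCore M⁆ →
      InUniqueMaximal ((P : Subgroup ↥(sigmaCore M)).map (sigmaCore M).subtype)

/-- The part of Theorem 12.5 that is used. -/
def H17 (G : Type*) [Group G] : Prop :=
  ∀ M : Subgroup G, IsCoatom M → ∀ (p : ℕ) [Fact p.Prime], p ∈ tau2 M → ∀ A : Subgroup G,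
    A ≤ M → IsElementaryAbelian p A → Nat.card A = p ^ 2 →
    Group.IsNilpotent (sigmaCore M) ∧
      (∀ P : Sylow p M, IsMulCommutative (P : Subgroup M) ∧
        (A ≤ (P : Subgroup M).map M.subtype →
          (∀ x ∈ (P : Subgroup M).map M.subtype, x ^ p = 1 ↔ x ∈ A) ∧
          ¬ Subgroup.normalizer ((((P : Subgroup M).map M.subtype : Subgroup G)) : Set G) ≤ M)) ∧
      M ≤ Subgroup.normalizer ((sigmaCore M ⊔ A : Subgroup G) : Set G) ∧
      sigmaCore M ⊓ Subgroup.centralizer (A : Set G) = ⊥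

/-- Sylow's conjugacy theorem for subgroups of `G`. -/
theorem sylow_conj {q : ℕ} [Fact q.Prime] {T₁ T₂ : Subgroup G} (h₁ : IsPGroup q T₁)
    (h₂ : IsPGroup q T₂) (i₁ : ¬ q ∣ T₁.index) (i₂ : ¬ q ∣ T₂.index) :
    ∃ g : G, T₂ = T₁.map (MulAut.conj g).toMonoidHom := by
  obtain ⟨g, hg⟩ := MulAction.exists_smul_eq G (h₁.toSylow i₁) (h₂.toSylow i₂)
  refine ⟨g, ?_⟩
  have h := congrArg (fun P : Sylow q G => (P : Subgroup G)) hg
  simp only [Sylow.coe_subgroup_smul, IsPGroup.toSylow_coe] at h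
  exact h.symm

/-- `σ` is invariant under conjugation. -/
theorem sigma_map_conj (M : Subgroup G) (g : G) {p : ℕ} (hp : p ∈ sigma M) :
    p ∈ sigma (M.map (MulAut.conj g).toMonoidHom) := by
  have hpp : Fact p.Prime := ⟨hp.1⟩
  obtain ⟨-, hdvd, P, hP⟩ := id hp
  have hidx := Cfsg.Agent.Lib.helper71.BG12.not_dvd_index_map_of_sigma hp P
  obtain ⟨T, hT⟩ : ∃ T : Subgroup G, T = (P : Subgroup M).map M.subtype := ⟨_, rfl⟩
  rw [← hT] at hidx hP
  have hTp : IsPGroup p T := hT ▸ P.isPGroup'.map _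
  have hTM : T ≤ M := hT ▸ Subgroup.map_subtype_le _
  have hT1 : T ≠ ⊥ := by
    rw [hT]
    intro h
    rw [Subgroup.map_eq_bot_iff_of_injective _ M.subtype_injective] at h
    exact P.ne_bot_of_dvd_card hdvd h
  refine Cfsg.Agent.Lib.helper71.BG12.mem_sigma_of_sylow (S := T.map (MulAut.conj g).toMonoidHom)
    (hTp.map _) ?_ (Subgroup.map_mono hTM) ?_ ?_
  · have := Subgroup.index_map_equiv T (MulAut.conj g)
    rw [show (T.map (MulAut.conj g).toMonoidHom).index = T.index from this]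
    exact hidx
  · intro h
    rw [Subgroup.map_eq_bot_iff_of_injective _ (MulAut.conj g).injective] at h
    exact hT1 h
  · rw [← Subgroup.map_equiv_normalizer_eq]
    exact Subgroup.map_mono hP

/-- A subgroup of `M` that is a Sylow `p`-subgroup of `M` with normalizer in `M` puts `p` in `σ(M)`. -/
theorem mem_sigma_of_relIndex {M T : Subgroup G} {p : ℕ} [Fact p.Prime] (hTp : IsPGroup p T)
    (hTM : T ≤ M) (hidx : ¬ p ∣ T.relIndex M) (hT1 : T ≠ ⊥)
    (hN : Subgroup.normalizer (T : Set G) ≤ M) : p ∈ sigma M := by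
  have hp : p.Prime := Fact.out
  have hTp' : IsPGroup p (T.subgroupOf M) := hTp.comap_subtype
  have hidx' : ¬ p ∣ (T.subgroupOf M).index := hidx
  refine ⟨hp, ?_, hTp'.toSylow hidx', ?_⟩
  · obtain ⟨n, hn⟩ := IsPGroup.iff_card.mp hTp
    have hn0 : n ≠ 0 := by
      rintro rfl
      rw [pow_zero] at hn
      exact hT1 ((Subgroup.card_eq_one).mp hn)
    have h1 : p ∣ Nat.card T := hn ▸ dvd_pow_self p hn0
    exact h1.trans (Subgroup.card_dvd_of_le hTM)
  · rw [IsPGroup.toSylow_coe, Subgroup.map_subgroupOf_eq_of_le hTM]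
    exact hN

/-- For `q ∈ σ(M)` a Sylow `q`-subgroup of `M_σ` is a Sylow `q`-subgroup of `G`. -/
theorem sylow_sigmaCore_index (hG : IsMinSimpleOddOrder G) (M : Subgroup G) (hM : IsCoatom M)
    {q : ℕ} [Fact q.Prime] (hq : q ∈ sigma M) (P : Sylow q ↥(sigmaCore M)) :
    ¬ q ∣ ((P : Subgroup ↥(sigmaCore M)).map (sigmaCore M).subtype).index := by
  have hqp : q.Prime := Fact.out
  rw [Subgroup.index_map_subtype]
  intro h
  rcases (Nat.Prime.dvd_mul hqp).mp h with h | h
  · exact P.not_dvd_index h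
  · exact (Cfsg.Agent.S1350.result hG M hM).2.1.2 q hqp hq h

/-- A prime divisor of the order of a subgroup of `M_σ` lies in `σ(M)`. -/
theorem mem_sigma_of_dvd (hG : IsMinSimpleOddOrder G) (M : Subgroup G) (hM : IsCoatom M)
    {D : Subgroup G} (hD : D ≤ sigmaCore M) {q : ℕ} (hq : q.Prime) (hqD : q ∣ Nat.card D) :
    q ∈ sigma M :=
  (Cfsg.Agent.S1350.result hG M hM).1.2.1 q hq (hqD.trans (Subgroup.card_dvd_of_le hD))

/-- **Key lemma.**  If `p ∉ σ(M)`, `L` is a maximal subgroup with `p ∈ σ(L)`, `S ≤ L` is a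
`p`-subgroup and `D ≤ M_σ ∩ L` is `S`-invariant, then `S` centralizes `D`. -/
theorem key (hG : IsMinSimpleOddOrder G) (h23 : H23 G) (M : Subgroup G) (hM : IsCoatom M)
    (L : Subgroup G) (hL : IsCoatom L) {p : ℕ} [Fact p.Prime] (hpM : p ∉ sigma M)
    (hpL : p ∈ sigma L) (S : Subgroup G) (hSp : IsPGroup p S) (hSL : S ≤ L)
    (D : Subgroup G) (hDM : D ≤ sigmaCore M) (hDL : D ≤ L)
    (hSD : S ≤ Subgroup.normalizer (D : Set G)) : ⁅D, S⁆ = ⊥ := by
  have hp : p.Prime := Fact.out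
  have hU := Cfsg.Agent.Lib.helper13.bgx_uniq hG
  have hF := Cfsg.Agent.Lib.helper13.bgx_fus hG
  have hSLσ : S ≤ sigmaCore L :=
    Cfsg.Agent.Lib.helper8.bg_pgroup_le_sigmaCore hG hU hF L hL hpL S hSL hSp
  have hcopM : (Nat.card (sigmaCore M)).Coprime p :=
    Cfsg.Agent.Lib.helper8.bg_sigmaCore_card_coprime M hp hpM
  have hcop : (Nat.card S).Coprime (Nat.card D) := by
    obtain ⟨n, hn⟩ := IsPGroup.iff_card.mp hSp
    rw [hn]
    exact Nat.Coprime.pow_left n ((hcopM.coprime_dvd_left (Subgroup.card_dvd_of_le hDM)).symm)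
  have hSsolv : Group.IsSolvable S := by
    haveI := hSp.isNilpotent
    infer_instance
  obtain ⟨R, hRdef⟩ : ∃ R : Subgroup G, R = ⁅D, S⁆ := ⟨_, rfl⟩
  have hRR : ⁅R, S⁆ = R := by
    rw [hRdef]
    exact Cfsg.Agent.Lib.helper1.commutator_commutator_eq S D hSD hcop (Or.inl hSsolv)
  have hRD : R ≤ D := hRdef ▸ Cfsg.Agent.Lib.helper1.commutator_le_of_le_normalizer hSD
  have hLn : L ≤ Subgroup.normalizer (sigmaCore L : Set G) :=
    Cfsg.Agent.Lib.helper54.le_normalizer_map_subtype L (piCore (sigma L) ↥L)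
  have hRLσ : R ≤ sigmaCore L := by
    rw [hRdef, Subgroup.commutator_le]
    intro d hd s hs
    rw [commutatorElement_def]
    have h1 : d * s * d⁻¹ ∈ sigmaCore L :=
      (Subgroup.le_normalizer_iff.mp hLn) d (hDL hd) s (hSLσ hs)
    exact Subgroup.mul_mem _ h1 (Subgroup.inv_mem _ (hSLσ hs))
  have hRder : R ≤ ⁅sigmaCore L, sigmaCore L⁆ := by
    rw [← hRR]
    exact Subgroup.commutator_mono hRLσ hSLσ
  rw [← hRdef]
  by_contra hR1
  have hcardR : Nat.card R ≠ 1 := fun h => hR1 (Subgroup.card_eq_one.mp h)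
  obtain ⟨q, hq, hqR⟩ := Nat.exists_prime_and_dvd hcardR
  haveI : Fact q.Prime := ⟨hq⟩
  obtain ⟨x, hx⟩ := exists_prime_orderOf_dvd_card' q hqR
  obtain ⟨X, hXdef⟩ : ∃ X : Subgroup G, X = Subgroup.zpowers (x : G) := ⟨_, rfl⟩
  have hXR : X ≤ R := by rw [hXdef, Subgroup.zpowers_le]; exact x.2
  have hXcard : Nat.card X = q := by
    rw [hXdef, Nat.card_zpowers, Subgroup.orderOf_coe, hx]
  have hqL : q ∈ sigma L := mem_sigma_of_dvd hG L hL hRLσ hq hqR
  have hqM : q ∈ sigma M := mem_sigma_of_dvd hG M hM (hRD.trans hDM) hq hqR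
  obtain ⟨P₁⟩ : Nonempty (Sylow q ↥(sigmaCore L)) := inferInstance
  obtain ⟨P₂⟩ : Nonempty (Sylow q ↥(sigmaCore M)) := inferInstance
  have hσL : sigmaCore L ≤ L := Subgroup.map_subtype_le _
  have hσM : sigmaCore M ≤ M := Subgroup.map_subtype_le _
  have huniq := h23 L hL q hqL X ((hXR.trans hRLσ).trans hσL) hXcard P₁ (hXR.trans hRder)
  obtain ⟨g, hg⟩ := sylow_conj (P₁.isPGroup'.map (sigmaCore L).subtype)
    (P₂.isPGroup'.map (sigmaCore M).subtype) (sylow_sigmaCore_index hG L hL hqL P₁)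
    (sylow_sigmaCore_index hG M hM hqM P₂)
  have h1 : (P₁ : Subgroup ↥(sigmaCore L)).map (sigmaCore L).subtype ≤
      M.map (MulAut.conj g⁻¹).toMonoidHom := by
    intro y hy
    rw [Cfsg.Agent.Lib.helper13.sf_mem_map_conj_iff, inv_inv]
    have h2 : g * y * g⁻¹ ∈ (P₂ : Subgroup ↥(sigmaCore M)).map (sigmaCore M).subtype := by
      rw [hg]
      exact ⟨y, hy, rfl⟩
    exact hσM (Subgroup.map_subtype_le _ h2)
  have h2 : (P₁ : Subgroup ↥(sigmaCore L)).map (sigmaCore L).subtype ≤ L :=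
    (Subgroup.map_subtype_le _).trans hσL
  have h3 : M.map (MulAut.conj g⁻¹).toMonoidHom = L :=
    huniq.unique ⟨Cfsg.Agent.Lib.helper13.sf_isCoatom_map_conj hM g⁻¹, h1⟩ ⟨hL, h2⟩
  have h4 : L.map (MulAut.conj g).toMonoidHom = M := by
    rw [← h3, Cfsg.Agent.Lib.helper13.sf_map_conj_mul, mul_inv_cancel]
    ext y
    rw [Cfsg.Agent.Lib.helper13.sf_mem_map_conj_iff]
    simp
  exact hpM (h4 ▸ sigma_map_conj L g hpL)

/-- A cyclic subgroup of exponent `p` has order at most `p`. -/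
theorem card_le_of_cyclic_exp {p : ℕ} (hp : 0 < p) (E : Subgroup G) (hE : ∀ a ∈ E, a ^ p = 1)
    (hc : IsCyclic E) : Nat.card E ≤ p := by
  obtain ⟨g, hg⟩ := hc.exists_generator
  have h1 : Nat.card E = orderOf g := (orderOf_eq_card_of_forall_mem_zpowers hg).symm
  rw [h1]
  apply Nat.le_of_dvd hp
  apply orderOf_dvd_of_pow_eq_one
  exact Subtype.ext (by simpa using hE g g.2)

/-- For `p ∈ τ₂(L)` and `A ≤ L` elementary abelian of order `p²`, `N_G(A)` is not contained
in `L`. -/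
theorem normalizer_not_le (h17 : H17 G) (L : Subgroup G) (hL : IsCoatom L) {p : ℕ}
    [Fact p.Prime] (hτ : p ∈ tau2 L) (A : Subgroup G) (hAL : A ≤ L)
    (hA : IsElementaryAbelian p A) (hAc : Nat.card A = p ^ 2) :
    ¬ Subgroup.normalizer (A : Set G) ≤ L := by
  intro hNA
  obtain ⟨-, hSyl, -, -⟩ := h17 L hL p hτ A hAL hA hAc
  have hAp : IsPGroup p A := IsPGroup.of_card hAc
  have hAp' : IsPGroup p (A.subgroupOf L) := hAp.comap_subtype
  obtain ⟨P, hP⟩ := hAp'.exists_le_sylow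
  have hAP : A ≤ (P : Subgroup L).map L.subtype := by
    rw [← Subgroup.map_subgroupOf_eq_of_le hAL]
    exact Subgroup.map_mono hP
  obtain ⟨hΩ, hN⟩ := (hSyl P).2 hAP
  apply hN
  refine le_trans ?_ hNA
  intro g hg
  apply Cfsg.Agent.Lib.helper13.mem_normalizer_of_forall_conj_mem
  intro a ha
  have h1 : g * a * g⁻¹ ∈ (P : Subgroup L).map L.subtype :=
    (Subgroup.mem_normalizer_iff.mp hg a).mp (hAP ha)
  refine (hΩ _ h1).mp ?_
  rw [conj_pow, hA.2 a ha, mul_one, mul_inv_cancel]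

/-- For `p ∈ τ₂(L)` and `A ≤ L` elementary abelian of order `p²`, a `p`-subgroup of `L` normalizing
`A` centralizes `A`. -/
theorem le_centralizer_of_tau2 (h17 : H17 G) (L : Subgroup G) (hL : IsCoatom L) {p : ℕ}
    [Fact p.Prime] (hτ : p ∈ tau2 L) (A : Subgroup G) (hAL : A ≤ L)
    (hA : IsElementaryAbelian p A) (hAc : Nat.card A = p ^ 2) (S : Subgroup G)
    (hSp : IsPGroup p S) (hSL : S ≤ L) (hSA : S ≤ Subgroup.normalizer (A : Set G)) :
    S ≤ Subgroup.centralizer (A : Set G) := by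
  obtain ⟨-, hSyl, -, -⟩ := h17 L hL p hτ A hAL hA hAc
  have hAp : IsPGroup p A := IsPGroup.of_card hAc
  have hSAp : IsPGroup p (S ⊔ A : Subgroup G) := IsPGroup.to_sup_of_normal_right' hSp hAp hSA
  have hp' : IsPGroup p ((S ⊔ A).subgroupOf L) := hSAp.comap_subtype
  obtain ⟨P, hP⟩ := hp'.exists_le_sylow
  have hc := (hSyl P).1
  intro s hs
  rw [Subgroup.mem_centralizer_iff]
  intro a ha
  have hsP : (⟨s, hSL hs⟩ : L) ∈ (P : Subgroup L) :=
    hP (Subgroup.mem_subgroupOf.mpr (Subgroup.mem_sup_left hs))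
  have haP : (⟨a, hAL ha⟩ : L) ∈ (P : Subgroup L) :=
    hP (Subgroup.mem_subgroupOf.mpr (Subgroup.mem_sup_right ha))
  have h1 := hc.is_comm.comm ⟨_, haP⟩ ⟨_, hsP⟩
  have h2 := congrArg (fun z : (P : Subgroup L) => ((z : L) : G)) h1
  simpa using h2

/-- Frattini argument: `H = M_σ(H) · N_H(A)` when `H` normalizes `H_σ A`. -/
theorem frattini (H : Subgroup G) {p : ℕ} [Fact p.Prime]
    (hcop : (Nat.card (sigmaCore H)).Coprime p) (A : Subgroup G) (hAp : IsPGroup p A)
    (hAH : A ≤ H) (hnorm : H ≤ Subgroup.normalizer ((sigmaCore H ⊔ A : Subgroup G) : Set G)) :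
    ∀ h ∈ H, ∃ k ∈ sigmaCore H, k * h ∈ Subgroup.normalizer (A : Set G) := by
  intro h hh
  have hcard : Nat.card (piCore (sigma H) ↥H) = Nat.card (sigmaCore H) := by
    unfold sigmaCore
    exact (Subgroup.card_map_of_injective H.subtype_injective).symm
  have hJ : IsPGroup p (A.subgroupOf H) := hAp.comap_subtype
  obtain ⟨y, hy, b, hb, hyb⟩ := Cfsg.Agent.Lib.helper13.exists_mul_normalizer_of_conj_mem_sup
    (piCore (sigma H) ↥H) (A.subgroupOf H) (hcard ▸ hcop) hJ ⟨h, hh⟩ (by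
      intro x hx
      have hxA : (x : G) ∈ A := Subgroup.mem_subgroupOf.mp hx
      have h1 : h * (x : G) * h⁻¹ ∈ sigmaCore H ⊔ A :=
        (Subgroup.mem_normalizer_iff.mp (hnorm hh) _).mp (Subgroup.mem_sup_right hxA)
      have h2 : sigmaCore H ⊔ A = (A.subgroupOf H ⊔ piCore (sigma H) ↥H).map H.subtype := by
        rw [Subgroup.map_sup, Subgroup.map_subgroupOf_eq_of_le hAH, sup_comm]; rfl
      rw [h2] at h1
      obtain ⟨z, hz, hz'⟩ := h1
      have : z = ⟨h, hh⟩ * x * ⟨h, hh⟩⁻¹ := Subtype.ext (by simpa using hz')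
      exact this ▸ hz)
  have hh' : h = (y : G) * (b : G) := by
    have := congrArg (fun z : H => (z : G)) hyb
    simpa using this
  refine ⟨((y : G))⁻¹, ?_, ?_⟩
  · apply Subgroup.inv_mem
    exact Subgroup.mem_map_of_mem H.subtype hy
  · have hb' : ((y : G))⁻¹ * h = (b : G) := by rw [hh']; group
    rw [hb']
    apply Cfsg.Agent.Lib.helper13.mem_normalizer_of_forall_conj_mem
    intro a ha
    have h3 := (Subgroup.mem_normalizer_iff.mp hb ⟨a, hAH ha⟩).mp (Subgroup.mem_subgroupOf.mpr ha)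
    have h4 := Subgroup.mem_subgroupOf.mp h3
    simpa using h4

/-- If `H_σ` is nilpotent, `H` contains an elementary abelian subgroup of order `p²` and `M` has
cyclic Sylow `p`-subgroups, then `σ(M)` and `σ(H)` are disjoint. -/
theorem no_common_sigma (hG : IsMinSimpleOddOrder G) (M : Subgroup G) (hM : IsCoatom M)
    (H : Subgroup G) (hH : IsCoatom H) {p : ℕ} [Fact p.Prime] (St : Subgroup G)
    (hStp : IsPGroup p St) (hStc : IsCyclic St) (hSyl : ¬ p ∣ St.relIndex M)
    (A : Subgroup G) (hAH : A ≤ H) (hA : IsElementaryAbelian p A) (hAc : Nat.card A = p ^ 2)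
    (hnil : Group.IsNilpotent (sigmaCore H)) {q : ℕ} (hqM : q ∈ sigma M) (hqH : q ∈ sigma H) :
    False := by
  have hp : p.Prime := Fact.out
  haveI : Fact q.Prime := ⟨hqM.1⟩
  obtain ⟨T, -, hTq, hTidx, -, hTN⟩ :=
    Cfsg.Agent.Lib.helper13.exists_normal_sylow_of_nil hG H hH hnil hqH
  obtain ⟨-, -, Q, hQ⟩ := id hqM
  have hQidx := Cfsg.Agent.Lib.helper71.BG12.not_dvd_index_map_of_sigma hqM Q
  obtain ⟨g, hg⟩ := sylow_conj hTq (Q.isPGroup'.map M.subtype) hTidx hQidx
  rw [hg, ← Subgroup.map_equiv_normalizer_eq, hTN] at hQ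
  have hHM : M = H.map (MulAut.conj g).toMonoidHom :=
    ((Cfsg.Agent.Lib.helper13.sf_isCoatom_map_conj hH g).le_iff_eq hM.1).mp hQ
  obtain ⟨B, hBdef⟩ : ∃ B : Subgroup G, B = A.map (MulAut.conj g).toMonoidHom := ⟨_, rfl⟩
  have hBM : B ≤ M := by rw [hBdef, hHM]; exact Subgroup.map_mono hAH
  have hAp : IsPGroup p A := IsPGroup.of_card hAc
  have hBp : IsPGroup p B := hBdef ▸ hAp.map _
  obtain ⟨w, -, hw⟩ := Cfsg.Agent.Lib.helper74.exists_conj_le_of_pgroup hStp hSyl hBM hBp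
  haveI := hStc
  have hcyc : IsCyclic ↥(MulAut.conj w • B) := Subgroup.isCyclic_of_le hw
  have hexp : ∀ a ∈ MulAut.conj w • B, a ^ p = 1 := by
    intro a ha
    rw [Cfsg.Agent.Lib.helper74.mem_conj_smul_iff, hBdef,
      Cfsg.Agent.Lib.helper13.sf_mem_map_conj_iff] at ha
    have h1 := hA.2 _ ha
    have h2 : a = (w * g) * (g⁻¹ * (w⁻¹ * a * w) * g) * (w * g)⁻¹ := by group
    rw [h2, conj_pow, h1]; group
  have hcard : Nat.card ↥(MulAut.conj w • B) = p ^ 2 := by
    rw [← hAc, hBdef]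
    have h1 : (MulAut.conj w • A.map (MulAut.conj g).toMonoidHom : Subgroup G) =
        (A.map (MulAut.conj g).toMonoidHom).map (MulAut.conj w).toMonoidHom := rfl
    rw [h1, Cfsg.Agent.Lib.helper13.sf_card_map_conj, Cfsg.Agent.Lib.helper13.sf_card_map_conj]
  have hle : Nat.card ↥(MulAut.conj w • B) ≤ p := card_le_of_cyclic_exp hp.pos _ hexp hcyc
  rw [hcard] at hle
  have : p < p ^ 2 := by nlinarith [hp.two_le]
  omega

/-- **Main step.**  `St` a cyclic Sylow `p`-subgroup of `M`, `p ∉ σ(M)`, `X ≤ St` of order `p`: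
`C_{M_σ}(X) ≤ C_G(St)`. -/
theorem centralizer_order_p (hG : IsMinSimpleOddOrder G) (h17 : H17 G) (h23 : H23 G)
    (M : Subgroup G) (hM : IsCoatom M) {p : ℕ} [Fact p.Prime] (hpM : p ∉ sigma M)
    (St : Subgroup G) (hStp : IsPGroup p St) (hStM : St ≤ M) (hStc : IsCyclic St)
    (hSyl : ¬ p ∣ St.relIndex M) (X : Subgroup G) (hXSt : X ≤ St) (hX : Nat.card X = p) :
    sigmaCore M ⊓ Subgroup.centralizer (X : Set G) ≤ Subgroup.centralizer (St : Set G) := by
  have hp : p.Prime := Fact.out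
  have hU := Cfsg.Agent.Lib.helper13.bgx_uniq hG
  obtain ⟨hodd, hsimple, hna, hsolv⟩ := id hG
  have hcomm : ∀ a ∈ St, ∀ b ∈ St, a * b = b * a := by
    intro a ha b hb
    haveI := hStc
    have h1 := (IsCyclic.isMulCommutative (α := St)).is_comm.comm ⟨a, ha⟩ ⟨b, hb⟩
    exact congrArg Subtype.val h1
  have hMn : M ≤ Subgroup.normalizer (sigmaCore M : Set G) :=
    Cfsg.Agent.Lib.helper54.le_normalizer_map_subtype M (piCore (sigma M) ↥M)
  have hcopM : (Nat.card (sigmaCore M)).Coprime p :=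
    Cfsg.Agent.Lib.helper8.bg_sigmaCore_card_coprime M hp hpM
  obtain ⟨Y, hYdef⟩ : ∃ Y : Subgroup G, Y = sigmaCore M ⊓ Subgroup.centralizer (X : Set G) :=
    ⟨_, rfl⟩
  rw [← hYdef]
  have hYσ : Y ≤ sigmaCore M := hYdef ▸ inf_le_left
  have hYC : Y ≤ Subgroup.centralizer (X : Set G) := hYdef ▸ inf_le_right
  have hinvcomm : ∀ k s : G, k * s = s * k → k * s⁻¹ = s⁻¹ * k := by
    intro k s h
    calc k * s⁻¹ = s⁻¹ * (s * k) * s⁻¹ := by group
      _ = s⁻¹ * (k * s) * s⁻¹ := by rw [h]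
      _ = s⁻¹ * k := by group
  have hnormK : ∀ K : Subgroup G, St ≤ Subgroup.centralizer (K : Set G) →
      St ≤ Subgroup.normalizer
        ((sigmaCore M ⊓ Subgroup.centralizer (K : Set G) : Subgroup G) : Set G) := by
    intro K hK s hs
    apply Cfsg.Agent.Lib.helper13.mem_normalizer_of_forall_conj_mem
    intro y hy
    refine ⟨(Subgroup.le_normalizer_iff.mp hMn) s (hStM hs) y hy.1, ?_⟩
    show s * y * s⁻¹ ∈ Subgroup.centralizer (K : Set G)
    rw [Subgroup.mem_centralizer_iff]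
    intro k hk
    have h1 : k * s = s * k := (Subgroup.mem_centralizer_iff.mp (hK hs)) k hk
    have h2 : k * y = y * k := (Subgroup.mem_centralizer_iff.mp hy.2) k hk
    have h3 : k * s⁻¹ = s⁻¹ * k := hinvcomm k s h1
    calc k * (s * y * s⁻¹) = (k * s) * y * s⁻¹ := by group
      _ = s * (k * y) * s⁻¹ := by rw [h1]; group
      _ = s * y * (k * s⁻¹) := by rw [h2]; group
      _ = s * y * s⁻¹ * k := by rw [h3]; group
  have hStCX : St ≤ Subgroup.centralizer (X : Set G) := by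
    intro s hs
    rw [Subgroup.mem_centralizer_iff]
    intro x hx
    exact hcomm x (hXSt hx) s hs
  have hStNY : St ≤ Subgroup.normalizer (Y : Set G) := hYdef ▸ hnormK X hStCX
  have hcopY : ∀ D : Subgroup G, D ≤ sigmaCore M → (Nat.card St).Coprime (Nat.card D) := by
    intro D hD
    obtain ⟨n, hn⟩ := IsPGroup.iff_card.mp hStp
    rw [hn]
    exact Nat.Coprime.pow_left n ((hcopM.coprime_dvd_left (Subgroup.card_dvd_of_le hD)).symm)
  have hX1 : X ≠ ⊥ := by
    intro h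
    rw [h, Subgroup.card_bot] at hX
    exact hp.one_lt.ne hX
  have hSt1 : St ≠ ⊥ := fun h => hX1 (le_bot_iff.mp (h ▸ hXSt))
  have hXtop : X ≠ ⊤ := fun h => hM.1 (top_le_iff.mp (h ▸ (hXSt.trans hStM)))
  have hNXM : ¬ Subgroup.normalizer (X : Set G) ≤ M := by
    intro h
    exact hpM (mem_sigma_of_relIndex hStp hStM hSyl hSt1
      ((Cfsg.Agent.Lib.helper86.BG1424.normalizer_le_of_le_cyclic hStc hXSt).trans h))
  obtain ⟨H, hH, hNXH⟩ :=
    (eq_top_or_exists_le_coatom (Subgroup.normalizer (X : Set G))).resolve_left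
      (Cfsg.Agent.Lib.helper71.BG12.normalizer_ne_top' hG hX1 hXtop)
  have hCXH : Subgroup.centralizer (X : Set G) ≤ H :=
    (Subgroup.centralizer_le_normalizer _).trans hNXH
  have hYH : Y ≤ H := hYC.trans hCXH
  have hStH : St ≤ H := hStCX.trans hCXH
  have hStsolv : Group.IsSolvable St := by
    haveI := hStp.isNilpotent
    infer_instance
  by_cases hpH : p ∈ sigma H
  · exact Subgroup.commutator_eq_bot_iff_le_centralizer.mp
      (key hG h23 M hM H hH hpM hpH St hStp hStH Y hYσ hYH hStNY)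
  · obtain ⟨⟨hr2, hr1⟩, -, A₁, hA₁, hA₁c, hXA₁⟩ :=
      Cfsg.Agent.S1409.result hG H hH p hpH X hX hNXH
    have hτ : p ∈ tau2 H := ⟨hp, hpH, hr2, hr1⟩
    have hA₁comm := ((Cfsg.Agent.Lib.helper8.bg_elemAb_iff A₁).mp hA₁).1
    have hA₁H : A₁ ≤ H := by
      refine le_trans ?_ hCXH
      intro a ha
      rw [Subgroup.mem_centralizer_iff]
      intro x hx
      exact hA₁comm x (hXA₁ hx) a ha
    obtain ⟨hnil, -, hnorm, -⟩ := h17 H hH p hτ A₁ hA₁H hA₁ hA₁c
    have hA₁p : IsPGroup p A₁ := IsPGroup.of_card hA₁c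
    have hcopH : (Nat.card (sigmaCore H)).Coprime p :=
      Cfsg.Agent.Lib.helper8.bg_sigmaCore_card_coprime H hp hpH
    have hcopYH : (Nat.card Y).Coprime (Nat.card (sigmaCore H)) := by
      by_contra hnc
      obtain ⟨q, hq, hq1, hq2⟩ := Nat.Prime.not_coprime_iff_dvd.mp hnc
      exact no_common_sigma hG M hM H hH St hStp hStc hSyl A₁ hA₁H hA₁ hA₁c hnil
        (mem_sigma_of_dvd hG M hM hYσ hq hq1) (mem_sigma_of_dvd hG H hH le_rfl hq hq2)
    have hcopStH : (Nat.card St).Coprime (Nat.card (sigmaCore H)) := by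
      obtain ⟨n, hn⟩ := IsPGroup.iff_card.mp hStp
      rw [hn]
      exact Nat.Coprime.pow_left n hcopH.symm
    obtain ⟨W, hWdef⟩ : ∃ W : Subgroup G, W = St ⊔ Y := ⟨_, rfl⟩
    have hcopW : (Nat.card W).Coprime (Nat.card (sigmaCore H)) := by
      have h1 : Nat.card W ∣ Nat.card St * Nat.card Y :=
        hWdef ▸ Cfsg.Agent.Lib.helper65.card_sup_dvd_mul hStNY
      exact Nat.Coprime.coprime_dvd_left h1 (Nat.Coprime.mul_left hcopStH hcopYH)
    have hWH : W ≤ H := hWdef ▸ sup_le hStH hYH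
    have hσH : sigmaCore H ≤ H := Subgroup.map_subtype_le _
    have hHn : H ≤ Subgroup.normalizer (sigmaCore H : Set G) :=
      Cfsg.Agent.Lib.helper54.le_normalizer_map_subtype H (piCore (sigma H) ↥H)
    have hσHsolv : Group.IsSolvable (sigmaCore H) :=
      hsolv (sigmaCore H) (fun h => hH.1 (top_le_iff.mp (h ▸ hσH)))
    obtain ⟨n, hn, hnW⟩ := Cfsg.Agent.Lib.helper1.glauberman_exists W (sigmaCore H)
      (Subgroup.normalizer (A₁ : Set G)) (hWH.trans hHn) hcopW (Or.inr hσHsolv)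
      (fun w hw => frattini H hcopH A₁ hA₁p hA₁H hnorm w (hWH hw))
    have hnH : n ∈ H := hσH hn
    obtain ⟨A, hAdef⟩ : ∃ A : Subgroup G, A = A₁.map (MulAut.conj n⁻¹).toMonoidHom := ⟨_, rfl⟩
    have hAmem : ∀ y, y ∈ A ↔ n * y * n⁻¹ ∈ A₁ := by
      intro y
      rw [hAdef, Cfsg.Agent.Lib.helper13.sf_mem_map_conj_iff, inv_inv]
    have hAH : A ≤ H := by
      intro y hy
      have h1 := hA₁H ((hAmem y).mp hy)
      have : y = n⁻¹ * (n * y * n⁻¹) * n := by group
      rw [this]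
      exact H.mul_mem (H.mul_mem (H.inv_mem hnH) h1) hnH
    have hA : IsElementaryAbelian p A := by
      rw [Cfsg.Agent.Lib.helper8.bg_elemAb_iff]
      refine ⟨?_, ?_⟩
      · intro a ha b hb
        have h1 := hA₁comm _ ((hAmem a).mp ha) _ ((hAmem b).mp hb)
        have h2 : a * b = n⁻¹ * ((n * a * n⁻¹) * (n * b * n⁻¹)) * n := by group
        have h3 : b * a = n⁻¹ * ((n * b * n⁻¹) * (n * a * n⁻¹)) * n := by group
        rw [h2, h3, h1]
      · intro a ha
        have h1 := hA₁.2 _ ((hAmem a).mp ha)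
        rw [conj_pow] at h1
        have : a ^ p = n⁻¹ * (n * a ^ p * n⁻¹) * n := by group
        rw [this, h1]; group
    have hAc : Nat.card A = p ^ 2 := by
      rw [hAdef, Cfsg.Agent.Lib.helper13.sf_card_map_conj, hA₁c]
    have hWA : W ≤ Subgroup.normalizer (A : Set G) := by
      intro w hw
      have h1 : n * w * n⁻¹ ∈ Subgroup.normalizer (A₁ : Set G) :=
        hnW (Cfsg.Agent.Lib.helper74.conj_mem_conj_smul hw)
      apply Cfsg.Agent.Lib.helper13.mem_normalizer_of_forall_conj_mem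
      intro a ha
      rw [hAmem]
      have h2 := (Subgroup.mem_normalizer_iff.mp h1 _).mp ((hAmem a).mp ha)
      have h3 : n * (w * a * w⁻¹) * n⁻¹ = n * w * n⁻¹ * (n * a * n⁻¹) * (n * w * n⁻¹)⁻¹ := by
        group
      rw [h3]; exact h2
    have hStW : St ≤ W := hWdef ▸ le_sup_left
    have hYW : Y ≤ W := hWdef ▸ le_sup_right
    have hStA : St ≤ Subgroup.centralizer (A : Set G) :=
      le_centralizer_of_tau2 h17 H hH hτ A hAH hA hAc St hStp hStH (hStW.trans hWA)
    have hp2 : p < p ^ 2 := by nlinarith [hp.two_le]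
    have hA1 : A ≠ ⊥ := by
      intro h
      rw [h, Subgroup.card_bot] at hAc
      have := hp.two_le
      omega
    have hAtop : A ≠ ⊤ := fun h => hH.1 (top_le_iff.mp (h ▸ hAH))
    obtain ⟨Hs, hHs, hNAHs⟩ :=
      (eq_top_or_exists_le_coatom (Subgroup.normalizer (A : Set G))).resolve_left
        (Cfsg.Agent.Lib.helper71.BG12.normalizer_ne_top' hG hA1 hAtop)
    have hAHs : A ≤ Hs := Subgroup.le_normalizer.trans hNAHs
    have hpHs : p ∈ sigma Hs := by
      by_contra hpHs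
      have hτs : p ∈ tau2 Hs := by
        refine ⟨hp, hpHs, ?_, ?_⟩
        · by_contra hr
          exact hpHs (Cfsg.Agent.Lib.helper8.bg_alpha_sub_sigma hG hU Hs hHs ⟨hp, hr⟩)
        · intro hr
          have hAs := (Cfsg.Agent.Lib.helper8.bg_elemAb_subgroupOf Hs hA)
          have h1 := hr (A.subgroupOf Hs) hAs.1 hAs.2
          rw [Nat.card_congr (Subgroup.subgroupOfEquivOfLe hAHs).toEquiv, hAc, pow_one] at h1
          omega
      exact normalizer_not_le h17 Hs hHs hτs A hAHs hA hAc hNAHs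
    obtain ⟨D, hDdef⟩ : ∃ D : Subgroup G, D = sigmaCore M ⊓ Subgroup.centralizer (A : Set G) :=
      ⟨_, rfl⟩
    have hCAHs : Subgroup.centralizer (A : Set G) ≤ Hs :=
      (Subgroup.centralizer_le_normalizer _).trans hNAHs
    have hDσ : D ≤ sigmaCore M := hDdef ▸ inf_le_left
    have hDHs : D ≤ Hs :=
      (hDdef ▸ inf_le_right : D ≤ Subgroup.centralizer (A : Set G)).trans hCAHs
    have hStND : St ≤ Subgroup.normalizer (D : Set G) := hDdef ▸ hnormK A hStA
    have hkey := key hG h23 M hM Hs hHs hpM hpHs St hStp (hStA.trans hCAHs) D hDσ hDHs hStND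
    have hYSD : ⁅Y, St⁆ ≤ D := by
      rw [hDdef]
      refine le_inf ((Cfsg.Agent.Lib.helper1.commutator_le_of_le_normalizer hStNY).trans hYσ) ?_
      rw [Subgroup.commutator_le]
      intro y hy s hs
      rw [commutatorElement_def, Subgroup.mem_centralizer_iff]
      intro a ha
      have hyN := hWA (hYW hy)
      have h1 : y⁻¹ * a * y ∈ A := (Subgroup.mem_normalizer_iff''.mp hyN a).mp ha
      have hs1 : ∀ b ∈ A, b * s = s * b :=
        fun b hb => (Subgroup.mem_centralizer_iff.mp (hStA hs)) b hb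
      have h2 := hs1 _ h1
      have h3 := hinvcomm a s (hs1 a ha)
      calc a * (y * s * y⁻¹ * s⁻¹) = y * ((y⁻¹ * a * y) * s) * y⁻¹ * s⁻¹ := by group
        _ = y * (s * (y⁻¹ * a * y)) * y⁻¹ * s⁻¹ := by rw [h2]
        _ = y * s * y⁻¹ * (a * s⁻¹) := by group
        _ = y * s * y⁻¹ * (s⁻¹ * a) := by rw [h3]
        _ = y * s * y⁻¹ * s⁻¹ * a := by group
    have hYY : ⁅⁅Y, St⁆, St⁆ = ⁅Y, St⁆ :=
      Cfsg.Agent.Lib.helper1.commutator_commutator_eq St Y hStNY (hcopY Y hYσ) (Or.inl hStsolv)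
    have hbot : ⁅Y, St⁆ = ⊥ := by
      rw [← hYY, eq_bot_iff, ← hkey]
      exact Subgroup.commutator_mono hYSD le_rfl
    exact Subgroup.commutator_eq_bot_iff_le_centralizer.mp hbot

/-- **Prime action of a cyclic Sylow subgroup of a complement** (from Theorems 12.5 and 13.1 as
hypotheses): `C_{M_σ}(x) = C_{M_σ}(S)` for `1 ≠ x ∈ S`, `S` a cyclic Sylow subgroup of `E`. -/
theorem prime_act (hG : IsMinSimpleOddOrder G) (h17 : H17 G) (h23 : H23 G)
    (M : Subgroup G) (hM : IsCoatom M) (E : Subgroup G) (hE : IsComplIn E (sigmaCore M) M)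
    (p : ℕ) [Fact p.Prime] (S : Sylow p E) (hS1 : (S : Subgroup E) ≠ ⊥)
    (hSc : IsCyclic (S : Subgroup E)) :
    ∀ x ∈ (S : Subgroup E).map E.subtype, x ≠ 1 →
      sigmaCore M ⊓ Subgroup.centralizer ({x} : Set G) =
        sigmaCore M ⊓
          Subgroup.centralizer (((S : Subgroup E).map E.subtype : Subgroup G) : Set G) := by
  have hp : p.Prime := Fact.out
  obtain ⟨St, hStdef⟩ : ∃ St : Subgroup G, St = (S : Subgroup E).map E.subtype := ⟨_, rfl⟩
  rw [← hStdef]
  have hStp : IsPGroup p St := hStdef ▸ S.isPGroup'.map _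
  have hStE : St ≤ E := hStdef ▸ Subgroup.map_subtype_le _
  have hStM : St ≤ M := hStE.trans hE.1
  have hStc : IsCyclic St := by
    rw [hStdef]
    exact ((Subgroup.equivMapOfInjective (S : Subgroup E) E.subtype
      E.subtype_injective).isCyclic).mp hSc
  have hSt1 : St ≠ ⊥ := by
    rw [hStdef]
    intro h
    exact hS1 ((Subgroup.map_eq_bot_iff_of_injective _ E.subtype_injective).mp h)
  have hcardSt : Nat.card St = Nat.card (S : Subgroup E) := by
    rw [hStdef]; exact Subgroup.card_map_of_injective E.subtype_injective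
  have hpSt : p ∣ Nat.card St := by
    obtain ⟨n, hn⟩ := IsPGroup.iff_card.mp hStp
    have hn0 : n ≠ 0 := by
      rintro rfl
      rw [pow_zero] at hn
      exact hSt1 (Subgroup.card_eq_one.mp hn)
    exact hn ▸ dvd_pow_self p hn0
  have hpE : p ∣ Nat.card E := hpSt.trans (Subgroup.card_dvd_of_le hStE)
  have hpM : p ∉ sigma M := by
    intro hpσ
    have h1 := (Cfsg.Agent.S1350.result hG M hM).1.2.2 p hp hpσ
    rw [← Cfsg.Agent.Lib.helper29.IsComplIn.card_left hE] at h1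
    exact h1 hpE
  have hcopM : (Nat.card (sigmaCore M)).Coprime p :=
    Cfsg.Agent.Lib.helper8.bg_sigmaCore_card_coprime M hp hpM
  have hSyl : ¬ p ∣ St.relIndex M := by
    have h1 : Nat.card St * St.relIndex M = Nat.card M := by
      have := Subgroup.card_mul_index (St.subgroupOf M)
      rwa [Nat.card_congr (Subgroup.subgroupOfEquivOfLe hStM).toEquiv] at this
    have h2 : Nat.card E * Nat.card (sigmaCore M) = Nat.card M :=
      Cfsg.Agent.Lib.helper29.IsComplIn.card_mul hE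
    have h3 : Nat.card (S : Subgroup E) * (S : Subgroup E).index = Nat.card E :=
      Subgroup.card_mul_index _
    have h4 : St.relIndex M = (S : Subgroup E).index * Nat.card (sigmaCore M) := by
      have hpos : 0 < Nat.card St := Nat.card_pos
      apply Nat.eq_of_mul_eq_mul_left hpos
      rw [h1, ← h2, ← h3, hcardSt, mul_assoc]
    rw [h4]
    intro h
    rcases (Nat.Prime.dvd_mul hp).mp h with h | h
    · exact S.not_dvd_index h
    · exact (Nat.Prime.coprime_iff_not_dvd hp).mp hcopM.symm h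
  intro x hx hx1
  apply le_antisymm
  · have hxo : orderOf x ≠ 0 := (orderOf_pos x).ne'
    have hpx : p ∣ orderOf x := by
      obtain ⟨k, hk⟩ := hStp ⟨x, hx⟩
      have h1 : x ^ p ^ k = 1 := by simpa using congrArg Subtype.val hk
      have h2 : orderOf x ∣ p ^ k := orderOf_dvd_of_pow_eq_one h1
      obtain ⟨j, -, hj⟩ := (Nat.dvd_prime_pow hp).mp h2
      have hj0 : j ≠ 0 := by
        rintro rfl
        rw [pow_zero, orderOf_eq_one_iff] at hj
        exact hx1 hj
      rw [hj]; exact dvd_pow_self p hj0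
    obtain ⟨x₀, hx₀def⟩ : ∃ x₀ : G, x₀ = x ^ (orderOf x / p) := ⟨_, rfl⟩
    have hx₀o : orderOf x₀ = p := hx₀def ▸ orderOf_pow_orderOf_div hxo hpx
    obtain ⟨X, hXdef⟩ : ∃ X : Subgroup G, X = Subgroup.zpowers x₀ := ⟨_, rfl⟩
    have hXSt : X ≤ St := by
      rw [hXdef, Subgroup.zpowers_le, hx₀def]; exact St.pow_mem hx _
    have hX : Nat.card X = p := by rw [hXdef, Nat.card_zpowers, hx₀o]
    have hmain := centralizer_order_p hG h17 h23 M hM hpM St hStp hStM hStc hSyl X hXSt hX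
    intro y hy
    refine ⟨hy.1, hmain ⟨hy.1, ?_⟩⟩
    have hyx : x * y = y * x := (Subgroup.mem_centralizer_iff.mp hy.2) x rfl
    show y ∈ Subgroup.centralizer (X : Set G)
    rw [Subgroup.mem_centralizer_iff]
    intro h hh
    rw [hXdef] at hh
    obtain ⟨k, rfl⟩ := Subgroup.mem_zpowers_iff.mp hh
    have hc : Commute x y := hyx
    rw [hx₀def]
    exact ((hc.pow_left _).zpow_left k).eq
  · exact inf_le_inf_left _ (Subgroup.centralizer_le (Set.singleton_subset_iff.mpr hx))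

end Cfsg.Agent.Lib.helper54.PrimeAct
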