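import Mathlib
import Cfsg.Agent.Lib.helper54.BG8PNU
import Cfsg.Agent.Lib.helper54.BGPrimeAct
import Cfsg.Agent.Lib.helper60.BGCentU
import Cfsg.Agent.Lib.helper65.Fitting
import Cfsg.Agent.Lib.helper29.Basic

/-!
# S1360: glue for the standard factorisation `M = K U M_σ`

`tau2_not_kappa` : `τ₂(M)` and `κ(M)` are disjoint.
`decomp_glue` : for a standard factorisation, `E := K ⊔ U` is a complement of `M_σ` in `M`
normalizing `U`, no prime of `κ(M)` divides `|U|`, and every `q`-element of `E`, `q ∉ κ(M)`, lies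
in `U`.
`s1360_nonab` : S1360 (regular form) when some `p ∈ τ₂(M)` has nonabelian Sylow subgroups in `G`.
`sigmaHat_of_regular` : the regular form implies the `M̂_σ` form of the conclusion of S1360.
-/

set_option autoImplicit false

namespace Cfsg.Agent.Lib.helper54.PNU

open Cfsg

variable {G : Type*} [Group G]

/-- `τ₂(M)` and `κ(M)` are disjoint: the Sylow subgroups of `M` for the primes of `κ(M)` are
cyclic. -/
theorem tau2_not_kappa [Finite G] (M : Subgroup G) (p : ℕ) (hp : p ∈ tau2 M) : p ∉ kappa M := by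
  intro hκ
  have hpp := hp.1
  have : Fact p.Prime := ⟨hpp⟩
  apply hp.2.2.2
  intro A _ hAe
  rw [pow_one]
  have hAp : IsPGroup p A := by
    intro a
    exact ⟨1, by rw [pow_one]; exact Subtype.ext (by simpa using hAe a a.2)⟩
  obtain ⟨P, hP⟩ := hAp.exists_le_sylow
  have hcyc : IsCyclic (P : Subgroup M) := (hκ.2.2.2 P).1
  have hAc : IsCyclic A := Subgroup.isCyclic_of_le hP
  exact Cfsg.Agent.Lib.helper54.PrimeAct.card_le_of_cyclic_exp hpp.pos A hAe hAc

/-- The standard factorisation: `E := K ⊔ U` is a complement of `M_σ` in `M` in which `U` is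
normal; `|U|` is prime to `κ(M)`; the `q`-elements of `E`, `q ∉ κ(M)`, lie in `U`. -/
theorem decomp_glue [Finite G] (hG : IsMinSimpleOddOrder G) (M : Subgroup G) (hM : IsCoatom M)
    (K U : Subgroup G) (hKU : IsSigmaDecomposition M K U) :
    IsComplIn (K ⊔ U) (sigmaCore M) M ∧ U ≤ K ⊔ U ∧ K ⊔ U ≤ Subgroup.normalizer (U : Set G) ∧
      (∀ q : ℕ, q.Prime → q ∣ Nat.card U → q ∉ kappa M) ∧
      ∀ q : ℕ, q.Prime → q ∉ kappa M → ∀ x ∈ K ⊔ U, ∀ k : ℕ, x ^ q ^ k = 1 → x ∈ U := by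
  obtain ⟨hH1, -, -⟩ := Cfsg.Agent.S1350.result hG M hM
  have hKM : K ≤ M := hKU.hall.1
  have hUM : U ≤ M := hKU.compl.1
  have hσM : sigmaCore M ≤ M := hH1.1
  have hMn : M ≤ Subgroup.normalizer ((sigmaCore M : Subgroup G) : Set G) :=
    Cfsg.Agent.Lib.helper71.BGA.le_normalizer_sigmaCore M
  have hUinf : U ⊓ (K ⊔ sigmaCore M) = ⊥ := hKU.compl.2.2.1
  have hKUinf : K ⊓ U = ⊥ := by
    rw [eq_bot_iff, ← hUinf]
    exact le_inf inf_le_right (inf_le_left.trans le_sup_left)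
  have hcard : Nat.card U * Nat.card (K ⊔ sigmaCore M : Subgroup G) = Nat.card M :=
    Cfsg.Agent.Lib.helper60.BGCentU.card_of_isComplIn hKU.compl
  have hdvd : ∀ X : Subgroup G, X ≤ K ⊔ sigmaCore M → Nat.card U ∣ X.relIndex M := by
    intro X hX
    have hXM : X ≤ M := hX.trans (sup_le hKM hσM)
    have h1 := Cfsg.Agent.Lib.helper13.relIndex_mul_card_of_le hXM
    obtain ⟨j, hj⟩ := Subgroup.card_dvd_of_le hX
    have h2 : X.relIndex M * Nat.card X = (Nat.card U * j) * Nat.card X := by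
      rw [h1, ← hcard, hj]; ring
    exact ⟨j, Nat.eq_of_mul_eq_mul_right Nat.card_pos h2⟩
  have hUκ : ∀ q : ℕ, q.Prime → q ∣ Nat.card U → q ∉ kappa M := fun q hq hqU hκ =>
    hKU.hall.2.2 q hq hκ (hqU.trans (hdvd K le_sup_left))
  have hUσ : ∀ q : ℕ, q.Prime → q ∣ Nat.card U → q ∉ sigma M := fun q hq hqU hσ =>
    hH1.2.2 q hq hσ (hqU.trans (hdvd _ le_sup_right))
  have hKσ : ∀ q : ℕ, q.Prime → q ∣ Nat.card K → q ∉ sigma M := fun q hq hqK =>
    (hKU.hall.2.1 q hq hqK).2.2.1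
  have hdecomp : ∀ x ∈ K ⊔ U, ∃ u ∈ U, ∃ k ∈ K, x = u * k := by
    intro x hx
    rw [sup_comm] at hx
    exact Cfsg.Agent.Lib.helper29.exists_mul_of_mem_sup_of_le_normalizer hKU.normal hx
  refine ⟨⟨sup_le hKM hUM, hσM, ?_, ?_⟩, le_sup_right, sup_le hKU.normal Subgroup.le_normalizer,
    hUκ, ?_⟩
  · -- `(K ⊔ U) ⊓ M_σ = ⊥`
    rw [eq_bot_iff]
    intro x hx
    rw [Subgroup.mem_bot]
    by_contra hx1
    obtain ⟨hxE, hxσ⟩ := Subgroup.mem_inf.mp hx
    have hne : orderOf x ≠ 1 := fun h => hx1 (orderOf_eq_one_iff.mp h)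
    obtain ⟨q, hq, hqx⟩ := Nat.exists_prime_and_dvd hne
    have hqσ : q ∈ sigma M :=
      hH1.2.1 q hq (hqx.trans (Subgroup.orderOf_dvd_natCard _ hxσ))
    have h1 : q ∣ Nat.card K * Nat.card U :=
      (hqx.trans (Subgroup.orderOf_dvd_natCard _ hxE)).trans
        (Cfsg.Agent.Lib.helper65.card_sup_dvd_mul hKU.normal)
    rcases (Nat.Prime.dvd_mul hq).mp h1 with h2 | h2
    · exact hKσ q hq h2 hqσ
    · exact hUσ q hq h2 hqσ
  · -- `M = (K ⊔ U) M_σ`
    intro m hm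
    obtain ⟨u, hu, b, hb, rfl⟩ := hKU.compl.2.2.2 m hm
    rw [sup_comm] at hb
    obtain ⟨s, hs, k, hk, rfl⟩ :=
      Cfsg.Agent.Lib.helper29.exists_mul_of_mem_sup_of_le_normalizer (hKM.trans hMn) hb
    refine ⟨u * k, (K ⊔ U).mul_mem (Subgroup.mem_sup_right hu) (Subgroup.mem_sup_left hk),
      k⁻¹ * s * k, ?_, by group⟩
    have h1 := (Subgroup.mem_normalizer_iff.mp (hMn (hKM (K.inv_mem hk))) s).mp hs
    rwa [inv_inv] at h1
  · -- `q`-elements
    intro q hq hqκ x hx k hxk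
    obtain ⟨u, hu, k', hk', rfl⟩ := hdecomp x hx
    have hpow : ∀ n : ℕ, ∃ u' ∈ U, (u * k') ^ n = u' * k' ^ n := by
      intro n
      induction n with
      | zero => exact ⟨1, U.one_mem, by simp⟩
      | succ n ih =>
        obtain ⟨u', hu', h1⟩ := ih
        refine ⟨u' * (k' ^ n * u * (k' ^ n)⁻¹), U.mul_mem hu' ?_, ?_⟩
        · exact (Subgroup.mem_normalizer_iff.mp (hKU.normal (K.pow_mem hk' n)) u).mp hu
        · rw [pow_succ, h1, pow_succ]; group
    obtain ⟨u', hu', h1⟩ := hpow (q ^ k)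
    rw [hxk] at h1
    have h2 : k' ^ q ^ k = u'⁻¹ := eq_inv_of_mul_eq_one_right h1.symm
    have h3 : k' ^ q ^ k ∈ K ⊓ U :=
      Subgroup.mem_inf.mpr ⟨K.pow_mem hk' _, h2 ▸ U.inv_mem hu'⟩
    rw [hKUinf, Subgroup.mem_bot] at h3
    have h4 : k' = 1 := by
      by_contra hk1
      have hne : orderOf k' ≠ 1 := fun h => hk1 (orderOf_eq_one_iff.mp h)
      obtain ⟨j, -, hj⟩ := (Nat.dvd_prime_pow hq).mp (orderOf_dvd_of_pow_eq_one h3)
      have hqk : q ∣ orderOf k' := by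
        rw [hj]
        rcases j with _ | j
        · rw [pow_zero] at hj; exact absurd hj hne
        · exact dvd_pow_self q (by omega)
      exact hqκ (hKU.hall.2.1 q hq (hqk.trans (Subgroup.orderOf_dvd_natCard _ hk')))
    rw [h4, mul_one]
    exact hu

/-- S1360 (regular form) in the case where the Sylow `p`-subgroups of `G` are nonabelian for some
`p ∈ τ₂(M)`. -/
theorem s1360_nonab [Finite G] (hG : IsMinSimpleOddOrder G) (M : Subgroup G) (hM : IsCoatom M)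
    (K U : Subgroup G) (hKU : IsSigmaDecomposition M K U) (p : ℕ) [Fact p.Prime]
    (hp : p ∈ tau2 M) (hS : ∀ S : Sylow p G, ¬ IsMulCommutative (S : Subgroup G)) :
    ∃ U₀ : Subgroup G, U₀ ≤ U ∧ Monoid.exponent U₀ = Monoid.exponent U ∧
      ∀ e ∈ U₀, e ≠ 1 → sigmaCore M ⊓ Subgroup.centralizer ({e} : Set G) = ⊥ := by
  obtain ⟨hE, hUE, hUn, hHall, hpel⟩ := decomp_glue hG M hM K U hKU
  exact bg8_nonab_sub hG M hM (K ⊔ U) hE U hUE hUn hHall p hp
    (hpel p Fact.out (tau2_not_kappa M p hp)) hS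

/-- The regular form of the conclusion of S1360 implies the `M̂_σ` form. -/
theorem sigmaHat_of_regular (M U₀ : Subgroup G)
    (h : ∀ e ∈ U₀, e ≠ 1 → sigmaCore M ⊓ Subgroup.centralizer ({e} : Set G) = ⊥) :
    ∀ u ∈ U₀, u ∈ sigmaHat M → u = 1 := by
  rintro u hu ⟨-, y, hy, hy1, huy⟩
  by_contra hu1
  have h1 := h u hu hu1
  have h2 : y ∈ sigmaCore M ⊓ Subgroup.centralizer ({u} : Set G) := by
    refine Subgroup.mem_inf.mpr ⟨hy, ?_⟩
    rw [Subgroup.mem_centralizer_iff]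
    rintro _ rfl
    exact huy
  rw [h1, Subgroup.mem_bot] at h2
  exact hy1 h2

end Cfsg.Agent.Lib.helper54.PNU
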