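import Mathlib
import Cfsg.Prelude.Def_OddOrderLocal
import Cfsg.Agent.Lib.helper54.BGPrimeAct
import Cfsg.Agent.Lib.helper55.BGSigmaJ
import Cfsg.Agent.Lib.helper55.CyclicSylow
import Cfsg.Agent.Lib.helper55.Basic
import Cfsg.Agent.Lib.helper3.BGCross
import Cfsg.Agent.Lib.helper60.BGCentU
import Cfsg.Agent.Lib.helper97.BGSeven4
import Cfsg.Agent.Lib.helper69.BGTwelveB
import Cfsg.Agent.Lib.helper1.ThompsonFpf
import Cfsg.Agent.Lib.helper13.BG11b
import Cfsg.Agent.S1403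
import Cfsg.Agent.S1404
import Cfsg.Agent.S1405
import Cfsg.Agent.S1409
import Cfsg.Agent.S1410
import Cfsg.Agent.S1416
import Cfsg.Agent.S1417
import Cfsg.Agent.S1424

/-!
# Bender–Glauberman Lemma 13.4: the good cases

`M` a maximal subgroup, `E` a complement of `M_σ`, `p ∈ τ₁(M)`, `P ≤ E` of order `p`,
`R ≤ C_E(P)` of prime order `r`, `Y₀ ≤ C_{M_σ}(P)` an `R`-invariant subgroup and `H` a maximal
subgroup containing `N_G(P)`.  Then `R` centralizes `Y₀`, except possibly when `p ∈ σ(H)` and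
`r ∈ τ₁(H)`.
-/

set_option autoImplicit false
set_option linter.style.haveILetI false
set_option linter.unusedSectionVars false

namespace Cfsg.Agent.Lib.helper54.Good

open Cfsg
open scoped commutatorElement Pointwise

variable {G : Type*} [Group G] [Finite G]

/-- A group of `p`-rank at most one has no conjugate containing an elementary abelian subgroup of
order `p²`. -/
theorem no_elemAb_conj {M : Subgroup G} {p : ℕ} (hp : p.Prime) (hrk : PRankLE p 1 M)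
    (A : Subgroup G) (hA : IsElementaryAbelian p A) (hAc : Nat.card A = p ^ 2) (l : G)
    (hAl : A ≤ M.map (MulAut.conj l).toMonoidHom) : False := by
  obtain ⟨B, hBdef⟩ : ∃ B : Subgroup G, B = A.map (MulAut.conj l⁻¹).toMonoidHom := ⟨_, rfl⟩
  have hBmem : ∀ y, y ∈ B ↔ l * y * l⁻¹ ∈ A := by
    intro y
    rw [hBdef, Cfsg.Agent.Lib.helper13.sf_mem_map_conj_iff, inv_inv]
  have hBM : B ≤ M := by
    intro y hy
    have h1 := hAl ((hBmem y).mp hy)
    rw [Cfsg.Agent.Lib.helper13.sf_mem_map_conj_iff] at h1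
    have : l⁻¹ * (l * y * l⁻¹) * l = y := by group
    rwa [this] at h1
  have hAcomm := ((Cfsg.Agent.Lib.helper8.bg_elemAb_iff A).mp hA).1
  have hB : IsElementaryAbelian p B := by
    rw [Cfsg.Agent.Lib.helper8.bg_elemAb_iff]
    refine ⟨?_, ?_⟩
    · intro a ha b hb
      have h1 := hAcomm _ ((hBmem a).mp ha) _ ((hBmem b).mp hb)
      have h2 : a * b = l⁻¹ * ((l * a * l⁻¹) * (l * b * l⁻¹)) * l := by group
      have h3 : b * a = l⁻¹ * ((l * b * l⁻¹) * (l * a * l⁻¹)) * l := by group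
      rw [h2, h3, h1]
    · intro a ha
      have h1 := hA.2 _ ((hBmem a).mp ha)
      rw [conj_pow] at h1
      have : a ^ p = l⁻¹ * (l * a ^ p * l⁻¹) * l := by group
      rw [this, h1]; group
  have hBc : Nat.card B = p ^ 2 := by
    rw [hBdef, Cfsg.Agent.Lib.helper13.sf_card_map_conj, hAc]
  have hBs := Cfsg.Agent.Lib.helper8.bg_elemAb_subgroupOf M hB
  have h1 := hrk (B.subgroupOf M) hBs.1 hBs.2
  rw [Nat.card_congr (Subgroup.subgroupOfEquivOfLe hBM).toEquiv, hBc, pow_one] at h1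
  have : p < p ^ 2 := by nlinarith [hp.two_le]
  omega

/-- A group of `p`-rank at most one contains no elementary abelian subgroup of order `p²`. -/
theorem no_elemAb {M : Subgroup G} {p : ℕ} (hp : p.Prime) (hrk : PRankLE p 1 M)
    (A : Subgroup G) (hA : IsElementaryAbelian p A) (hAc : Nat.card A = p ^ 2)
    (hAM : A ≤ M) : False := by
  have hAs := Cfsg.Agent.Lib.helper8.bg_elemAb_subgroupOf M hA
  have h1 := hrk (A.subgroupOf M) hAs.1 hAs.2
  rw [Nat.card_congr (Subgroup.subgroupOfEquivOfLe hAM).toEquiv, hAc, pow_one] at h1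
  have : p < p ^ 2 := by nlinarith [hp.two_le]
  omega

/-- `H` normalizes its derived subgroup. -/
theorem conj_mem_commutator (H : Subgroup G) {h c : G} (hh : h ∈ H) (hc : c ∈ ⁅H, H⁆) :
    h * c * h⁻¹ ∈ ⁅H, H⁆ := by
  rw [← Subgroup.map_subtype_commutator] at hc ⊢
  obtain ⟨c', hc', rfl⟩ := hc
  refine ⟨⟨h, hh⟩ * c' * ⟨h, hh⟩⁻¹, ?_, by simp⟩
  exact (inferInstance : (commutator ↥H).Normal).conj_mem c' hc' ⟨h, hh⟩

/-- Elements of coprime orders of `H'` commute modulo `H_α` when `H' / H_α` is nilpotent. -/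
theorem comm_mem_alphaCore (H : Subgroup G)
    (hnil : Group.IsNilpotent
      ↥((commutator ↥H).map (QuotientGroup.mk' (piCore (alpha H) ↥H))))
    {x y : G} (hx : x ∈ ⁅H, H⁆) (hy : y ∈ ⁅H, H⁆) (hxy : (orderOf x).Coprime (orderOf y)) :
    x * y * x⁻¹ * y⁻¹ ∈ alphaCore H := by
  rw [← Subgroup.map_subtype_commutator] at hx hy
  obtain ⟨x', hx', rfl⟩ := hx
  obtain ⟨y', hy', rfl⟩ := hy
  obtain ⟨π, hπ⟩ : ∃ π : ↥H →* ↥H ⧸ piCore (alpha H) ↥H,
      π = QuotientGroup.mk' (piCore (alpha H) ↥H) := ⟨_, rfl⟩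
  rw [← hπ] at hnil
  have hcop : (orderOf (π x')).Coprime (orderOf (π y')) := by
    refine Nat.Coprime.coprime_dvd_left (orderOf_map_dvd π x')
      (Nat.Coprime.coprime_dvd_right (orderOf_map_dvd π y') ?_)
    simpa using hxy
  have h1 := Cfsg.Agent.Lib.helper1.commute_of_coprime_orderOf_of_isNilpotent
    ↥((commutator ↥H).map π) ⟨π x', Subgroup.mem_map_of_mem π hx'⟩
    ⟨π y', Subgroup.mem_map_of_mem π hy'⟩ (by
      rw [Subgroup.orderOf_mk, Subgroup.orderOf_mk]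
      exact hcop)
  have h2 : π x' * π y' = π y' * π x' := congrArg Subtype.val h1.eq
  have h3 : x' * y' * x'⁻¹ * y'⁻¹ ∈ piCore (alpha H) ↥H := by
    rw [← QuotientGroup.eq_one_iff, ← QuotientGroup.mk'_apply, ← hπ, map_mul, map_mul, map_mul,
      map_inv, map_inv, h2]
    group
  exact ⟨_, h3, by simp⟩

/-- `H_α ∩ M_σ = 1` for nonconjugate maximal subgroups `M`, `H`. -/
theorem alphaCore_inf_sigmaCore (hG : IsMinSimpleOddOrder G) (M H : Subgroup G)
    (hM : IsCoatom M) (hH : IsCoatom H)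
    (hnc : ∀ g : G, H ≠ M.map (MulAut.conj g).toMonoidHom) :
    alphaCore H ⊓ sigmaCore M = ⊥ := by
  have hU := Cfsg.Agent.Lib.helper13.bgx_uniq hG
  by_contra hne
  have hcard : Nat.card ↥(alphaCore H ⊓ sigmaCore M) ≠ 1 :=
    fun h => hne (Subgroup.card_eq_one.mp h)
  obtain ⟨q, hq, hqd⟩ := Nat.exists_prime_and_dvd hcard
  have h1 : q ∈ alpha H :=
    (Cfsg.Agent.S1405.result hG H hH).1.2.1 q hq
      (hqd.trans (Subgroup.card_dvd_of_le inf_le_left))
  have h2 : q ∈ sigma M :=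
    Cfsg.Agent.Lib.helper54.PrimeAct.mem_sigma_of_dvd hG M hM inf_le_right hq hqd
  exact Cfsg.Agent.Lib.helper55.BGJ.not_mem_alpha_of_sigma hU hM hH hnc h2 h1

/-- If `H` has `r`-rank one and `r` divides `|H'|`, every subgroup of order `r` of `H` lies
in `H'`. -/
theorem le_commutator_of_rank_one (hodd : Odd (Nat.card G)) (H : Subgroup G) {r : ℕ}
    [Fact r.Prime] (hrd : r ∣ Nat.card ↥(⁅H, H⁆ : Subgroup G)) (hrk : PRankLE r 1 H)
    (R : Subgroup G) (hRH : R ≤ H) (hR : Nat.card R = r) : R ≤ ⁅H, H⁆ := by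
  have hr : r.Prime := Fact.out
  obtain ⟨z, hz⟩ := exists_prime_orderOf_dvd_card' r hrd
  have hzo : orderOf (z : G) = r := by rw [Subgroup.orderOf_coe, hz]
  have hHH : (⁅H, H⁆ : Subgroup G) ≤ H := Subgroup.commutator_le_self H
  obtain ⟨Z, hZdef⟩ : ∃ Z : Subgroup G, Z = Subgroup.zpowers (z : G) := ⟨_, rfl⟩
  have hZc : Nat.card Z = r := by rw [hZdef, Nat.card_zpowers, hzo]
  have hZp : IsPGroup r Z := IsPGroup.of_card (n := 1) (by rw [hZc, pow_one])
  have hZH' : Z ≤ ⁅H, H⁆ := by rw [hZdef, Subgroup.zpowers_le]; exact z.2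
  have hZH : Z ≤ H := hZH'.trans hHH
  have hZp' : IsPGroup r (Z.subgroupOf H) := hZp.comap_subtype
  obtain ⟨S, hS⟩ := hZp'.exists_le_sylow
  obtain ⟨St, hStdef⟩ : ∃ St : Subgroup G, St = (S : Subgroup H).map H.subtype := ⟨_, rfl⟩
  have hStp : IsPGroup r St := hStdef ▸ S.isPGroup'.map _
  have hStH : St ≤ H := hStdef ▸ Subgroup.map_subtype_le _
  have hSyl : ¬ r ∣ St.relIndex H := by
    have h1 : St.subgroupOf H = (S : Subgroup H) := by
      rw [hStdef]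
      exact Subgroup.comap_map_eq_self_of_injective H.subtype_injective _
    show ¬ r ∣ (St.subgroupOf H).index
    rw [h1]
    exact S.not_dvd_index
  have hZSt : Z ≤ St := by
    rw [hStdef, ← Subgroup.map_subgroupOf_eq_of_le hZH]
    exact Subgroup.map_mono hS
  have hStc : IsCyclic St := by
    by_contra hnc
    obtain ⟨B, hBSt, hB, hBc⟩ :=
      Cfsg.Agent.Lib.helper13.exists_elemAb_sq_of_not_cyclic hodd St hStp hnc
    exact no_elemAb hr hrk B hB hBc (hBSt.trans hStH)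
  have hRp : IsPGroup r R := IsPGroup.of_card (n := 1) (by rw [hR, pow_one])
  obtain ⟨w, hwH, hw⟩ := Cfsg.Agent.Lib.helper74.exists_conj_le_of_pgroup hStp hSyl hRH hRp
  have hzSt : (z : G) ∈ St := hZSt (hZdef ▸ Subgroup.mem_zpowers _)
  intro x hx
  have h1 : w * x * w⁻¹ ∈ St := hw (Cfsg.Agent.Lib.helper74.conj_mem_conj_smul hx)
  have hxr : x ^ r = 1 := by
    have h2 : (⟨x, hx⟩ : R) ^ Nat.card R = 1 := pow_card_eq_one'
    rw [hR] at h2
    exact congrArg Subtype.val h2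
  have h2 : (w * x * w⁻¹) ^ r = 1 := by rw [conj_pow, hxr]; group
  haveI := hStc
  have h3 := Cfsg.Agent.Lib.helper55.mem_zpowers_of_pow_eq_one_of_cyclic (P := St) hr.pos
    (w := ⟨(z : G), hzSt⟩) (u := ⟨w * x * w⁻¹, h1⟩)
    (by rw [Subgroup.orderOf_mk]; exact hzo) (Subtype.ext (by simpa using h2))
  obtain ⟨k, hk⟩ := Subgroup.mem_zpowers_iff.mp h3
  have h4 : w * x * w⁻¹ = (z : G) ^ k := by
    have := congrArg Subtype.val hk
    simpa using this.symm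
  have h5 : w * x * w⁻¹ ∈ (⁅H, H⁆ : Subgroup G) := by
    rw [h4]; exact Subgroup.zpow_mem _ z.2 k
  have h6 := conj_mem_commutator H (H.inv_mem hwH) h5
  have h7 : w⁻¹ * (w * x * w⁻¹) * w⁻¹⁻¹ = x := by group
  rwa [h7] at h6

/-- **The `L`-argument.**  `M` of `p`-rank one, `p` not ideal, `A` elementary abelian of order `p²`
meeting `M` nontrivially: no element of prime order of `M_σ` centralizes `A`. -/
theorem l_argument (hG : IsMinSimpleOddOrder G) (M : Subgroup G) (hM : IsCoatom M) {p : ℕ}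
    [Fact p.Prime] (hrk : PRankLE p 1 M) (hni : ¬ IsIdealPrime p G) (A : Subgroup G)
    (hA : IsElementaryAbelian p A) (hAc : Nat.card A = p ^ 2) (P : Subgroup G) (hPA : P ≤ A)
    (hPM : P ≤ M) (hP1 : P ≠ ⊥) (x : G) (hx : x ∈ sigmaCore M) {q : ℕ} (hq : q.Prime)
    (hxo : orderOf x = q) (hAx : A ≤ Subgroup.centralizer ({x} : Set G)) : False := by
  have hp : p.Prime := Fact.out
  haveI : Fact q.Prime := ⟨hq⟩
  have hU := Cfsg.Agent.Lib.helper13.bgx_uniq hG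
  have hF := Cfsg.Agent.Lib.helper13.bgx_fus hG
  have hPL : Cfsg.Agent.Lib.helper8.BGPLenHyp G := by
    intro p hp H hH
    have : Fact p.Prime := ⟨hp⟩
    exact Cfsg.Agent.S1410.result hG p H hH
  obtain ⟨hodd, hsimple, hna, hsolv⟩ := id hG
  have hσM : sigmaCore M ≤ M := Subgroup.map_subtype_le _
  obtain ⟨X, hXdef⟩ : ∃ X : Subgroup G, X = Subgroup.zpowers x := ⟨_, rfl⟩
  have hXc : Nat.card X = q := by rw [hXdef, Nat.card_zpowers, hxo]
  have hXq : IsPGroup q X := IsPGroup.of_card (n := 1) (by rw [hXc, pow_one])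
  have hXσ : X ≤ sigmaCore M := by rw [hXdef, Subgroup.zpowers_le]; exact hx
  have hXM : X ≤ M := hXσ.trans hσM
  have hX1 : X ≠ ⊥ := by
    intro h
    rw [h, Subgroup.card_bot] at hXc
    exact hq.one_lt.ne hXc
  have hXtop : X ≠ ⊤ := fun h => hM.1 (top_le_iff.mp (h ▸ hXM))
  have hqM : q ∈ sigma M :=
    Cfsg.Agent.Lib.helper54.PrimeAct.mem_sigma_of_dvd hG M hM hXσ hq (hXc ▸ dvd_rfl)
  obtain ⟨L, hL, hNXL⟩ :=
    (eq_top_or_exists_le_coatom (Subgroup.normalizer (X : Set G))).resolve_left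
      (Cfsg.Agent.Lib.helper71.BG12.normalizer_ne_top' hG hX1 hXtop)
  have hAN : A ≤ Subgroup.normalizer (X : Set G) := by
    intro a ha
    apply Cfsg.Agent.Lib.helper13.mem_normalizer_of_forall_conj_mem
    intro y hy
    rw [hXdef] at hy ⊢
    obtain ⟨k, rfl⟩ := Subgroup.mem_zpowers_iff.mp hy
    have hc : Commute a x := ((Subgroup.mem_centralizer_iff.mp (hAx ha)) x rfl).symm
    have h1 : a * x ^ k * a⁻¹ = x ^ k := by
      rw [(hc.zpow_right k).eq]; group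
    rw [h1]
    exact Subgroup.zpow_mem_zpowers x k
  have hAL : A ≤ L := hAN.trans hNXL
  have hne : L ≠ M := by
    rintro rfl
    exact no_elemAb hp hrk A hA hAc hAL
  have hXML : X ≤ M ⊓ L := le_inf hXM (Subgroup.le_normalizer.trans hNXL)
  have hXq' : IsPGroup q (X.subgroupOf (M ⊓ L)) := hXq.comap_subtype
  obtain ⟨S, hS⟩ := hXq'.exists_le_sylow
  have hXS : X ≤ (S : Subgroup ↥(M ⊓ L)).map (M ⊓ L).subtype := by
    rw [← Subgroup.map_subgroupOf_eq_of_le hXML]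
    exact Subgroup.map_mono hS
  obtain ⟨hnc, hNS, hidx⟩ :=
    Cfsg.Agent.S1424.result hG M hM q hqM X hXq hX1 hXM L hL hne hNXL S hXS
  obtain ⟨S', hS'def⟩ :
      ∃ S' : Subgroup G, S' = (S : Subgroup ↥(M ⊓ L)).map (M ⊓ L).subtype := ⟨_, rfl⟩
  rw [← hS'def] at hXS hNS hidx
  have hS'q : IsPGroup q S' := hS'def ▸ S.isPGroup'.map _
  have hS'ML : S' ≤ M ⊓ L := hS'def ▸ Subgroup.map_subtype_le _
  have hLsolv : Group.IsSolvable ↥L := hsolv L hL.1
  have hfin : ¬ p ∣ (M ⊓ L).relIndex L → False := by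
    intro hnd
    obtain ⟨l, hl⟩ := Cfsg.Agent.Lib.helper55.BGJ.exists_conj_le_of_relIndex hLsolv hAL
      (D := M ⊓ L) (by
        intro r hr hrA
        rw [hAc] at hrA
        have h1 : r = p := (Nat.prime_dvd_prime_iff_eq hr hp).mp (hr.dvd_of_dvd_pow hrA)
        rw [h1]; exact hnd)
    exact no_elemAb_conj hp hrk A hA hAc l (hl.trans (Subgroup.map_mono inf_le_left))
  by_cases hqL : q ∈ sigma L
  · apply hfin
    exact Cfsg.Agent.Lib.helper55.BGJ.caseA_index hG hU hF hPL hL hqL S' hS'q hS'ML hNS hidx hp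
      (fun hβ => hni hβ.2)
  · have hS'L : S' ≤ L := hS'ML.trans inf_le_right
    have hS'1 : S' ≠ ⊥ := fun h => hX1 (le_bot_iff.mp (h ▸ hXS))
    have hS'nc : ¬ IsCyclic S' := by
      intro hc
      exact hqL (Cfsg.Agent.Lib.helper54.PrimeAct.mem_sigma_of_relIndex hS'q hS'L hidx hS'1
        ((Cfsg.Agent.Lib.helper86.BG1424.normalizer_le_of_le_cyclic hc hXS).trans hNXL))
    obtain ⟨Aq, hAqS, hAq, hAqc⟩ :=
      Cfsg.Agent.Lib.helper13.exists_elemAb_sq_of_not_cyclic hodd S' hS'q hS'nc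
    have hAqL : Aq ≤ L := hAqS.trans hS'L
    have hAqM : Aq ≤ M := (hAqS.trans hS'ML).trans inf_le_left
    have hτ : q ∈ tau2 L := by
      refine ⟨hq, hqL, ?_, ?_⟩
      · by_contra hr
        exact hqL (Cfsg.Agent.Lib.helper8.bg_alpha_sub_sigma hG hU L hL ⟨hq, hr⟩)
      · intro hr
        exact no_elemAb hq hr Aq hAq hAqc hAqL
    obtain ⟨hnil, -, -, -, hdisj, -⟩ :=
      Cfsg.Agent.S1417.result hG L hL q hτ Aq ⟨hAqL, hAq, hAqc⟩
    have hLM : sigmaCore L ⊓ M = ⊥ := hdisj M hM (Ne.symm hne) hAqM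
    by_cases hpL : p ∈ sigma L
    · have hPp : IsPGroup p P := (IsPGroup.of_card hAc).to_le hPA
      have hPL' : P ≤ sigmaCore L :=
        Cfsg.Agent.Lib.helper8.bg_pgroup_le_sigmaCore hG hU hF L hL hpL P (hPA.trans hAL) hPp
      exact hP1 (le_bot_iff.mp (hLM ▸ le_inf hPL' hPM))
    · apply hfin
      obtain ⟨EL, hEL, hAqEL⟩ :=
        Cfsg.Agent.Lib.helper60.BGCentU.exists_compl_ge hG L hL Aq hAqL (by
          intro r hr hrA
          rw [hAqc] at hrA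
          have h1 : r = q := (Nat.prime_dvd_prime_iff_eq hr hq).mp (hr.dvd_of_dvd_pow hrA)
          rw [h1]; exact hqL)
      have h16 : Cfsg.Agent.Lib.helper8.BGTwelveFourHyp G :=
        fun M hM p _ A hA => Cfsg.Agent.S1416.result hG M hM p A hA
      have h17 : Cfsg.Agent.Lib.helper97.BG7FiveHyp G :=
        fun M hM p _ hp A hA => Cfsg.Agent.S1417.result hG M hM p hp A hA
      have h18 := Cfsg.Agent.Lib.helper97.bg7_six_of hG h16 h17
      obtain ⟨⟨hELN, -⟩, -, -⟩ := h18 L hL EL hEL q hτ Aq ⟨hAqEL, hAq, hAqc⟩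
      have hAqnc : ¬ IsCyclic Aq := by
        intro hc
        have h1 := Cfsg.Agent.Lib.helper54.PrimeAct.card_le_of_cyclic_exp hq.pos Aq hAq.2 hc
        rw [hAqc] at h1
        have : q < q ^ 2 := by nlinarith [hq.two_le]
        omega
      have hNAq : Subgroup.normalizer (Aq : Set G) ≤ M :=
        Cfsg.Agent.Lib.helper69.bg1210_normalizer_le hG M
          (fun p _ A hA => (Cfsg.Agent.S1416.result hG M hM p A hA).1)
          (fun p _ hp X hXp hX1 hXM => (Cfsg.Agent.S1404.result hG M hM p hp X hXp hX1 hXM).2)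
          q Aq hqM (IsPGroup.of_card hAqc) hAqM hAqnc
      have hELML : EL ≤ M ⊓ L := le_inf (hELN.trans hNAq) hEL.1
      have h1 : (M ⊓ L).relIndex L ∣ EL.relIndex L := Subgroup.relIndex_dvd_of_le_left L hELML
      have h2 : EL.relIndex L = Nat.card (sigmaCore L) := by
        have h3 : Nat.card EL * Nat.card (sigmaCore L) = Nat.card L :=
          Cfsg.Agent.Lib.helper29.IsComplIn.card_mul hEL
        have h4 : Nat.card EL * EL.relIndex L = Nat.card L := by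
          have := Subgroup.card_mul_index (EL.subgroupOf L)
          rwa [Nat.card_congr (Subgroup.subgroupOfEquivOfLe hEL.1).toEquiv] at this
        exact Nat.eq_of_mul_eq_mul_left Nat.card_pos (h4.trans h3.symm)
      intro hd
      have h5 := hd.trans h1
      rw [h2] at h5
      exact (Nat.Prime.coprime_iff_not_dvd hp).mp
        (Cfsg.Agent.Lib.helper8.bg_sigmaCore_card_coprime L hp hpL).symm h5

/-- Elements of the join of two elementwise commuting subgroups are products. -/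
theorem mem_sup_of_comm {P₁ P₂ : Subgroup G} (hc : ∀ a ∈ P₁, ∀ b ∈ P₂, a * b = b * a) {s : G}
    (hs : s ∈ P₁ ⊔ P₂) : ∃ a ∈ P₁, ∃ z ∈ P₂, s = a * z := by
  rw [Subgroup.sup_eq_closure_mul] at hs
  induction hs using Subgroup.closure_induction with
  | mem x hx =>
    obtain ⟨a, ha, z, hz, rfl⟩ := Set.mem_mul.mp hx
    exact ⟨a, ha, z, hz, rfl⟩
  | one => exact ⟨1, P₁.one_mem, 1, P₂.one_mem, (mul_one 1).symm⟩
  | mul x y _ _ hx hy =>
    obtain ⟨a, ha, z, hz, rfl⟩ := hx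
    obtain ⟨b, hb, w, hw, rfl⟩ := hy
    refine ⟨a * b, P₁.mul_mem ha hb, z * w, P₂.mul_mem hz hw, ?_⟩
    have h1 := hc b hb z hz
    calc a * z * (b * w) = a * (z * b) * w := by group
      _ = a * (b * z) * w := by rw [h1]
      _ = a * b * (z * w) := by group
  | inv x _ hx =>
    obtain ⟨a, ha, z, hz, rfl⟩ := hx
    refine ⟨a⁻¹, P₁.inv_mem ha, z⁻¹, P₂.inv_mem hz, ?_⟩
    have h1 := hc a ha z hz
    calc (a * z)⁻¹ = (z * a)⁻¹ := by rw [h1]
      _ = a⁻¹ * z⁻¹ := by group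

/-- Two elements normalizing an elementary abelian group `A` of order `p²` and centralizing a
subgroup `P ≤ A` of order `p`: their commutator, if of order prime to `p`, centralizes `A`. -/
theorem comm_centralizes {p : ℕ} [Fact p.Prime] (A P : Subgroup G)
    (hA : IsElementaryAbelian p A) (hAc : Nat.card A = p ^ 2) (hPA : P ≤ A)
    (hP : Nat.card P = p) {g h : G} (hg : g ∈ Subgroup.normalizer (A : Set G))
    (hgP : g ∈ Subgroup.centralizer (P : Set G)) (hh : h ∈ Subgroup.normalizer (A : Set G))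
    (hhP : h ∈ Subgroup.centralizer (P : Set G))
    (hcop : (orderOf (g * h * g⁻¹ * h⁻¹)).Coprime p) :
    g * h * g⁻¹ * h⁻¹ ∈ Subgroup.centralizer (A : Set G) := by
  have hp : p.Prime := Fact.out
  have hAcomm := ((Cfsg.Agent.Lib.helper8.bg_elemAb_iff A).mp hA).1
  have hPp : IsPGroup p P := IsPGroup.of_card (n := 1) (by rw [hP, pow_one])
  obtain ⟨a₀, ha₀A, ha₀P⟩ : ∃ a₀ ∈ A, a₀ ∉ P := by
    by_contra hcon
    push Not at hcon
    have h1 : Nat.card A ≤ Nat.card P := Subgroup.card_le_of_le (fun a ha => hcon a ha)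
    rw [hAc, hP] at h1
    have : p < p ^ 2 := by nlinarith [hp.two_le]
    omega
  obtain ⟨Q, hQdef⟩ : ∃ Q : Subgroup G, Q = P ⊔ Subgroup.zpowers a₀ := ⟨_, rfl⟩
  have hPQ : P ≤ Q := hQdef ▸ le_sup_left
  have hQA : Q ≤ A := by
    rw [hQdef]; exact sup_le hPA (by rw [Subgroup.zpowers_le]; exact ha₀A)
  have ha₀Q : a₀ ∈ Q :=
    hQdef ▸ (le_sup_right : Subgroup.zpowers a₀ ≤ P ⊔ Subgroup.zpowers a₀)
      (Subgroup.mem_zpowers a₀)
  have hQeq : Q = A := by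
    apply Subgroup.eq_of_le_of_card_ge hQA
    have h1 : Nat.card Q ∣ p ^ 2 := hAc ▸ Subgroup.card_dvd_of_le hQA
    have h2 : p ∣ Nat.card Q := hP ▸ Subgroup.card_dvd_of_le hPQ
    obtain ⟨j, hj, hjc⟩ := (Nat.dvd_prime_pow hp).mp h1
    have hj1 : j ≠ 1 := by
      rintro rfl
      rw [pow_one] at hjc
      have h3 : P = Q := Subgroup.eq_of_le_of_card_ge hPQ (by rw [hjc, hP])
      exact ha₀P (h3 ▸ ha₀Q)
    have hj0 : j ≠ 0 := by
      rintro rfl
      rw [pow_zero] at hjc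
      rw [hjc] at h2
      exact hp.one_lt.ne' (Nat.dvd_one.mp h2)
    have hj2 : j = 2 := by omega
    rw [hAc, hjc, hj2]
  have hzc : ∀ a ∈ P, ∀ b ∈ Subgroup.zpowers a₀, a * b = b * a := by
    intro a ha b hb
    obtain ⟨k, rfl⟩ := Subgroup.mem_zpowers_iff.mp hb
    exact hAcomm a (hPA ha) _ (A.zpow_mem ha₀A k)
  have hdec : ∀ b ∈ A, ∃ i : ℤ, b * (a₀ ^ i)⁻¹ ∈ P := by
    intro b hb
    rw [← hQeq, hQdef] at hb
    obtain ⟨z, hz, c, hc, rfl⟩ := mem_sup_of_comm hzc hb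
    obtain ⟨i, rfl⟩ := Subgroup.mem_zpowers_iff.mp hc
    refine ⟨i, ?_⟩
    have h1 : z * a₀ ^ i * (a₀ ^ i)⁻¹ = z := by group
    rw [h1]; exact hz
  have hconjA : ∀ t ∈ Subgroup.normalizer (A : Set G), ∀ a ∈ A, t * a * t⁻¹ ∈ A :=
    fun t ht a ha => (Subgroup.mem_normalizer_iff.mp ht a).mp ha
  have hconjP : ∀ t ∈ Subgroup.centralizer (P : Set G), ∀ z ∈ P, t * z * t⁻¹ = z := by
    intro t ht z hz
    have h1 := (Subgroup.mem_centralizer_iff.mp ht) z hz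
    rw [← h1]; group
  have hstep : ∀ t ∈ Subgroup.centralizer (P : Set G), ∀ (b c : G), b * c⁻¹ ∈ P →
      (t * b * t⁻¹) * (t * c * t⁻¹)⁻¹ ∈ P := by
    intro t htP b c hbc
    have h1 : (t * b * t⁻¹) * (t * c * t⁻¹)⁻¹ = t * (b * c⁻¹) * t⁻¹ := by group
    rw [h1, hconjP t htP _ hbc]; exact hbc
  have hpow : ∀ (b c : G), b ∈ A → c ∈ A → b * c⁻¹ ∈ P → ∀ j : ℤ, b ^ j * (c ^ j)⁻¹ ∈ P := by
    intro b c hb hc hbc j
    have hcomm : Commute b c⁻¹ := hAcomm b hb c⁻¹ (A.inv_mem hc)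
    have h1 : b ^ j * (c ^ j)⁻¹ = (b * c⁻¹) ^ j := by
      rw [hcomm.mul_zpow, inv_zpow]
    rw [h1]; exact P.zpow_mem hbc j
  have htrans : ∀ b c d : G, b * c⁻¹ ∈ P → c * d⁻¹ ∈ P → b * d⁻¹ ∈ P := by
    intro b c d h1 h2
    have h3 : b * d⁻¹ = (b * c⁻¹) * (c * d⁻¹) := by group
    rw [h3]; exact P.mul_mem h1 h2
  have hkey : ∀ s t : G, s ∈ Subgroup.normalizer (A : Set G) →
      s ∈ Subgroup.centralizer (P : Set G) → t ∈ Subgroup.normalizer (A : Set G) →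
      t ∈ Subgroup.centralizer (P : Set G) → ∀ i j : ℤ, (s * a₀ * s⁻¹) * (a₀ ^ i)⁻¹ ∈ P →
      (t * a₀ * t⁻¹) * (a₀ ^ j)⁻¹ ∈ P →
      (s * (t * a₀ * t⁻¹) * s⁻¹) * ((a₀ ^ i) ^ j)⁻¹ ∈ P := by
    intro s t hsN hsP htN _ i j hi hj
    have h1 := hstep s hsP (t * a₀ * t⁻¹) (a₀ ^ j) hj
    have h2 : s * a₀ ^ j * s⁻¹ = (s * a₀ * s⁻¹) ^ j := conj_zpow.symm
    rw [h2] at h1
    have h3 := hpow (s * a₀ * s⁻¹) (a₀ ^ i) (hconjA s hsN a₀ ha₀A) (A.zpow_mem ha₀A i) hi j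
    exact htrans _ _ _ h1 h3
  have hg'N : g⁻¹ ∈ Subgroup.normalizer (A : Set G) := Subgroup.inv_mem _ hg
  have hg'P : g⁻¹ ∈ Subgroup.centralizer (P : Set G) := Subgroup.inv_mem _ hgP
  have hh'N : h⁻¹ ∈ Subgroup.normalizer (A : Set G) := Subgroup.inv_mem _ hh
  have hh'P : h⁻¹ ∈ Subgroup.centralizer (P : Set G) := Subgroup.inv_mem _ hhP
  obtain ⟨i, hi⟩ := hdec (g⁻¹ * a₀ * g⁻¹⁻¹) (hconjA g⁻¹ hg'N a₀ ha₀A)
  obtain ⟨j, hj⟩ := hdec (h⁻¹ * a₀ * h⁻¹⁻¹) (hconjA h⁻¹ hh'N a₀ ha₀A)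
  have hu1 := hkey g⁻¹ h⁻¹ hg'N hg'P hh'N hh'P i j hi hj
  have hu2 := hkey h⁻¹ g⁻¹ hh'N hh'P hg'N hg'P j i hj hi
  have hij : (a₀ ^ i) ^ j = (a₀ ^ j) ^ i := by rw [← zpow_mul, ← zpow_mul, mul_comm]
  have hu : (g⁻¹ * (h⁻¹ * a₀ * h⁻¹⁻¹) * g⁻¹⁻¹) * (h⁻¹ * (g⁻¹ * a₀ * g⁻¹⁻¹) * h⁻¹⁻¹)⁻¹ ∈ P := by
    have h4 : (a₀ ^ j) ^ i * (h⁻¹ * (g⁻¹ * a₀ * g⁻¹⁻¹) * h⁻¹⁻¹)⁻¹ ∈ P := by
      have h5 := P.inv_mem hu2
      have e : ((h⁻¹ * (g⁻¹ * a₀ * g⁻¹⁻¹) * h⁻¹⁻¹) * ((a₀ ^ j) ^ i)⁻¹)⁻¹ =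
          (a₀ ^ j) ^ i * (h⁻¹ * (g⁻¹ * a₀ * g⁻¹⁻¹) * h⁻¹⁻¹)⁻¹ := by group
      rwa [e] at h5
    rw [hij] at hu1
    exact htrans _ _ _ hu1 h4
  obtain ⟨w, hw⟩ : ∃ w : G, w = g * h * g⁻¹ * h⁻¹ := ⟨_, rfl⟩
  rw [← hw] at hcop ⊢
  have hwP : w ∈ Subgroup.centralizer (P : Set G) := by
    rw [hw]
    exact Subgroup.mul_mem _ (Subgroup.mul_mem _ (Subgroup.mul_mem _ hgP hhP) hg'P) hh'P
  have hz0 : w * a₀ * w⁻¹ * a₀⁻¹ ∈ P := by
    have e : w * a₀ * w⁻¹ * a₀⁻¹ = (h⁻¹ * g⁻¹)⁻¹ *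
        ((g⁻¹ * (h⁻¹ * a₀ * h⁻¹⁻¹) * g⁻¹⁻¹) * (h⁻¹ * (g⁻¹ * a₀ * g⁻¹⁻¹) * h⁻¹⁻¹)⁻¹) *
        (h⁻¹ * g⁻¹)⁻¹⁻¹ := by
      rw [hw]; group
    rw [e, hconjP _ (Subgroup.inv_mem _ (Subgroup.mul_mem _ hh'P hg'P)) _ hu]
    exact hu
  have hcomm0 : Commute w a₀ :=
    Cfsg.Agent.Lib.helper55.commute_of_quadratic hPp hcop hz0
      ((Subgroup.mem_centralizer_iff.mp hwP) _ hz0).symm
  rw [← hQeq, hQdef, Subgroup.mem_centralizer_iff]
  intro b hb
  obtain ⟨z, hz, c, hc, rfl⟩ := mem_sup_of_comm hzc hb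
  obtain ⟨k, rfl⟩ := Subgroup.mem_zpowers_iff.mp hc
  have h1 : z * w = w * z := (Subgroup.mem_centralizer_iff.mp hwP) z hz
  have h2 : a₀ ^ k * w = w * a₀ ^ k := ((hcomm0.zpow_right k).eq).symm
  calc z * a₀ ^ k * w = z * (a₀ ^ k * w) := by group
    _ = z * (w * a₀ ^ k) := by rw [h2]
    _ = (z * w) * a₀ ^ k := by group
    _ = w * z * a₀ ^ k := by rw [h1]
    _ = w * (z * a₀ ^ k) := by group

/-- **Lemma 13.4, good cases.**  `p ∈ τ₁(M)`, `P ≤ E` of order `p`, `R ≤ C_E(P)` of prime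
order `r`, `Y₀ ≤ C_{M_σ}(P)` normalized by `R`, `H` a maximal subgroup containing `N_G(P)`.
Then `R` centralizes `Y₀`, unless `p ∈ σ(H)` and `r ∈ τ₁(H)` (the hypothesis `hbad`). -/
theorem good_cases (hG : IsMinSimpleOddOrder G) (M : Subgroup G) (hM : IsCoatom M)
    (E : Subgroup G) (hE : IsComplIn E (sigmaCore M) M) (p : ℕ) (hp : p ∈ tau1 M)
    (P : Subgroup G) (hPE : P ≤ E) (hP : Nat.card P = p) (R : Subgroup G)
    (hRE : R ≤ E ⊓ Subgroup.centralizer (P : Set G)) (hR : (Nat.card R).Prime)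
    (Y0 : Subgroup G) (hY0 : Y0 ≤ sigmaCore M ⊓ Subgroup.centralizer (P : Set G))
    (hRY : R ≤ Subgroup.normalizer (Y0 : Set G)) (H : Subgroup G) (hH : IsCoatom H)
    (hNH : Subgroup.normalizer (P : Set G) ≤ H)
    (hbad : p ∈ sigma H → Nat.card R ∈ tau1 H → Y0 ≤ Subgroup.centralizer (R : Set G)) :
    Y0 ≤ Subgroup.centralizer (R : Set G) := by
  obtain ⟨hpp, hpM, -, -, hprk⟩ := id hp
  haveI : Fact p.Prime := ⟨hpp⟩
  obtain ⟨r, hrdef⟩ : ∃ r : ℕ, r = Nat.card R := ⟨_, rfl⟩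
  rw [← hrdef] at hR hbad
  haveI : Fact r.Prime := ⟨hR⟩
  have hU := Cfsg.Agent.Lib.helper13.bgx_uniq hG
  have hF := Cfsg.Agent.Lib.helper13.bgx_fus hG
  obtain ⟨hodd, hsimple, hna, hsolv⟩ := id hG
  have h16 : Cfsg.Agent.Lib.helper8.BGTwelveFourHyp G :=
    fun M hM p _ A hA => Cfsg.Agent.S1416.result hG M hM p A hA
  have h17 : Cfsg.Agent.Lib.helper97.BG7FiveHyp G :=
    fun M hM p _ hp A hA => Cfsg.Agent.S1417.result hG M hM p hp A hA
  have h18 := Cfsg.Agent.Lib.helper97.bg7_six_of hG h16 h17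
  have hσM : sigmaCore M ≤ M := Subgroup.map_subtype_le _
  have hRp : IsPGroup r R := IsPGroup.of_card (n := 1) (by rw [← hrdef, pow_one])
  have hPp : IsPGroup p P := IsPGroup.of_card (n := 1) (by rw [hP, pow_one])
  have hP1 : P ≠ ⊥ := by
    intro h
    rw [h, Subgroup.card_bot] at hP
    exact hpp.one_lt.ne hP
  have hCPH : Subgroup.centralizer (P : Set G) ≤ H :=
    (Subgroup.centralizer_le_normalizer _).trans hNH
  have hY0σ : Y0 ≤ sigmaCore M := hY0.trans inf_le_left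
  have hY0C : Y0 ≤ Subgroup.centralizer (P : Set G) := hY0.trans inf_le_right
  have hRC : R ≤ Subgroup.centralizer (P : Set G) := hRE.trans inf_le_right
  have hY0H : Y0 ≤ H := hY0C.trans hCPH
  have hRH : R ≤ H := hRC.trans hCPH
  have hPH : P ≤ H := Subgroup.le_normalizer.trans hNH
  have hPM : P ≤ M := hPE.trans hE.1
  have hrE : r ∣ Nat.card E := hrdef ▸ Subgroup.card_dvd_of_le (hRE.trans inf_le_left)
  have hrM : r ∉ sigma M := by
    intro hrσ
    have h1 := (Cfsg.Agent.S1350.result hG M hM).1.2.2 r hR hrσ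
    rw [← Cfsg.Agent.Lib.helper29.IsComplIn.card_left hE] at h1
    exact h1 hrE
  have hcopMr : (Nat.card (sigmaCore M)).Coprime r :=
    Cfsg.Agent.Lib.helper8.bg_sigmaCore_card_coprime M hR hrM
  have hcopMp : (Nat.card (sigmaCore M)).Coprime p :=
    Cfsg.Agent.Lib.helper8.bg_sigmaCore_card_coprime M hpp hpM
  have hcopRY : (Nat.card R).Coprime (Nat.card Y0) := by
    rw [← hrdef]
    exact (hcopMr.coprime_dvd_left (Subgroup.card_dvd_of_le hY0σ)).symm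
  have hRsolv : Group.IsSolvable R := by
    haveI := hRp.isNilpotent
    infer_instance
  obtain ⟨W, hWdef⟩ : ∃ W : Subgroup G, W = ⁅Y0, R⁆ := ⟨_, rfl⟩
  have hWW : ⁅W, R⁆ = W := by
    rw [hWdef]
    exact Cfsg.Agent.Lib.helper1.commutator_commutator_eq R Y0 hRY hcopRY (Or.inl hRsolv)
  have hWY : W ≤ Y0 := hWdef ▸ Cfsg.Agent.Lib.helper1.commutator_le_of_le_normalizer hRY
  have hgoal : W = ⊥ → Y0 ≤ Subgroup.centralizer (R : Set G) :=
    fun h => Subgroup.commutator_eq_bot_iff_le_centralizer.mp (hWdef ▸ h)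
  have hcopW : ∀ q : ℕ, (Nat.card (sigmaCore M)).Coprime q → (Nat.card W).Coprime q :=
    fun q hq => hq.coprime_dvd_left (Subgroup.card_dvd_of_le (hWY.trans hY0σ))
  have hA₁H : ∀ A₁ : Subgroup G, IsElementaryAbelian p A₁ → P ≤ A₁ → A₁ ≤ H := by
    intro A₁ hA₁ hPA₁
    have hA₁comm := ((Cfsg.Agent.Lib.helper8.bg_elemAb_iff A₁).mp hA₁).1
    refine le_trans ?_ hCPH
    intro a ha
    rw [Subgroup.mem_centralizer_iff]
    intro x hx
    exact hA₁comm x (hPA₁ hx) a ha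
  -- `H` is not conjugate to `M`
  have hnc : ∀ g : G, H ≠ M.map (MulAut.conj g).toMonoidHom := by
    intro g hHg
    by_cases hpH : p ∈ sigma H
    · rw [hHg, Cfsg.Agent.Lib.helper3.sigma_map_conj] at hpH
      exact hpM hpH
    · obtain ⟨-, -, A₁, hA₁, hA₁c, hPA₁⟩ := Cfsg.Agent.S1409.result hG H hH p hpH P hP hNH
      exact no_elemAb_conj hpp hprk A₁ hA₁ hA₁c g (hHg ▸ hA₁H A₁ hA₁ hPA₁)
  by_cases hrσ : r ∈ sigma H
  · exact Cfsg.Agent.Lib.helper3.bg_cross_centralize hG M H hM hH r hrM hrσ R hRp hRH Y0 hY0σ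
      hY0H hRY
  have hrH : r ∣ Nat.card H := hrdef ▸ Subgroup.card_dvd_of_le hRH
  -- a complement of `H_σ` containing a given `σ(H)'`-subgroup built from `R`, `Y0`, `P`
  have hprimeR : ∀ q : ℕ, q.Prime → q ∣ Nat.card R → q = r := by
    intro q hq hqR
    rw [← hrdef] at hqR
    exact (Nat.prime_dvd_prime_iff_eq hq hR).mp hqR
  by_cases hrk1 : PRankLE r 1 H
  · by_cases hrd : r ∣ Nat.card ↥(⁅H, H⁆ : Subgroup G)
    · -- `r ∈ τ₃(H)`: `R ≤ H'`
      apply hgoal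
      have hRH' : R ≤ ⁅H, H⁆ := le_commutator_of_rank_one hodd H hrd hrk1 R hRH hrdef.symm
      have hWH' : W ≤ ⁅H, H⁆ := by rw [hWdef]; exact Subgroup.commutator_mono hY0H hRH
      have hnil := (Cfsg.Agent.S1405.result hG H hH).2.2.2.2
      have hWR : ⁅W, R⁆ ≤ alphaCore H ⊓ sigmaCore M := by
        rw [Subgroup.commutator_le]
        intro w hw x hx
        refine ⟨?_, ?_⟩
        · rw [commutatorElement_def]
          apply comm_mem_alphaCore H hnil (hWH' hw) (hRH' hx)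
          have h1 : orderOf w ∣ Nat.card (sigmaCore M) :=
            Subgroup.orderOf_dvd_natCard _ (hY0σ (hWY hw))
          have h2 : orderOf x ∣ r := hrdef ▸ Subgroup.orderOf_dvd_natCard _ hx
          exact Nat.Coprime.coprime_dvd_left h1 (Nat.Coprime.coprime_dvd_right h2 hcopMr)
        · have h1 : ⁅w, x⁆ ∈ ⁅W, R⁆ := Subgroup.commutator_mem_commutator hw hx
          rw [hWW] at h1
          exact hY0σ (hWY h1)
      rw [alphaCore_inf_sigmaCore hG M H hM hH hnc] at hWR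
      rw [← hWW]
      exact le_bot_iff.mp hWR
    · -- `r ∈ τ₁(H)`
      have hτ1 : r ∈ tau1 H := ⟨hR, hrσ, hrH, hrd, hrk1⟩
      by_cases hpH : p ∈ sigma H
      · exact hbad hpH hτ1
      · -- `p ∈ τ₂(H)`: the `L`-argument
        obtain ⟨⟨hr2, hr1⟩, hni, A₁, hA₁, hA₁c, hPA₁⟩ :=
          Cfsg.Agent.S1409.result hG H hH p hpH P hP hNH
        have hτp : p ∈ tau2 H := ⟨hpp, hpH, hr2, hr1⟩
        obtain ⟨hnilH, -⟩ :=
          Cfsg.Agent.S1417.result hG H hH p hτp A₁ ⟨hA₁H A₁ hA₁ hPA₁, hA₁, hA₁c⟩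
        have hdisj : ∀ q : ℕ, q ∈ sigma M → q ∉ sigma H := fun q hqM hqH =>
          Cfsg.Agent.Lib.helper55.BGJ.not_mem_sigma_of_nilpotent hG hU hF hM hH hnilH hnc hqM hqH
        obtain ⟨T0, hT0def⟩ : ∃ T0 : Subgroup G, T0 = R ⊔ Y0 := ⟨_, rfl⟩
        obtain ⟨T, hTdef⟩ : ∃ T : Subgroup G, T = P ⊔ T0 := ⟨_, rfl⟩
        have hT0card : Nat.card T0 ∣ Nat.card R * Nat.card Y0 :=
          hT0def ▸ Cfsg.Agent.Lib.helper65.card_sup_dvd_mul hRY
        have hT0C : T0 ≤ Subgroup.centralizer (P : Set G) := hT0def ▸ sup_le hRC hY0C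
        have hPT0 : P ≤ Subgroup.normalizer (T0 : Set G) := by
          intro z hz
          apply Cfsg.Agent.Lib.helper13.mem_normalizer_of_forall_conj_mem
          intro t ht
          have h1 : z * t = t * z := (Subgroup.mem_centralizer_iff.mp (hT0C ht)) z hz
          have h2 : z * t * z⁻¹ = t := by rw [h1]; group
          rw [h2]; exact ht
        have hTcard : Nat.card T ∣ Nat.card P * Nat.card T0 :=
          hTdef ▸ Cfsg.Agent.Lib.helper65.card_sup_dvd_mul hPT0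
        have hT0H : T0 ≤ H := hT0def ▸ sup_le hRH hY0H
        have hTH : T ≤ H := hTdef ▸ sup_le hPH hT0H
        obtain ⟨E1, hE1, hTE1⟩ :=
          Cfsg.Agent.Lib.helper60.BGCentU.exists_compl_ge hG H hH T hTH (by
            intro q hq hqT hqH
            rcases (Nat.Prime.dvd_mul hq).mp (hqT.trans hTcard) with h | h
            · rw [hP] at h
              have h1 : q = p := (Nat.prime_dvd_prime_iff_eq hq hpp).mp h
              exact hpH (h1 ▸ hqH)
            · rcases (Nat.Prime.dvd_mul hq).mp (h.trans hT0card) with h | h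
              · exact hrσ (hprimeR q hq h ▸ hqH)
              · exact hdisj q
                  (Cfsg.Agent.Lib.helper54.PrimeAct.mem_sigma_of_dvd hG M hM hY0σ hq h) hqH)
        obtain ⟨A, hAE, hA, hAc⟩ :=
          Cfsg.Agent.Lib.helper97.bg7_exists_elemAb_compl H E1 hE1 p hτp
        obtain ⟨⟨hE1N, hsub⟩, -, -⟩ := h18 H hH E1 hE1 p hτp A ⟨hAE, hA, hAc⟩
        have hPT : P ≤ T := hTdef ▸ le_sup_left
        have hT0T : T0 ≤ T := hTdef ▸ le_sup_right
        have hRT : R ≤ T := (hT0def ▸ le_sup_left : R ≤ T0).trans hT0T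
        have hY0T : Y0 ≤ T := (hT0def ▸ le_sup_right : Y0 ≤ T0).trans hT0T
        have hPA : P ≤ A := hsub P (hPT.trans hTE1) hP
        have hWA : W ≤ Subgroup.centralizer (A : Set G) := by
          rw [hWdef, Subgroup.commutator_le]
          intro y hy x hx
          rw [commutatorElement_def]
          apply comm_centralizes A P hA hAc hPA hP (hE1N (hTE1 (hY0T hy))) (hY0C hy)
            (hE1N (hTE1 (hRT hx))) (hRC hx)
          have h1 : y * x * y⁻¹ * x⁻¹ ∈ W := by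
            rw [hWdef, ← commutatorElement_def]
            exact Subgroup.commutator_mem_commutator hy hx
          exact Nat.Coprime.coprime_dvd_left (Subgroup.orderOf_dvd_natCard _ h1)
            (hcopW p hcopMp)
        apply hgoal
        by_contra hW1
        have hcardW : Nat.card W ≠ 1 := fun h => hW1 (Subgroup.card_eq_one.mp h)
        obtain ⟨q, hq, hqW⟩ := Nat.exists_prime_and_dvd hcardW
        haveI : Fact q.Prime := ⟨hq⟩
        obtain ⟨x, hx⟩ := exists_prime_orderOf_dvd_card' q hqW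
        refine l_argument hG M hM hprk hni A hA hAc P hPA hPM hP1 (x : G) (hY0σ (hWY x.2)) hq
          (by rw [Subgroup.orderOf_coe, hx]) ?_
        intro a ha
        rw [Subgroup.mem_centralizer_iff]
        rintro _ rfl
        exact ((Subgroup.mem_centralizer_iff.mp (hWA x.2)) a ha).symm
  · -- `r ∈ τ₂(H)`
    have hτ2 : r ∈ tau2 H := by
      refine ⟨hR, hrσ, ?_, hrk1⟩
      by_contra hr2
      exact hrσ (Cfsg.Agent.Lib.helper8.bg_alpha_sub_sigma hG hU H hH ⟨hR, hr2⟩)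
    obtain ⟨E0, hE0, hRE0⟩ :=
      Cfsg.Agent.Lib.helper60.BGCentU.exists_compl_ge hG H hH R hRH (by
        intro q hq hqR hqH
        exact hrσ (hprimeR q hq hqR ▸ hqH))
    obtain ⟨B0, hB0E, hB0, hB0c⟩ :=
      Cfsg.Agent.Lib.helper97.bg7_exists_elemAb_compl H E0 hE0 r hτ2
    obtain ⟨hnilH, -⟩ :=
      Cfsg.Agent.S1417.result hG H hH r hτ2 B0 ⟨hB0E.trans hE0.1, hB0, hB0c⟩
    have hdisj : ∀ q : ℕ, q ∈ sigma M → q ∉ sigma H := fun q hqM hqH =>
      Cfsg.Agent.Lib.helper55.BGJ.not_mem_sigma_of_nilpotent hG hU hF hM hH hnilH hnc hqM hqH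
    obtain ⟨T, hTdef⟩ : ∃ T : Subgroup G, T = R ⊔ Y0 := ⟨_, rfl⟩
    have hTcard : Nat.card T ∣ Nat.card R * Nat.card Y0 :=
      hTdef ▸ Cfsg.Agent.Lib.helper65.card_sup_dvd_mul hRY
    have hTH : T ≤ H := hTdef ▸ sup_le hRH hY0H
    obtain ⟨E1, hE1, hTE1⟩ :=
      Cfsg.Agent.Lib.helper60.BGCentU.exists_compl_ge hG H hH T hTH (by
        intro q hq hqT hqH
        rcases (Nat.Prime.dvd_mul hq).mp (hqT.trans hTcard) with h | h
        · exact hrσ (hprimeR q hq h ▸ hqH)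
        · exact hdisj q
            (Cfsg.Agent.Lib.helper54.PrimeAct.mem_sigma_of_dvd hG M hM hY0σ hq h) hqH)
    obtain ⟨B, hBE, hB, hBc⟩ :=
      Cfsg.Agent.Lib.helper97.bg7_exists_elemAb_compl H E1 hE1 r hτ2
    obtain ⟨⟨hE1N, hsub⟩, -, -⟩ := h18 H hH E1 hE1 r hτ2 B ⟨hBE, hB, hBc⟩
    have hRT : R ≤ T := hTdef ▸ le_sup_left
    have hY0T : Y0 ≤ T := hTdef ▸ le_sup_right
    have hRB : R ≤ B := hsub R (hRT.trans hTE1) hrdef.symm
    apply hgoal
    have hWB : W ≤ B := by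
      rw [hWdef, Subgroup.commutator_le]
      intro y hy x hx
      rw [commutatorElement_def]
      have hyN : y ∈ Subgroup.normalizer (B : Set G) := hE1N (hTE1 (hY0T hy))
      have h1 : y * x * y⁻¹ ∈ B := (Subgroup.mem_normalizer_iff.mp hyN x).mp (hRB hx)
      exact B.mul_mem h1 (B.inv_mem (hRB hx))
    have hcop : (Nat.card W).Coprime (Nat.card B) := by
      rw [hBc]
      exact Nat.Coprime.pow_right 2 (hcopW r hcopMr)
    exact Subgroup.card_eq_one.mp (Nat.Coprime.eq_one_of_dvd hcop (Subgroup.card_dvd_of_le hWB))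

end Cfsg.Agent.Lib.helper54.Good
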