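/-
Bender-Glauberman, statement S1430, case (NA) (helper86's split, `tools/S1430_NA_SPEC.md`):
PIECE N1 `na_basic` (basic facts about `R := A ∩ C_G(M_σ)` and `Z := [A,P]`), statement verbatim
from `tools/S1430_NA_Skel.lean.txt`.

Reusable lemmas: `abel_comm_inf_cent` (abelian coprime action: `[A,P] ∩ C(P) = 1`, no solvability),
`prime_dvd_pred_of_act` (an element with `x ^ p = 1` acting fixed-point-freely on a group of prime
order `r` forces `p ∣ r - 1`).
-/
import Mathlib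
import Cfsg.Agent.Lib.helper71.BGRegNA
import Cfsg.Agent.Lib.helper1.Coprime

set_option autoImplicit false
open Cfsg

namespace Cfsg.Agent.Lib.helper54.BGNA

open Cfsg.Agent.Lib.helper8 Cfsg.Agent.Lib.helper97

variable {G : Type*} [Group G]

theorem le_normalizer_of_conj {K H : Subgroup G} (h : ∀ k ∈ K, ∀ x ∈ H, k * x * k⁻¹ ∈ H) :
    K ≤ Subgroup.normalizer (H : Set G) := by
  intro k hk
  rw [Subgroup.mem_normalizer_iff]
  intro x
  refine ⟨h k hk x, fun hx => ?_⟩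
  have h1 := h k⁻¹ (K.inv_mem hk) _ hx
  have h2 : k⁻¹ * (k * x * k⁻¹) * k⁻¹⁻¹ = x := by group
  rwa [h2] at h1

/-- Abelian coprime action: `[A,P] ∩ C(P) = 1` (norm map argument). -/
theorem abel_comm_inf_cent [Finite G] (A P : Subgroup G)
    (hab : ∀ a ∈ A, ∀ b ∈ A, a * b = b * a)
    (hPA : P ≤ Subgroup.normalizer (A : Set G))
    (hcop : (Nat.card A).Coprime (Nat.card P)) :
    ⁅A, P⁆ ⊓ Subgroup.centralizer (P : Set G) = ⊥ := by
  classical
  let _ : CommGroup A :=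
    { (inferInstance : Group A) with
      mul_comm := fun a b => Subtype.ext (hab a a.2 b b.2) }
  have : Fintype P := Fintype.ofFinite P
  let φ : P → (A →* A) := fun v =>
    { toFun := fun a => ⟨(v : G) * a * (v : G)⁻¹,
        (Subgroup.mem_normalizer_iff.mp (hPA v.2) a).mp a.2⟩
      map_one' := by
        apply Subtype.ext
        simp
      map_mul' := by
        intro a b
        apply Subtype.ext
        simp [mul_assoc] }
  have hφ : ∀ (v : P) (a : A), ((φ v a : A) : G) = (v : G) * a * (v : G)⁻¹ := fun v a => rfl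
  let N : A →* A := ∏ v : P, φ v
  have hN : ∀ a : A, N a = ∏ v : P, φ v a := fun a => by
    simp only [N, MonoidHom.finsetProd_apply]
  have hNφ : ∀ (w : P) (a : A), N (φ w a) = N a := by
    intro w a
    rw [hN, hN]
    have h1 : ∀ v : P, φ v (φ w a) = φ (v * w) a := by
      intro v
      apply Subtype.ext
      rw [hφ, hφ, hφ]
      simp [mul_assoc]
    simp_rw [h1]
    exact Fintype.prod_equiv (Equiv.mulRight w) _ _ (fun v => rfl)
  have hker : ⁅A, P⁆ ≤ N.ker.map A.subtype := by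
    rw [Subgroup.commutator_le]
    intro a ha v hv
    refine ⟨(⟨a, ha⟩ : A) * φ ⟨v, hv⟩ ⟨a⁻¹, A.inv_mem ha⟩, ?_, ?_⟩
    · rw [SetLike.mem_coe, MonoidHom.mem_ker, map_mul, hNφ, ← map_mul]
      have h1 : (⟨a, ha⟩ : A) * ⟨a⁻¹, A.inv_mem ha⟩ = 1 := by
        apply Subtype.ext
        simp
      rw [h1, map_one]
    · have h2 : (((⟨a, ha⟩ : A) * φ ⟨v, hv⟩ ⟨a⁻¹, A.inv_mem ha⟩ : A) : G) = a * v * a⁻¹ * v⁻¹ := by
        rw [Subgroup.coe_mul, hφ]
        simp [mul_assoc]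
      rw [commutatorElement_def]
      exact h2
  rw [eq_bot_iff]
  intro x hx
  obtain ⟨hx1, hx2⟩ := Subgroup.mem_inf.mp hx
  obtain ⟨y, hy, rfl⟩ := hker hx1
  have hfix : ∀ v : P, φ v y = y := by
    intro v
    apply Subtype.ext
    rw [hφ]
    have h1 := (Subgroup.mem_centralizer_iff.mp hx2) v v.2
    have h2 : (v : G) * (A.subtype y) = (y : G) * (v : G) := h1
    have h3 : (v : G) * (y : G) = (y : G) * (v : G) := h2
    rw [h3]
    group
  have hpow : y ^ Nat.card P = 1 := by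
    have h1 : N y = 1 := hy
    rw [hN] at h1
    simp_rw [hfix] at h1
    rw [Finset.prod_const, Finset.card_univ, ← Nat.card_eq_fintype_card] at h1
    exact h1
  have hpow2 : y ^ Nat.card A = 1 := pow_card_eq_one'
  have h3 : orderOf y ∣ 1 := by
    have h4 := Nat.dvd_gcd (orderOf_dvd_of_pow_eq_one hpow2) (orderOf_dvd_of_pow_eq_one hpow)
    rwa [Nat.Coprime.gcd_eq_one hcop] at h4
  have hy1 : y = 1 := orderOf_eq_one_iff.mp (Nat.dvd_one.mp h3)
  rw [hy1, map_one]
  exact Subgroup.mem_bot.mpr rfl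

/-- An element `x` with `x ^ p = 1` normalizing a subgroup `Z` of prime order `r` and centralizing
no non-identity element of `Z`: then `p ∣ r - 1`. -/
theorem prime_dvd_pred_of_act [Finite G] {r p : ℕ} (hr : r.Prime) (hp : p.Prime) (Z : Subgroup G)
    (hZ : Nat.card Z = r) (x : G) (hxp : x ^ p = 1)
    (hxZ : ∀ y ∈ Z, x * y * x⁻¹ ∈ Z) (hxc : ∀ y ∈ Z, x * y = y * x → y = 1) : p ∣ r - 1 := by
  have : Fact r.Prime := ⟨hr⟩
  have : Fact p.Prime := ⟨hp⟩
  have hZnt : Nontrivial Z := by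
    rw [← Finite.one_lt_card_iff_nontrivial, hZ]
    exact hr.one_lt
  obtain ⟨⟨z, hzZ⟩, hz1⟩ := exists_ne (1 : Z)
  have hz1' : z ≠ 1 := fun h => hz1 (Subtype.ext h)
  have hzr : z ^ r = 1 := by
    have h1 : (⟨z, hzZ⟩ : Z) ^ Nat.card Z = 1 := pow_card_eq_one'
    rw [hZ] at h1
    have h2 := congrArg Subtype.val h1
    simpa using h2
  have hoz : orderOf z = r := orderOf_eq_prime hzr hz1'
  have hZz : Subgroup.zpowers z = Z := by
    apply Subgroup.eq_of_le_of_card_ge (Subgroup.zpowers_le.mpr hzZ)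
    rw [Nat.card_zpowers, hoz, hZ]
  have hmem : x * z * x⁻¹ ∈ Submonoid.powers z := by
    rw [(isOfFinOrder_of_finite z).mem_powers_iff_mem_zpowers, hZz]
    exact hxZ z hzZ
  obtain ⟨k, hk⟩ := (Submonoid.mem_powers_iff _ _).mp hmem
  have hind : ∀ j : ℕ, x ^ j * z * (x ^ j)⁻¹ = z ^ (k ^ j) := by
    intro j
    induction j with
    | zero => simp
    | succ j ih =>
      have h1 : x ^ (j + 1) * z * (x ^ (j + 1))⁻¹ = x * (x ^ j * z * (x ^ j)⁻¹) * x⁻¹ := by
        rw [pow_succ']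
        group
      rw [h1, ih, ← conj_pow, ← hk, ← pow_mul, pow_succ']
  have hkp : z ^ (k ^ p) = z ^ 1 := by
    rw [← hind p, hxp]
    simp
  have hmod : k ^ p ≡ 1 [MOD r] := by
    rw [← hoz]
    exact pow_eq_pow_iff_modEq.mp hkp
  have hkZ : ((k : ZMod r)) ^ p = 1 := by
    have h1 := (ZMod.natCast_eq_natCast_iff (k ^ p) 1 r).mpr hmod
    simpa using h1
  have hk1 : (k : ZMod r) ≠ 1 := by
    intro h
    have h1 : (k : ZMod r) = ((1 : ℕ) : ZMod r) := by simpa using h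
    have h2 : k ≡ 1 [MOD orderOf z] := by
      rw [hoz]
      exact (ZMod.natCast_eq_natCast_iff k 1 r).mp h1
    have h3 : z ^ k = z ^ 1 := pow_eq_pow_iff_modEq.mpr h2
    rw [pow_one, hk] at h3
    apply hz1'
    apply hxc z hzZ
    calc x * z = x * z * x⁻¹ * x := by group
      _ = z * x := by rw [h3]
  have hk0 : (k : ZMod r) ≠ 0 := by
    intro h
    rw [h, zero_pow hp.ne_zero] at hkZ
    exact zero_ne_one hkZ
  have hord : orderOf (k : ZMod r) = p := orderOf_eq_prime hkZ hk1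
  rw [← hord]
  exact orderOf_dvd_of_pow_eq_one (ZMod.pow_card_sub_one_eq_one hk0)

/-- PIECE N1 (basic facts).  `R := A ⊓ C_G(M_σ)`. -/
theorem na_basic [Finite G] (hG : IsMinSimpleOddOrder G) (M : Subgroup G) (hM : IsCoatom M)
    (E : Subgroup G) (hE : IsComplIn E (sigmaCore M) M) (r : ℕ) [Fact r.Prime] (hr : r ∈ tau2 M)
    (hS : ∀ S : Sylow r G, ¬ IsMulCommutative (S : Subgroup G))
    (A : Subgroup G) (hAE : A ≤ E) (hAe : IsElementaryAbelian r A) (hA2 : Nat.card A = r ^ 2)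
    (p : ℕ) (hp : p ∈ tau1 M) (P : Subgroup G) (hPE : P ≤ E) (hP : Nat.card P = p)
    (hY : sigmaCore M ⊓ Subgroup.centralizer (P : Set G) ≠ ⊥)
    (hRP : A ⊓ Subgroup.centralizer (sigmaCore M : Set G) ≤ Subgroup.centralizer (P : Set G)) :
    Nat.card ↥(A ⊓ Subgroup.centralizer (sigmaCore M : Set G)) = r ∧
    M ≤ Subgroup.normalizer ((A ⊓ Subgroup.centralizer (sigmaCore M : Set G) : Subgroup G) : Set G) ∧
    Subgroup.centralizer ((A ⊓ Subgroup.centralizer (sigmaCore M : Set G) : Subgroup G) : Set G) ≤ M ∧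
    Subgroup.normalizer ((A ⊓ Subgroup.centralizer (sigmaCore M : Set G) : Subgroup G) : Set G) ≤ M ∧
    ¬ A ≤ Subgroup.centralizer (P : Set G) ∧
    p ∣ r - 1 ∧
    (⁅A, P⁆ ≤ A ∧ Nat.card ↥⁅A, P⁆ = r ∧
      ⁅A, P⁆ ⊓ Subgroup.centralizer (sigmaCore M : Set G) = ⊥ ∧
      ⁅A, P⁆ ⊓ Subgroup.centralizer (P : Set G) = ⊥ ∧
      sigmaCore M ⊓ Subgroup.centralizer ((⁅A, P⁆ : Subgroup G) : Set G) = ⊥) := by
  classical
  have hrp : r.Prime := Fact.out
  have hpp : p.Prime := hp.1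
  have hpr : p ≠ r := by
    rintro rfl
    exact hr.2.2.2 hp.2.2.2.2
  obtain ⟨-, -, -, -, -, A₁, hA₁A, hA₁c, hA₁σ⟩ :=
    Cfsg.Agent.S1417.result hG M hM r hr A ⟨hAE.trans hE.1, hAe, hA2⟩
  obtain ⟨⟨hEA, -⟩, -, huniq⟩ :=
    Cfsg.Agent.S1418.result hG M hM E hE r hr A ⟨hAE, hAe, hA2⟩
  obtain ⟨-, ⟨hRc, -⟩, hreg⟩ :=
    Cfsg.Agent.S1419.result hG M hM E hE r hr hS A ⟨hAE, hAe, hA2⟩
  have hAel := (bg_elemAb_iff A).mp hAe
  have hσ1 : sigmaCore M ≠ ⊥ := by
    intro h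
    apply hY
    rw [h, bot_inf_eq]
  have hσR : sigmaCore M ≤ Subgroup.centralizer
      ((A ⊓ Subgroup.centralizer (sigmaCore M : Set G) : Subgroup G) : Set G) := by
    intro x hx
    rw [Subgroup.mem_centralizer_iff]
    intro y hy
    exact ((Subgroup.mem_centralizer_iff.mp (Subgroup.mem_inf.mp hy).2) x hx).symm
  have hRσ : sigmaCore M ⊓ Subgroup.centralizer
      ((A ⊓ Subgroup.centralizer (sigmaCore M : Set G) : Subgroup G) : Set G) ≠ ⊥ := by
    rw [inf_eq_left.mpr hσR]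
    exact hσ1
  obtain ⟨hCR, hRu⟩ := huniq _ inf_le_left hRc hRσ
  have hR1 : A ⊓ Subgroup.centralizer (sigmaCore M : Set G) ≠ ⊥ := by
    intro h
    rw [h, Subgroup.card_bot] at hRc
    exact hrp.one_lt.ne hRc
  have hRM : A ⊓ Subgroup.centralizer (sigmaCore M : Set G) ≤ M :=
    inf_le_left.trans (hAE.trans hE.1)
  have hNR := Cfsg.Agent.Lib.helper71.BGRegNA.normalizer_le_of_uniq hG M _ hM hRM hR1 hRu
  -- `M ≤ N(R)`
  have hMN : M ≤ Subgroup.normalizer
      ((A ⊓ Subgroup.centralizer (sigmaCore M : Set G) : Subgroup G) : Set G) := by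
    apply le_normalizer_of_conj
    intro m hm y hy
    obtain ⟨e, he, s, hs, rfl⟩ := hE.2.2.2 m hm
    have hyA := (Subgroup.mem_inf.mp hy).1
    have hyC := Subgroup.mem_centralizer_iff.mp (Subgroup.mem_inf.mp hy).2
    have hsy : s * y * s⁻¹ = y := by
      rw [hyC s hs]
      group
    have h1 : e * s * y * (e * s)⁻¹ = e * (s * y * s⁻¹) * e⁻¹ := by group
    rw [h1, hsy]
    refine Subgroup.mem_inf.mpr ⟨(Subgroup.mem_normalizer_iff.mp (hEA he) y).mp hyA, ?_⟩
    rw [Subgroup.mem_centralizer_iff]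
    intro t ht
    have heN := Cfsg.Agent.Lib.helper13.le_normalizer_sigmaCore M (hE.1 he)
    have ht' : e⁻¹ * t * e ∈ sigmaCore M := by
      have h2 := (Subgroup.mem_normalizer_iff.mp
        ((Subgroup.normalizer _).inv_mem heN) t).mp ht
      rwa [inv_inv] at h2
    have h3 := hyC _ ht'
    calc t * (e * y * e⁻¹) = e * ((e⁻¹ * t * e) * y) * e⁻¹ := by group
      _ = e * (y * (e⁻¹ * t * e)) * e⁻¹ := by rw [h3]
      _ = e * y * e⁻¹ * t := by group
  -- `A ≰ C(P)`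
  have hAP : ¬ A ≤ Subgroup.centralizer (P : Set G) := by
    intro h
    have hA₁ : A₁ ≤ E ⊓ Subgroup.centralizer (P : Set G) :=
      le_inf (hA₁A.trans hAE) (hA₁A.trans h)
    have h1 := Cfsg.Agent.S1428.result hG M hM E hE p hp P hPE hP A₁ hA₁
      (by rw [hA₁c]; exact hrp)
    apply hY
    rw [eq_bot_iff, ← hA₁σ]
    exact h1
  have hPA : P ≤ Subgroup.normalizer (A : Set G) := hPE.trans hEA
  have hcop : (Nat.card A).Coprime (Nat.card P) := by
    rw [hA2, hP]
    exact Nat.Coprime.pow_left 2 ((Nat.coprime_primes hrp hpp).mpr hpr.symm)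
  have hZA : ⁅A, P⁆ ≤ A := Cfsg.Agent.Lib.helper1.commutator_le_of_le_normalizer hPA
  have hZC : ⁅A, P⁆ ⊓ Subgroup.centralizer (P : Set G) = ⊥ :=
    abel_comm_inf_cent A P hAel.1 hPA hcop
  have hAsolv : Group.IsSolvable A :=
    Group.isSolvable_of_comm (fun a b => Subtype.ext (hAel.1 a a.2 b b.2))
  have hsup : ⁅A, P⁆ ⊔ (A ⊓ Subgroup.centralizer (P : Set G)) = A :=
    Cfsg.Agent.Lib.helper1.commutator_sup_fixed P A hPA hcop.symm (Or.inr hAsolv)
  -- `D := C_A(P)` has order `r`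
  have hDA : A ⊓ Subgroup.centralizer (P : Set G) ≠ A := by
    intro h
    apply hAP
    rw [← h]
    exact inf_le_right
  have hRD : A ⊓ Subgroup.centralizer (sigmaCore M : Set G) ≤
      A ⊓ Subgroup.centralizer (P : Set G) := le_inf inf_le_left hRP
  have hDcard : Nat.card ↥(A ⊓ Subgroup.centralizer (P : Set G)) = r := by
    have h1 : Nat.card ↥(A ⊓ Subgroup.centralizer (P : Set G)) ∣ r ^ 2 := by
      rw [← hA2]
      exact Subgroup.card_dvd_of_le inf_le_left
    obtain ⟨k, hk2, hk⟩ := (Nat.dvd_prime_pow hrp).mp h1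
    have h2 : r ∣ Nat.card ↥(A ⊓ Subgroup.centralizer (P : Set G)) := by
      have := Subgroup.card_dvd_of_le hRD
      rwa [hRc] at this
    have hk0 : k ≠ 0 := by
      rintro rfl
      rw [hk, pow_zero] at h2
      exact hrp.one_lt.ne' (Nat.dvd_one.mp h2)
    have hk2' : k ≠ 2 := by
      rintro rfl
      apply hDA
      apply Subgroup.eq_of_le_of_card_ge inf_le_left
      rw [hk, hA2]
    have hk1 : k = 1 := by omega
    rw [hk, hk1, pow_one]
  -- `Z := [A,P]` has order `r`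
  have hZcard : Nat.card ↥⁅A, P⁆ = r := by
    have h1 : Nat.card ↥⁅A, P⁆ ∣ r ^ 2 := by
      rw [← hA2]
      exact Subgroup.card_dvd_of_le hZA
    obtain ⟨k, hk2, hk⟩ := (Nat.dvd_prime_pow hrp).mp h1
    have hk0 : k ≠ 0 := by
      rintro rfl
      rw [pow_zero] at hk
      have hZbot : ⁅A, P⁆ = ⊥ := (Subgroup.card_eq_one).mp hk
      apply hDA
      rw [hZbot, bot_sup_eq] at hsup
      exact hsup
    have hk2' : k ≠ 2 := by
      rintro rfl
      have hZeq : ⁅A, P⁆ = A := by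
        apply Subgroup.eq_of_le_of_card_ge hZA
        rw [hk, hA2]
      rw [hZeq] at hZC
      rw [hZC, Subgroup.card_bot] at hDcard
      exact hrp.one_lt.ne hDcard
    have hk1 : k = 1 := by omega
    rw [hk, hk1, pow_one]
  have hZσ : ⁅A, P⁆ ⊓ Subgroup.centralizer (sigmaCore M : Set G) = ⊥ := by
    rw [eq_bot_iff, ← hZC]
    exact le_inf inf_le_left ((le_inf (inf_le_left.trans hZA) inf_le_right).trans hRP)
  have hZne : ⁅A, P⁆ ≠ A ⊓ Subgroup.centralizer (sigmaCore M : Set G) := by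
    intro h
    apply hR1
    rw [eq_bot_iff, ← hZσ]
    exact le_inf h.ge inf_le_right
  have hZreg := (hreg ⁅A, P⁆ (hZA.trans hAE) hZcard hZne).1
  -- `p ∣ r - 1`
  have hdvd : p ∣ r - 1 := by
    have : Fact p.Prime := ⟨hpp⟩
    have hPnt : Nontrivial P := by
      rw [← Finite.one_lt_card_iff_nontrivial, hP]
      exact hpp.one_lt
    obtain ⟨⟨x, hxP⟩, hx1⟩ := exists_ne (1 : P)
    have hx1' : x ≠ 1 := fun h => hx1 (Subtype.ext h)
    have hxp : x ^ p = 1 := by
      have h1 : (⟨x, hxP⟩ : P) ^ Nat.card P = 1 := pow_card_eq_one'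
      rw [hP] at h1
      have h2 := congrArg Subtype.val h1
      simpa using h2
    have hox : orderOf x = p := orderOf_eq_prime hxp hx1'
    have hPx : Subgroup.zpowers x = P := by
      apply Subgroup.eq_of_le_of_card_ge (Subgroup.zpowers_le.mpr hxP)
      rw [Nat.card_zpowers, hox, hP]
    have hPZ : P ≤ Subgroup.normalizer ((⁅A, P⁆ : Subgroup G) : Set G) :=
      Cfsg.Agent.Lib.helper1.right_le_normalizer_commutator hPA
    apply prime_dvd_pred_of_act hrp hpp ⁅A, P⁆ hZcard x hxp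
    · intro y hy
      exact (Subgroup.mem_normalizer_iff.mp (hPZ hxP) y).mp hy
    · intro y hy hxy
      have h1 : y ∈ ⁅A, P⁆ ⊓ Subgroup.centralizer (P : Set G) := by
        refine Subgroup.mem_inf.mpr ⟨hy, ?_⟩
        rw [← hPx]
        exact Cfsg.Agent.Lib.helper71.BGRegNA.mem_cent_zpowers.mpr hxy
      rw [hZC] at h1
      exact Subgroup.mem_bot.mp h1
  exact ⟨hRc, hMN, hCR, hNR, hAP, hdvd, hZA, hZcard, hZσ, hZC, hZreg⟩

end Cfsg.Agent.Lib.helper54.BGNA
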