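import Mathlib
import Cfsg.Agent.Lib.helper24.S6eDefs

/-! # S6002 piece BSC: a scalar power of a symplectic matrix is `±1` -/

set_option autoImplicit false

namespace Cfsg.Agent.Lib.helper24

open Matrix Cfsg Cfsg.Geo

/-- BSC (S). A scalar z•1 = x^k in Sp_4 has z² = 1 (evaluate the form on a pair with f(u,v) ≠ 0). -/
theorem s6_scalar_pm {F : Type*} [Field F] (x : GL S6I F) (hx : x ∈ spGL 2 F) (k : ℕ) (z : F)
    (hz : (x : Matrix S6I S6I F) ^ k = z • (1 : Matrix S6I S6I F)) : z = 1 ∨ z = -1 := by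
  have hxk : x ^ k ∈ spGL 2 F := Subgroup.pow_mem _ hx k
  have h : ∀ u v : S6I → F, sympForm 2 F (glToMat S6I F (x ^ k) *ᵥ u)
      (glToMat S6I F (x ^ k) *ᵥ v) = sympForm 2 F u v := hxk
  have e : glToMat S6I F (x ^ k) = z • (1 : Matrix S6I S6I F) := by
    rw [← hz]
    simp [glToMat]
  rw [e] at h
  have hs : ∀ u v : S6I → F, sympForm 2 F ((z • (1 : Matrix S6I S6I F)) *ᵥ u)
      ((z • (1 : Matrix S6I S6I F)) *ᵥ v) = z * z * sympForm 2 F u v := by
    intro u v
    unfold sympForm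
    rw [Matrix.smul_mulVec, Matrix.smul_mulVec, Matrix.one_mulVec, Matrix.one_mulVec,
      Matrix.mulVec_smul, smul_dotProduct, dotProduct_smul]
    simp [mul_assoc]
  have hne : sympForm 2 F (Pi.single (Sum.inl 0) 1) (Pi.single (Sum.inr 0) 1) ≠ 0 := by
    unfold sympForm
    simp [Matrix.J]
  have h1 := h (Pi.single (Sum.inl 0) 1) (Pi.single (Sum.inr 0) 1)
  rw [hs] at h1
  have hz2 : z * z = 1 := mul_right_cancel₀ hne (h1.trans (one_mul _).symm)
  exact mul_self_eq_one_iff.mp hz2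

end Cfsg.Agent.Lib.helper24
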