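import Mathlib
import Cfsg.Agent.Lib.helper54.FStar

/-!
More on characteristic `p` in ambient form (helper54), continuing `FStar.lean`.

* `isPGroup_generalizedFittingSubgroup_iff`: `F*(H)` is a `p`-group iff `F*(H) = O_p(H)`.
* `charPIn_iff_isPGroup_fstar`: `CharPIn p Y ↔ IsPGroup p (F*(↥Y))`.
* `CharPIn.inf_of_isSubnormal`: `G₁ ⊓ Y` has characteristic `p` for `G₁` subnormal in `G`.
* `CharPIn.normalizer_of_centralizer`: `C_G(V)` of characteristic `p` gives `N_G(V)` of
  characteristic `p` (`V` a `p`-group).
* `CharPIn.centralizer_of_le`: `V ≤ U` `p`-groups, `C_G(V)` of characteristic `p` gives `C_G(U)`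
  of characteristic `p`.
-/

set_option autoImplicit false

namespace Cfsg.Agent.Lib.helper54

open Cfsg.Agent.Lib.helper53

/-- `F*(H)` is a `p`-group if and only if `F*(H) = O_p(H)`. -/
theorem isPGroup_generalizedFittingSubgroup_iff (H : Type*) [Group H] [Finite H] (p : ℕ)
    [Fact p.Prime] :
    IsPGroup p ↥(Cfsg.generalizedFittingSubgroup H) ↔
      Cfsg.generalizedFittingSubgroup H = Cfsg.pCore p H := by
  constructor
  · intro h
    apply le_antisymm
    · exact Cfsg.Agent.Lib.helper54.le_pCore
        (Cfsg.Agent.Lib.helper28.generalizedFittingSubgroup_normal H) h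
    · exact (Cfsg.Agent.Lib.helper28.le_fittingSubgroup (Cfsg.Agent.Lib.helper53.pCore_normal p H)
        (Cfsg.Agent.Lib.helper54.isPGroup_pCore p H).isNilpotent).trans
        (Cfsg.Agent.Lib.helper28.fittingSubgroup_le_generalizedFittingSubgroup H)
  · intro h
    rw [h]
    exact Cfsg.Agent.Lib.helper54.isPGroup_pCore p H

/-- `CharPIn p Y` is the statement that `F*(Y)` is a `p`-group. -/
theorem charPIn_iff_isPGroup_fstar {G : Type*} [Group G] [Finite G] {p : ℕ} [Fact p.Prime]
    (Y : Subgroup G) :
    CharPIn p Y ↔ IsPGroup p ↥(Cfsg.generalizedFittingSubgroup ↥Y) :=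
  (charPIn_iff_fstar Y).trans (isPGroup_generalizedFittingSubgroup_iff ↥Y p).symm

/-- Characteristic `p` passes to the intersection with a subnormal subgroup of the ambient
group. -/
theorem CharPIn.inf_of_isSubnormal {G : Type*} [Group G] [Finite G] {p : ℕ} [Fact p.Prime]
    {G₁ Y : Subgroup G} (hsn : G₁.IsSubnormal) (hY : CharPIn p Y) : CharPIn p (G₁ ⊓ Y) := by
  induction hsn with
  | top => rwa [top_inf_eq]
  | step H K hle _ hN ih =>
    have hKH : K ≤ Subgroup.normalizer (H : Set G) :=
      (Subgroup.normal_subgroupOf_iff_le_normalizer hle).mp hN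
    refine CharPIn.of_normal (inf_le_inf_right _ hle) ?_ ih
    refine le_trans ?_ Subgroup.inf_normalizer_le_normalizer_inf
    exact le_inf (inf_le_left.trans hKH) (inf_le_right.trans Subgroup.le_normalizer)

/-- If `C_G(V)` has characteristic `p` for a `p`-subgroup `V`, so has `N_G(V)`. -/
theorem CharPIn.normalizer_of_centralizer {G : Type*} [Group G] [Finite G] {p : ℕ}
    [Fact p.Prime] {V : Subgroup G} (hV : IsPGroup p V)
    (h : CharPIn p (Subgroup.centralizer (V : Set G))) :
    CharPIn p (Subgroup.normalizer (V : Set G)) := by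
  apply charPIn_of_centralizer_subgroup (P := V) Subgroup.le_normalizer le_rfl hV
  have h3 : Subgroup.normalizer (V : Set G) ⊓ Subgroup.centralizer (V : Set G) =
      Subgroup.centralizer (V : Set G) :=
    inf_eq_right.mpr (Subgroup.centralizer_le_normalizer _)
  rw [h3]
  exact h

/-- `V ⊴ U` `p`-groups: if `C_G(V)` has characteristic `p`, so has `C_G(U)`. -/
theorem CharPIn.centralizer_of_le_of_le_normalizer {G : Type*} [Group G] [Finite G] {p : ℕ}
    [Fact p.Prime] {U V : Subgroup G} (hVU : V ≤ U)
    (hUV : U ≤ Subgroup.normalizer (V : Set G)) (hU : IsPGroup p U)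
    (h : CharPIn p (Subgroup.centralizer (V : Set G))) :
    CharPIn p (Subgroup.centralizer (U : Set G)) := by
  have hN : CharPIn p (Subgroup.normalizer (V : Set G)) :=
    CharPIn.normalizer_of_centralizer (hU.to_le hVU) h
  have h1 : CharPIn p (Subgroup.normalizer (V : Set G) ⊓ Subgroup.normalizer (U : Set G)) :=
    hN.inf_normalizer hUV hU
  have hle : Subgroup.centralizer (U : Set G) ≤
      Subgroup.normalizer (V : Set G) ⊓ Subgroup.normalizer (U : Set G) :=
    le_inf ((Subgroup.centralizer_le (SetLike.coe_subset_coe.mpr hVU)).trans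
      (Subgroup.centralizer_le_normalizer _)) (Subgroup.centralizer_le_normalizer _)
  exact CharPIn.of_normal hle (inf_le_right.trans (normalizer_le_normalizer_centralizer_coe U)) h1

/-- `V ≤ U` `p`-groups: if `C_G(V)` has characteristic `p`, so has `C_G(U)`. -/
theorem CharPIn.centralizer_of_le {G : Type*} [Group G] [Finite G] {p : ℕ} [Fact p.Prime]
    {U V : Subgroup G} (hVU : V ≤ U) (hU : IsPGroup p U)
    (h : CharPIn p (Subgroup.centralizer (V : Set G))) :
    CharPIn p (Subgroup.centralizer (U : Set G)) := by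
  induction V using WellFoundedGT.induction with
  | ind V ih =>
    by_cases hEq : V = U
    · rw [← hEq]; exact h
    · have hlt : V < U := lt_of_le_of_ne hVU hEq
      obtain ⟨y, hyU, hyV, hyN⟩ := exists_mem_normalizer_not_mem hU hlt
      have hV1 : V < U ⊓ Subgroup.normalizer (V : Set G) := by
        refine lt_of_le_of_ne (le_inf hVU Subgroup.le_normalizer) ?_
        intro heq2
        apply hyV
        rw [heq2]
        exact Subgroup.mem_inf.mpr ⟨hyU, hyN⟩
      exact ih (U ⊓ Subgroup.normalizer (V : Set G)) hV1 inf_le_left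
        (CharPIn.centralizer_of_le_of_le_normalizer hV1.le inf_le_right
          (hU.to_le inf_le_left) h)

end Cfsg.Agent.Lib.helper54
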