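import Mathlib
import Cfsg.Agent.Lib.helper26.S4409Defs
import Cfsg.Agent.Lib.helper71.Frattini
import Cfsg.Agent.Lib.helper54.PGroupAux

/-! # S4409 piece SPEC: `P' = Z(P)` and central squares make a 2-group special -/

set_option autoImplicit false
open scoped commutatorElement

namespace Cfsg.Agent.Lib.helper26.S4409

variable {G : Type*} [Group G]

theorem spec {P : Type*} [Group P] [Finite P] (hP : IsPGroup 2 P)
    (h1 : _root_.commutator P = Subgroup.center P) (h2 : ∀ x : P, x * x ∈ Subgroup.center P) :
    Cfsg.IsSpecial 2 P := by
  refine ⟨hP, ?_, h1⟩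
  apply le_antisymm
  · refine Cfsg.Agent.Lib.helper71.frattini_le_of_comm_pow Nat.prime_two (Subgroup.center P) ?_ ?_
    · intro x y
      rw [← h1, commutator_def]
      have := Subgroup.commutator_mem_commutator (Subgroup.mem_top x) (Subgroup.mem_top y)
      rwa [commutatorElement_def] at this
    · intro x
      rw [pow_two]
      exact h2 x
  · rw [← h1]
    intro c hc
    unfold frattini Order.radical
    simp only [Subgroup.mem_iInf]
    intro M hM
    haveI : M.Normal := Cfsg.Agent.Lib.helper54.normal_of_isCoatom_of_isPGroup hP hM
    have hcard := Cfsg.Agent.Lib.helper54.card_quotient_of_isCoatom hP hM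
    haveI : IsCyclic (P ⧸ M) := isCyclic_of_prime_card hcard
    have hle : _root_.commutator P ≤ M := by
      rw [commutator_def, Subgroup.commutator_le]
      intro a _ b _
      rw [← QuotientGroup.eq_one_iff]
      show (QuotientGroup.mk' M) ⁅a, b⁆ = 1
      rw [map_commutatorElement, commutatorElement_eq_one_iff_commute]
      exact (IsCyclic.isMulCommutative (α := P ⧸ M)).is_comm.comm _ _
    exact hle hc

end Cfsg.Agent.Lib.helper26.S4409
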