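import Mathlib
import Cfsg.Agent.Lib.helper24.S6eDefs

/-! # S6002 piece IDX -/

set_option autoImplicit false

namespace Cfsg.Agent.Lib.helper24

open Matrix Cfsg Cfsg.Geo

/-- IDX (S). The relative index divides the order of spGL 2 F. -/
theorem s6_index_dvd {F : Type*} [Field F] [Fintype F] (R : Subgroup (GL S6I F)) (r : ℕ)
    (h : r ∣ (subgroupNormalizer R).relIndex (spGL 2 F)) : r ∣ Nat.card (spGL 2 F) :=
  h.trans (Subgroup.relIndex_dvd_card _ _)

end Cfsg.Agent.Lib.helper24
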