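import Mathlib
import Cfsg.Agent.Lib.helper26.S4409Defs

/-! # S4409 piece MAXQ2: squares of `X` lie in a maximal invariant subgroup `M ⊇ X'` -/

set_option autoImplicit false
open scoped commutatorElement

namespace Cfsg.Agent.Lib.helper26.S4409

variable {G : Type*} [Group G]

/-- the subgroup of the elements of `X` whose square lies in `M` (for `⁅X, X⁆ ≤ M ≤ X`) -/
def h54_sqSub (X M : Subgroup G) (hMX : M ≤ X) (hc : ⁅X, X⁆ ≤ M) : Subgroup G where
  carrier := {x | x ∈ X ∧ x * x ∈ M}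
  one_mem' := ⟨X.one_mem, by rw [one_mul]; exact M.one_mem⟩
  mul_mem' := by
    rintro x y ⟨hx, hx2⟩ ⟨hy, hy2⟩
    refine ⟨X.mul_mem hx hy, ?_⟩
    have hcomm : ⁅x⁻¹, y⁆ ∈ M :=
      hc (Subgroup.commutator_mem_commutator (X.inv_mem hx) hy)
    have e : x * y * (x * y) = x * x * ⁅x⁻¹, y⁆ * (y * y) := by
      rw [commutatorElement_def]; group
    rw [e]
    exact M.mul_mem (M.mul_mem hx2 hcomm) hy2
  inv_mem' := by
    rintro x ⟨hx, hx2⟩
    refine ⟨X.inv_mem hx, ?_⟩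
    have e : x⁻¹ * x⁻¹ = (x * x)⁻¹ := by group
    rw [e]
    exact M.inv_mem hx2

theorem h54_mem_sqSub (X M : Subgroup G) (hMX : M ≤ X) (hc : ⁅X, X⁆ ≤ M) (x : G) :
    x ∈ h54_sqSub X M hMX hc ↔ x ∈ X ∧ x * x ∈ M := Iff.rfl

theorem h54_sqSub_conj (X M : Subgroup G) (hMX : M ≤ X) (hc : ⁅X, X⁆ ≤ M) (g : G)
    (hgX : g ∈ Subgroup.normalizer (X : Set G)) (hgM : g ∈ Subgroup.normalizer (M : Set G))
    (x : G) (hx : x ∈ h54_sqSub X M hMX hc) : g * x * g⁻¹ ∈ h54_sqSub X M hMX hc := by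
  obtain ⟨hxX, hxM⟩ := hx
  refine ⟨(Subgroup.mem_normalizer_iff.mp hgX x).mp hxX, ?_⟩
  have e : g * x * g⁻¹ * (g * x * g⁻¹) = g * (x * x) * g⁻¹ := by group
  rw [e]
  exact (Subgroup.mem_normalizer_iff.mp hgM (x * x)).mp hxM

theorem h54_sqSub_normalizer (X M : Subgroup G) (hMX : M ≤ X) (hc : ⁅X, X⁆ ≤ M) (K : Subgroup G)
    (hKX : K ≤ Subgroup.normalizer (X : Set G)) (hKM : K ≤ Subgroup.normalizer (M : Set G)) :
    K ≤ Subgroup.normalizer (h54_sqSub X M hMX hc : Set G) := by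
  intro g hg
  rw [Subgroup.mem_normalizer_iff]
  intro x
  constructor
  · intro hx
    exact h54_sqSub_conj X M hMX hc g (hKX hg) (hKM hg) x hx
  · intro hx
    have h := h54_sqSub_conj X M hMX hc g⁻¹ (hKX (K.inv_mem hg)) (hKM (K.inv_mem hg)) _ hx
    have e : g⁻¹ * (g * x * g⁻¹) * g⁻¹⁻¹ = x := by group
    rwa [e] at h

theorem maxq2 [Finite G] (X H M : Subgroup G) (hX : IsPGroup 2 ↥X)
    (hH : H ≤ Subgroup.normalizer (X : Set G)) (hMax : IsMaxInv X H M) (hc : ⁅X, X⁆ ≤ M) :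
    ∀ x ∈ X, x * x ∈ M := by
  obtain ⟨hMX, hne, hXM, hHM, hmax⟩ := hMax
  have hN := hmax (h54_sqSub X M hMX hc)
    (fun m hm => ⟨hMX hm, M.mul_mem hm hm⟩) (fun x hx => hx.1)
    (h54_sqSub_normalizer X M hMX hc X Subgroup.le_normalizer hXM)
    (h54_sqSub_normalizer X M hMX hc H hH hHM)
  rcases hN with hN | hN
  · exfalso
    apply hne
    apply le_antisymm hMX
    have key : ∀ k : ℕ, ∀ x ∈ X, x ^ 2 ^ k = 1 → x ∈ M := by
      intro k
      induction k with
      | zero =>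
        intro x _ hx1
        rw [pow_zero, pow_one] at hx1
        rw [hx1]
        exact M.one_mem
      | succ k ih =>
        intro x hx hx1
        have h2 : (x * x) ^ 2 ^ k = 1 := by
          rw [← pow_two, ← pow_mul, ← pow_succ']
          exact hx1
        have h3 : x * x ∈ M := ih (x * x) (X.mul_mem hx hx) h2
        have h4 : x ∈ h54_sqSub X M hMX hc := ⟨hx, h3⟩
        rw [hN] at h4
        exact h4
    intro x hx
    obtain ⟨k, hk⟩ := hX ⟨x, hx⟩
    have hk' : x ^ 2 ^ k = 1 := by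
      have := congrArg Subtype.val hk
      simpa using this
    exact key k x hx hk'
  · intro x hx
    have hx' : x ∈ h54_sqSub X M hMX hc := by rw [hN]; exact hx
    exact hx'.2

end Cfsg.Agent.Lib.helper26.S4409
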