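import Cfsg.Agent.Lib.helper95.APDefs

/-! # S2276 piece M3C: an explicit good pair on `Fin 6` of cycle types `{3,3}` and `{3}` -/

set_option autoImplicit false

namespace Cfsg.Agent.Lib.helper95.AP

open Equiv

/-- local copy of the perfectness certificate (piece PERF) -/
theorem helper54_perf {G : Type*} [Group G] (a b : G) (ha1 : a ≠ 1) (xa ya xb yb : G)
    (hxa : xa ∈ Subgroup.closure ({a, b} : Set G)) (hya : ya ∈ Subgroup.closure ({a, b} : Set G))
    (hxb : xb ∈ Subgroup.closure ({a, b} : Set G)) (hyb : yb ∈ Subgroup.closure ({a, b} : Set G))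
    (ha : a = xa * ya * xa⁻¹ * ya⁻¹) (hb : b = xb * yb * xb⁻¹ * yb⁻¹) :
    ¬ Group.IsSolvable ↥(Subgroup.closure ({a, b} : Set G)) := by
  have key : ∀ K : Subgroup G, K = Subgroup.closure ({a, b} : Set G) →
      ¬ Group.IsSolvable ↥K := by
    intro K hK hsol
    rw [← hK] at hxa hya hxb hyb
    have hA : a ∈ K := by
      rw [hK]
      exact Subgroup.subset_closure (by simp)
    have h1 : xa * ya * xa⁻¹ * ya⁻¹ ∈ ⁅K, K⁆ := Subgroup.commutator_mem_commutator hxa hya
    have h2 : xb * yb * xb⁻¹ * yb⁻¹ ∈ ⁅K, K⁆ := Subgroup.commutator_mem_commutator hxb hyb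
    have hle : Subgroup.closure ({a, b} : Set G) ≤ ⁅K, K⁆ := by
      rw [Subgroup.closure_le]
      intro x hx
      rcases hx with hx | hx
      · rw [hx]
        exact ha ▸ h1
      · rw [Set.mem_singleton_iff] at hx
        rw [hx]
        exact hb ▸ h2
    rw [← hK] at hle
    have hnt : Nontrivial ↥K :=
      ⟨⟨⟨a, hA⟩, 1, fun h => ha1 (by simpa using congrArg Subtype.val h)⟩⟩
    have hlt : commutator ↥K < ⊤ := Group.IsSolvable.commutator_lt_top_of_nontrivial ↥K
    apply hlt.ne
    rw [eq_top_iff]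
    intro k _
    have hk : (k : G) ∈ ⁅K, K⁆ := hle k.2
    rw [← Subgroup.map_subtype_commutator] at hk
    obtain ⟨k', hk', hkk⟩ := hk
    have : k' = k := Subtype.ext hkk
    rw [← this]
    exact hk'
  exact key _ rfl

/-- the permutation `(0 1 2)(3 4 5)` of `Fin 6` -/
def helper54_a : Perm (Fin 6) := (swap 0 2 * swap 0 1) * (swap 3 5 * swap 3 4)

/-- the permutation `(2 3 4)` of `Fin 6` -/
def helper54_b : Perm (Fin 6) := swap 2 4 * swap 2 3

set_option maxRecDepth 100000 in
theorem helper54_good : Good 3 helper54_a helper54_b := by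
  constructor
  · rintro ⟨k, hk⟩
    have h4 : (helper54_a * helper54_b) ^ 4 = 1 := by decide
    have hne : helper54_a * helper54_b ≠ 1 := by decide
    have hd : orderOf (helper54_a * helper54_b) ∣ 4 := orderOf_dvd_of_pow_eq_one h4
    rw [hk] at hd
    have hc : Nat.Coprime (3 ^ k) 4 := Nat.Coprime.pow_left k (by norm_num)
    have h1 : 3 ^ k = 1 := Nat.Coprime.eq_one_of_dvd hc hd
    rw [h1, orderOf_eq_one_iff] at hk
    exact hne hk
  · have hA : helper54_a ∈ Subgroup.closure ({helper54_a, helper54_b} : Set (Perm (Fin 6))) :=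
      Subgroup.subset_closure (by simp)
    have hB : helper54_b ∈ Subgroup.closure ({helper54_a, helper54_b} : Set (Perm (Fin 6))) :=
      Subgroup.subset_closure (by simp)
    have hAi := Subgroup.inv_mem _ hA
    have hBi := Subgroup.inv_mem _ hB
    refine helper54_perf helper54_a helper54_b (by decide) helper54_a⁻¹
      (helper54_b * helper54_a * helper54_b⁻¹ * helper54_a⁻¹ * helper54_b⁻¹ * helper54_a *
        helper54_b⁻¹)
      helper54_b⁻¹
      (helper54_a * helper54_b * helper54_a⁻¹ * helper54_b⁻¹ * helper54_a⁻¹ * helper54_b *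
        helper54_a⁻¹) hAi ?_ hBi ?_ (by decide) (by decide)
    · exact Subgroup.mul_mem _ (Subgroup.mul_mem _ (Subgroup.mul_mem _ (Subgroup.mul_mem _
        (Subgroup.mul_mem _ (Subgroup.mul_mem _ hB hA) hBi) hAi) hBi) hA) hBi
    · exact Subgroup.mul_mem _ (Subgroup.mul_mem _ (Subgroup.mul_mem _ (Subgroup.mul_mem _
        (Subgroup.mul_mem _ (Subgroup.mul_mem _ hA hB) hAi) hBi) hAi) hB) hAi

set_option maxRecDepth 100000 in
/-- [M3C] a product of two 3-cycles and a 3-cycle on 6 points; uses PERF -/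
theorem m3c : ∃ a b : Perm (Fin 6), a.cycleType = {3, 3} ∧ b.cycleType = {3} ∧
    GoodBoth 3 a b := by
  refine ⟨helper54_a, helper54_b, ?_, ?_, helper54_good, swap 0 1, ?_, ?_⟩
  · have h1 : (swap (0 : Fin 6) 2 * swap 0 1).cycleType = {3} :=
      Equiv.Perm.isThreeCycle_swap_mul_swap_same (by decide) (by decide) (by decide)
    have h2 : (swap (3 : Fin 6) 5 * swap 3 4).cycleType = {3} :=
      Equiv.Perm.isThreeCycle_swap_mul_swap_same (by decide) (by decide) (by decide)
    have hd : Equiv.Perm.Disjoint (swap (0 : Fin 6) 2 * swap 0 1) (swap (3 : Fin 6) 5 * swap 3 4) := by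
      intro x
      revert x
      decide
    rw [helper54_a, Equiv.Perm.Disjoint.cycleType_mul hd, h1, h2]
    rfl
  · exact Equiv.Perm.isThreeCycle_swap_mul_swap_same (by decide) (by decide) (by decide)
  · exact Equiv.Perm.sign_swap (by decide)
  · have h : swap (0 : Fin 6) 1 * helper54_b * (swap (0 : Fin 6) 1)⁻¹ = helper54_b := by decide
    rw [h]
    exact helper54_good

end Cfsg.Agent.Lib.helper95.AP
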