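import Mathlib
import Cfsg.Agent.Lib.helper26.S4409Defs
import Cfsg.Agent.S0095

/-! # S4409 piece ES16: there is no extraspecial 2-group of order 16 (from landed S0095) -/

set_option autoImplicit false

namespace Cfsg.Agent.Lib.helper26.S4409

variable {G : Type*} [Group G]

theorem es16 {P : Type*} [Group P] [Finite P] (h : Cfsg.IsExtraspecial 2 P) :
    Nat.card P ≠ 16 := by
  obtain ⟨n, hn, hc⟩ := Cfsg.Agent.S0095.result h
  intro h16
  rw [hc] at h16
  have h4 : 2 * n + 1 = 4 := Nat.pow_right_injective (le_refl 2) (h16.trans (by norm_num))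
  omega

end Cfsg.Agent.Lib.helper26.S4409
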