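import Mathlib
import Cfsg.Prelude.Def_OddOrderLocal
import Cfsg.Agent.Lib.helper69.BGKappaB
import Cfsg.Agent.Lib.helper29.FittingHall
import Cfsg.Agent.Lib.helper28.Fitting
import Cfsg.Agent.Lib.helper1.SZ
import Cfsg.Agent.Lib.helper1.Hall
import Cfsg.Agent.Lib.helper1.Coprime
import Cfsg.Agent.Lib.helper1.ThompsonFpf
import Cfsg.Agent.Lib.helper13.BG11a
import Cfsg.Agent.Lib.helper54.BG8PNU
import Cfsg.Agent.Lib.helper98.BGT3K5
import Cfsg.Agent.Lib.helper58.BG1368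
import Cfsg.Agent.Lib.helper71.BGTenA
import Cfsg.Agent.S1350
import Cfsg.Agent.S1360

/-!
# The types of a maximal subgroup with `κ(M) ≠ ∅` (statements S1381, S1382)

Clause-by-clause assembly of `IsOfTypeII M ↔ (K ≠ ⊥ ∧ U ≠ ⊥)` and
`(IsOfTypeIII M ∨ IsOfTypeIV M) ↔ (K ≠ ⊥ ∧ U = ⊥ ∧ M_F ≠ M_σ)` from the statements
S1354, S1355, S1356, S1357, S1363, S1364, S1365, S1370, S1372 (taken as hypotheses `H54`, ...)
and the landed S1350, S1360.
-/

set_option autoImplicit false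

namespace Cfsg.Agent.Lib.helper54.BGTypes

open Cfsg Subgroup

variable {G : Type*} [Group G]

/-- statement S1354 -/
def H54 (G : Type*) [Group G] : Prop :=
  ∀ (M : Subgroup G), IsCoatom M → ∀ (K : Subgroup G), IsCyclic K → IsPiHallOf (kappa M) K M →
    sigmaCore M ⊓ centralizer (K : Set G) ≠ ⊥ ∧
      (K ≠ ⊥ → ∀ k ∈ K, k ≠ 1 →
        M ⊓ centralizer ({k} : Set G) = K ⊔ (sigmaCore M ⊓ centralizer (K : Set G)))

/-- statement S1355 -/
def H55 (G : Type*) [Group G] : Prop :=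
  ∀ (M : Subgroup G), IsCoatom M →
    fittingHallOf M ≠ ⊥ ∧ fittingHallOf M ≤ sigmaCore M ∧ sigmaCore M ≤ ⁅M, M⁆ ∧ ⁅M, M⁆ < M ∧
      Group.IsNilpotent ↥((commutator ↥M).map (QuotientGroup.mk' (fittingHall ↥M)))

/-- statement S1356 -/
def H56 (G : Type*) [Group G] : Prop :=
  ∀ (M : Subgroup G), IsCoatom M →
    ⁅⁅M, M⁆, ⁅M, M⁆⁆ ≤ fittingOf M ∧
      fittingOf M = (M ⊓ centralizer (fittingHallOf M : Set G)) ⊔ fittingHallOf M ∧
      ((kappa M).Nonempty → fittingOf M ≤ ⁅M, M⁆)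

/-- statement S1357 -/
def H57 (G : Type*) [Group G] : Prop :=
  ∀ (M : Subgroup G), IsCoatom M → ∀ K U : Subgroup G, IsSigmaDecomposition M K U →
    fittingHallOf M ≠ sigmaCore M →
    U = ⊥ ∧ IsTISubset (fittingOf M : Set G) ∧ (Nat.card K).Prime

/-- statement S1363 -/
def H63 (G : Type*) [Group G] : Prop :=
  ∀ (M : Subgroup G), IsCoatom M → ∀ K U : Subgroup G, IsSigmaDecomposition M K U → K ≠ ⊥ →
    IsMulCommutative U ∧ ¬ normalizer (U : Set G) ≤ M

/-- statement S1364 -/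
def H64 (G : Type*) [Group G] : Prop :=
  ∀ (M : Subgroup G), IsCoatom M → ∀ K U : Subgroup G, IsSigmaDecomposition M K U → K ≠ ⊥ →
    IsCyclic ↥(sigmaCore M ⊓ centralizer (K : Set G)) ∧
      (sigmaCore M ⊓ centralizer (K : Set G)) ≠ ⊥ ∧
      (sigmaCore M ⊓ centralizer (K : Set G)) ≤ fittingHallOf M ∧ ¬ IsCyclic (fittingHallOf M)

/-- statement S1365 -/
def H65 (G : Type*) [Group G] : Prop :=
  ∀ (M : Subgroup G), IsCoatom M → ∀ K U : Subgroup G, IsSigmaDecomposition M K U → K ≠ ⊥ →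
    ⁅M, M⁆ = U ⊔ sigmaCore M ∧
      (sigmaCore M ⊓ centralizer (K : Set G)) ≤ ⁅⁅M, M⁆, ⁅M, M⁆⁆

/-- statement S1370 -/
def H70 (G : Type*) [Group G] : Prop :=
  ∀ (M : Subgroup G), IsCoatom M → ∀ K U : Subgroup G, IsSigmaDecomposition M K U → K ≠ ⊥ →
    IsTISubset ((↑(K ⊔ (sigmaCore M ⊓ centralizer (K : Set G))) : Set G) \
        ((K : Set G) ∪ ↑(sigmaCore M ⊓ centralizer (K : Set G)))) ∧
      normalizer ((↑(K ⊔ (sigmaCore M ⊓ centralizer (K : Set G))) : Set G) \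
        ((K : Set G) ∪ ↑(sigmaCore M ⊓ centralizer (K : Set G)))) =
        K ⊔ (sigmaCore M ⊓ centralizer (K : Set G))

/-- statement S1372 -/
def H72 (G : Type*) [Group G] : Prop :=
  ∀ (M : Subgroup G), IsCoatom M → ∀ K U : Subgroup G, IsSigmaDecomposition M K U → K ≠ ⊥ →
    U ≠ ⊥ →
    (Nat.card K).Prime ∧ IsTISubset (fittingOf M : Set G) ∧ sigmaCore M ≤ fittingOf M

/-! ### Generic facts -/

theorem kappa_nonempty [Finite G] {M K : Subgroup G} (hK : IsPiHallOf (kappa M) K M)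
    (hK1 : K ≠ ⊥) : (kappa M).Nonempty := by
  have h1 : Nat.card K ≠ 1 := fun h => hK1 (Subgroup.card_eq_one.mp h)
  obtain ⟨p, hp, hpd⟩ := Nat.exists_prime_and_dvd h1
  exact ⟨p, hK.2.1 p hp hpd⟩

/-- `M_F` is nilpotent. -/
theorem fittingHall_isNilpotent (X : Type*) [Group X] [Finite X] :
    Group.IsNilpotent ↥(fittingHall X) :=
  Cfsg.Agent.Lib.helper28.isNilpotent_of_le_fittingSubgroup
    (sSup_le_sSup fun _ hN => ⟨hN.1, hN.2.1⟩)

theorem fittingHallOf_isNilpotent [Finite G] (M : Subgroup G) :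
    Group.IsNilpotent ↥(fittingHallOf M) := by
  have := fittingHall_isNilpotent ↥M
  exact Group.nilpotent_of_mulEquiv
    ((fittingHall ↥M).equivMapOfInjective M.subtype M.subtype_injective)

/-- `K` complements `M' = U M_σ` in `M`. -/
theorem compl_comm [Finite G] {M K U : Subgroup G} (hKU : IsSigmaDecomposition M K U)
    (hHall : IsPiHallOf (sigma M) (sigmaCore M) M) (hDM : ⁅M, M⁆ ≤ M)
    (hD : ⁅M, M⁆ = U ⊔ sigmaCore M) : IsComplIn ⁅M, M⁆ K M := by
  obtain ⟨hUM, hKMs, hdisj, hprod⟩ := hKU.compl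
  have hKM : K ≤ M := hKU.hall.1
  have hn : M ≤ normalizer (sigmaCore M : Set G) :=
    Cfsg.Agent.Lib.helper71.BGA.le_normalizer_sigmaCore M
  have hKs : K ⊓ sigmaCore M = ⊥ := Cfsg.Agent.Lib.helper69.bgk_K_inf_sigmaCore hKU.hall hHall
  refine ⟨hDM, hKM, ?_, ?_⟩
  · rw [eq_bot_iff]
    rintro x ⟨hxD, hxK⟩
    have hxD' : x ∈ sigmaCore M ⊔ U := by
      have : x ∈ ⁅M, M⁆ := hxD
      rwa [hD, sup_comm] at this
    obtain ⟨n, hn', u, hu, rfl⟩ := Cfsg.Agent.Lib.helper1.mem_sup_normal_left (hUM.trans hn) hxD'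
    have hu1 : u ∈ U ⊓ (K ⊔ sigmaCore M) := by
      refine ⟨hu, ?_⟩
      have e : u = n⁻¹ * (n * u) := by group
      rw [e]
      exact (K ⊔ sigmaCore M).mul_mem ((K ⊔ sigmaCore M).inv_mem (Subgroup.mem_sup_right hn'))
        (Subgroup.mem_sup_left hxK)
    rw [hdisj, mem_bot] at hu1
    subst hu1
    rw [mul_one] at hxK ⊢
    have h2 : n ∈ K ⊓ sigmaCore M := ⟨hxK, hn'⟩
    rw [hKs] at h2
    exact h2
  · intro m hm
    obtain ⟨u, hu, c, hc, rfl⟩ := hprod m hm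
    rw [sup_comm] at hc
    obtain ⟨n, hn', k, hk, rfl⟩ := Cfsg.Agent.Lib.helper1.mem_sup_normal_left (hKM.trans hn) hc
    refine ⟨u * n, ?_, k, hk, by group⟩
    rw [hD]
    exact (U ⊔ sigmaCore M).mul_mem (Subgroup.mem_sup_left hu) (Subgroup.mem_sup_right hn')

/-- The pair `K`, `K*` is a self-normalizing cyclic pair. -/
theorem selfNorm [Finite G] {M K : Subgroup G} (hKc : IsCyclic K)
    (hK : IsPiHallOf (kappa M) K M) (hHall : IsPiHallOf (sigma M) (sigmaCore M) M) (hK1 : K ≠ ⊥)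
    (hKsc : IsCyclic ↥(sigmaCore M ⊓ centralizer (K : Set G)))
    (hKs1 : sigmaCore M ⊓ centralizer (K : Set G) ≠ ⊥)
    (hTI : IsTISubset ((↑(K ⊔ (sigmaCore M ⊓ centralizer (K : Set G))) : Set G) \
        ((K : Set G) ∪ ↑(sigmaCore M ⊓ centralizer (K : Set G)))))
    (hN : normalizer ((↑(K ⊔ (sigmaCore M ⊓ centralizer (K : Set G))) : Set G) \
        ((K : Set G) ∪ ↑(sigmaCore M ⊓ centralizer (K : Set G)))) =
        K ⊔ (sigmaCore M ⊓ centralizer (K : Set G))) :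
    IsSelfNormalizingCyclic K (sigmaCore M ⊓ centralizer (K : Set G)) := by
  have hcomm : ∀ a ∈ K, ∀ b ∈ sigmaCore M ⊓ centralizer (K : Set G), a * b = b * a := by
    intro a ha b hb
    exact mem_centralizer_iff.mp hb.2 a ha
  have hdisj : K ⊓ (sigmaCore M ⊓ centralizer (K : Set G)) = ⊥ := by
    rw [eq_bot_iff, ← Cfsg.Agent.Lib.helper69.bgk_K_inf_sigmaCore hK hHall]
    exact inf_le_inf_left K inf_le_left
  have hcop : (Nat.card K).Coprime (Nat.card ↥(sigmaCore M ⊓ centralizer (K : Set G))) := by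
    apply Nat.coprime_of_dvd
    intro p hp h1 h2
    have h3 : p ∣ Nat.card (sigmaCore M) := h2.trans (Subgroup.card_dvd_of_le inf_le_left)
    exact (hK.2.1 p hp h1).2.2.1 (hHall.2.1 p hp h3)
  have hcyc : IsCyclic ↥(K ⊔ (sigmaCore M ⊓ centralizer (K : Set G))) :=
    Cfsg.Agent.Lib.helper58.bg58_isCyclic_sup_of_coprime K _ hKc hKsc hcomm hcop
  refine ⟨hK1, hKs1, hdisj, hcomm, hcyc, ?_⟩
  intro X hX hXne
  apply le_antisymm
  · intro g hg
    by_contra hgZ
    rw [← hN] at hgZ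
    obtain ⟨x, hx⟩ := hXne
    have hx' := hX hx
    have hgx : g * x * g⁻¹ ∈ X := (mem_set_normalizer_iff.mp hg x).mp hx
    have h1 := hTI g hgZ x hx' (hX hgx)
    apply hx'.2
    left
    rw [h1]; exact K.one_mem
  · intro g hg
    have hc : ∀ y ∈ X, g * y * g⁻¹ = y := by
      intro y hy
      have hyZ : y ∈ K ⊔ (sigmaCore M ⊓ centralizer (K : Set G)) := (hX hy).1
      obtain ⟨z, hz⟩ := hcyc.exists_generator
      have h1 : (⟨g, hg⟩ : ↥(K ⊔ (sigmaCore M ⊓ centralizer (K : Set G)))) *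
          ⟨y, hyZ⟩ = ⟨y, hyZ⟩ * ⟨g, hg⟩ := by
        obtain ⟨i, hi⟩ := Subgroup.mem_zpowers_iff.mp (hz ⟨g, hg⟩)
        obtain ⟨j, hj⟩ := Subgroup.mem_zpowers_iff.mp (hz ⟨y, hyZ⟩)
        rw [← hi, ← hj, ← zpow_add, ← zpow_add, add_comm]
      have h2 : g * y = y * g := congrArg Subtype.val h1
      rw [h2, mul_inv_cancel_right]
    rw [mem_set_normalizer_iff]
    intro y
    constructor
    · intro hy
      rw [hc y hy]; exact hy
    · intro hy
      have h4 := hc _ hy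
      have h5 : g * y * g⁻¹ = y := by
        have e1 : g⁻¹ * (g * (g * y * g⁻¹) * g⁻¹) * g = g⁻¹ * (g * y * g⁻¹) * g := by rw [h4]
        have e2 : g⁻¹ * (g * (g * y * g⁻¹) * g⁻¹) * g = g * y * g⁻¹ := by group
        have e3 : g⁻¹ * (g * y * g⁻¹) * g = y := by group
        rw [e2, e3] at e1
        exact e1
      rw [← h5]; exact hy

/-- `K` normalizes `K* = M_σ ∩ C(K)`. -/
theorem K_le_normalizer_Ks (M K : Subgroup G) :
    K ≤ normalizer ((sigmaCore M ⊓ centralizer (K : Set G) : Subgroup G) : Set G) := by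
  rw [le_normalizer_iff]
  intro k hk z hz
  have h1 : k * z = z * k := mem_centralizer_iff.mp hz.2 k hk
  rw [h1, mul_inv_cancel_right]
  exact hz

/-- The type-P data `(K, U', K*)` of a maximal subgroup with `K ≠ 1`. -/
theorem typeP_base [Finite G] (hG : IsMinSimpleOddOrder G) (h54 : H54 G) (h55 : H55 G)
    (h56 : H56 G) (h64 : H64 G) (h65 : H65 G) (h70 : H70 G)
    (M : Subgroup G) (hM : IsCoatom M) (K U : Subgroup G) (hKU : IsSigmaDecomposition M K U)
    (hK1 : K ≠ ⊥) (U' : Subgroup G) (hU'n : Group.IsNilpotent U')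
    (hU'K : K ≤ normalizer (U' : Set G)) (hU'c : IsComplIn (fittingHallOf M) U' ⁅M, M⁆) :
    IsTypePWith M K U' (sigmaCore M ⊓ centralizer (K : Set G)) := by
  obtain ⟨hHall, -, -⟩ := Cfsg.Agent.S1350.result hG M hM
  obtain ⟨hF1, hFs, hsD, hDlt, -⟩ := h55 M hM
  obtain ⟨h56a, h56b, h56c⟩ := h56 M hM
  obtain ⟨hKsc, hKs1, hKsF, hFnc⟩ := h64 M hM K U hKU hK1
  obtain ⟨hD, hKsD2⟩ := h65 M hM K U hKU hK1
  obtain ⟨hTI, hN⟩ := h70 M hM K U hKU hK1
  have hcompl := compl_comm hKU hHall hDlt.le hD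
  have h54b := (h54 M hM K hKU.cyclic hKU.hall).2 hK1
  refine
    { W₁_ne := hK1
      W₁_cyclic := hKU.cyclic
      W₁_hall := Cfsg.Agent.Lib.helper69.bgk_hall_coprime hKU.hall
      W₁_compl := hcompl
      U_nilpotent := hU'n
      U_normal := hU'K
      U_compl := hU'c
      H_not_cyclic := hFnc
      derived_two_le := ?_
      fitting_eq := ?_
      fitting_le := h56c (kappa_nonempty hKU.hall hK1)
      W₂_le := le_inf hKsF hKsD2
      W₂_centralizer := ?_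
      selfNormalizing := selfNorm hKU.cyclic hKU.hall hHall hK1 hKsc hKs1 hTI hN }
  · rw [sup_comm, ← h56b]; exact h56a
  · rw [sup_comm, ← h56b]
  · intro x hx hx1
    have h1 := h54b x hx hx1
    apply le_antisymm
    · rintro y ⟨hyD, hyC⟩
      have hy1 : y ∈ M ⊓ centralizer ({x} : Set G) := ⟨hDlt.le hyD, hyC⟩
      rw [h1, sup_comm] at hy1
      obtain ⟨s, hs, k, hk, rfl⟩ :=
        Cfsg.Agent.Lib.helper1.mem_sup_normal_left (K_le_normalizer_Ks M K) hy1
      have hsD' : s ∈ ⁅M, M⁆ := hsD hs.1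
      have hkD : k ∈ ⁅M, M⁆ ⊓ K := by
        refine ⟨?_, hk⟩
        have e : k = s⁻¹ * (s * k) := by group
        rw [e]; exact (⁅M, M⁆).mul_mem ((⁅M, M⁆).inv_mem hsD') hyD
      rw [hcompl.2.2.1, mem_bot] at hkD
      rw [hkD, mul_one]; exact hs
    · refine le_inf (inf_le_left.trans hsD) ?_
      intro y hy
      rw [mem_centralizer_iff]
      intro h hh
      rw [Set.mem_singleton_iff] at hh
      subst hh
      exact mem_centralizer_iff.mp hy.2 h hx

/-- A subgroup generated by an element of prime order `r` of `M` lies in a normal subgroup of `M`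
whose index is prime to `r`. -/
theorem mem_map_of_orderOf_prime [Finite G] {M : Subgroup G} (N : Subgroup M) [N.Normal] {r : ℕ}
    (hr : r.Prime) (hidx : ¬ r ∣ N.index) {w : G} (hwM : w ∈ M) (hw : orderOf w = r) :
    w ∈ N.map M.subtype := by
  have : Fact r.Prime := ⟨hr⟩
  have hZ : IsPGroup r (zpowers w) :=
    IsPGroup.of_card (n := 1) (by rw [Nat.card_zpowers, hw, pow_one])
  exact Cfsg.Agent.Lib.helper71.BGA.le_map_of_isPGroup N hidx (zpowers_le.mpr hwM) hZ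
    (mem_zpowers w)

/-- `(U M_σ)_F = M_σ` when `M_F = M_σ`. -/
theorem fitHall_sup [Finite G] {M K U D : Subgroup G} (hKU : IsSigmaDecomposition M K U)
    (hHall : IsPiHallOf (sigma M) (sigmaCore M) M)
    (hF : fittingHallOf M = sigmaCore M) (hD : D = U ⊔ sigmaCore M) (hMs1 : sigmaCore M ≠ ⊥)
    (h60 : ∃ U₀ : Subgroup G, U₀ ≤ U ∧ Monoid.exponent U₀ = Monoid.exponent U ∧
      ∀ u ∈ U₀, u ∈ sigmaHat M → u = 1) :
    fittingHallOf D = sigmaCore M := by
  obtain ⟨hUM, hKMs, hdisj, hprod⟩ := hKU.compl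
  have hMsM : sigmaCore M ≤ M := Cfsg.Agent.Lib.helper71.BGA.sigmaCore_le M
  have hn : M ≤ normalizer (sigmaCore M : Set G) :=
    Cfsg.Agent.Lib.helper71.BGA.le_normalizer_sigmaCore M
  have hMsD : sigmaCore M ≤ D := hD ▸ le_sup_right
  have hUD : U ≤ D := hD ▸ le_sup_left
  have hDM : D ≤ M := hD ▸ sup_le hUM hMsM
  have hUMs : U ⊓ sigmaCore M = ⊥ := by
    rw [eq_bot_iff, ← hdisj]
    exact inf_le_inf_left U le_sup_right
  -- `M_σ ≤ D_F`
  have hge : sigmaCore M ≤ fittingHallOf D := by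
    have hnorm : ((sigmaCore M).subgroupOf D).Normal :=
      (Subgroup.normal_subgroupOf_iff_le_normalizer hMsD).mpr (hDM.trans hn)
    have hnil : Group.IsNilpotent ↥((sigmaCore M).subgroupOf D) := by
      have h1 : Group.IsNilpotent ↥(sigmaCore M) := hF ▸ fittingHallOf_isNilpotent M
      exact Group.nilpotent_of_mulEquiv (Subgroup.subgroupOfEquivOfLe hMsD).symm
    have hcop : (Nat.card ↥((sigmaCore M).subgroupOf D)).Coprime
        ((sigmaCore M).subgroupOf D).index := by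
      rw [Nat.card_congr (Subgroup.subgroupOfEquivOfLe hMsD).toEquiv]
      have h1 : (sigmaCore M).relIndex D ∣ (sigmaCore M).relIndex M :=
        Dvd.intro _ (Subgroup.relIndex_mul_relIndex _ _ _ hMsD hDM)
      exact Nat.Coprime.coprime_dvd_right h1 (Cfsg.Agent.Lib.helper69.bgk_hall_coprime hHall)
    have h2 := Cfsg.Agent.Lib.helper29.le_fittingHall _ hnorm hnil hcop
    have h3 := Subgroup.map_mono (f := D.subtype) h2
    rw [Subgroup.map_subgroupOf_eq_of_le hMsD] at h3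
    exact h3
  apply le_antisymm _ hge
  -- an element of `U ∩ D_F` is trivial
  have key : ∀ u ∈ U, u ∈ fittingHallOf D → u = 1 := by
    intro u hu huF
    by_contra hu1
    have ho : orderOf u ≠ 1 := fun h => hu1 (orderOf_eq_one_iff.mp h)
    obtain ⟨r, hr, hrd⟩ := Nat.exists_prime_and_dvd ho
    have : Fact r.Prime := ⟨hr⟩
    obtain ⟨U₀, hU₀U, hexp, hreg⟩ := h60
    -- `r` divides the order of `D_F`
    have hrF : r ∣ Nat.card ↥(fittingHallOf D) := by
      have h1 : orderOf (⟨u, huF⟩ : ↥(fittingHallOf D)) = orderOf u := Subgroup.orderOf_mk u huF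
      exact hrd.trans (h1 ▸ orderOf_dvd_natCard _)
    have hrF' : ¬ r ∣ (fittingHall ↥D).index := by
      intro h
      have h2 := Cfsg.Agent.Lib.helper29.fittingHall_coprime ↥D
      rw [← Cfsg.Agent.Lib.helper29.card_fittingHallOf D] at h2
      exact hr.one_lt.ne' (Nat.eq_one_of_dvd_coprimes h2 hrF h)
    -- an element of order `r` in `U₀`
    have hrU₀ : r ∣ Nat.card U₀ := by
      have h1 : orderOf (⟨u, hu⟩ : ↥U) = orderOf u := Subgroup.orderOf_mk u hu
      have h2 : r ∣ Monoid.exponent ↥U := hrd.trans (h1 ▸ Monoid.order_dvd_exponent _)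
      rw [← hexp] at h2
      exact h2.trans Group.exponent_dvd_nat_card
    obtain ⟨w, hw⟩ := exists_prime_orderOf_dvd_card' r hrU₀
    have hwo : orderOf (w : G) = r := by rw [Subgroup.orderOf_coe]; exact hw
    have hwU : (w : G) ∈ U := hU₀U w.2
    have hwF : (w : G) ∈ fittingHallOf D :=
      mem_map_of_orderOf_prime (fittingHall ↥D) hr hrF' (hUD hwU) hwo
    -- `r` does not divide the order of `M_σ`
    have hrMs : ¬ r ∣ Nat.card (sigmaCore M) := by
      intro h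
      have hrσ : r ∈ sigma M := hHall.2.1 r hr h
      have hidx : ¬ r ∣ (piCore (sigma M) ↥M).index := by
        rw [← Cfsg.Agent.Lib.helper71.BGA.relIndex_map_subtype]
        exact hHall.2.2 r hr hrσ
      have hwMs : (w : G) ∈ sigmaCore M :=
        mem_map_of_orderOf_prime (piCore (sigma M) ↥M) hr hidx (hUM hwU) hwo
      have h1 : (w : G) ∈ U ⊓ sigmaCore M := ⟨hwU, hwMs⟩
      rw [hUMs, mem_bot] at h1
      rw [h1, orderOf_one] at hwo
      exact hr.one_lt.ne hwo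
    -- `w` centralizes `M_σ`
    obtain ⟨s', hs'⟩ := (Subgroup.ne_bot_iff_exists_ne_one).mp hMs1
    obtain ⟨s, hs⟩ := s'
    have hs1 : s ≠ 1 := fun h => hs' (Subtype.ext h)
    have hnilF : Group.IsNilpotent ↥(fittingHallOf D) := fittingHallOf_isNilpotent D
    have hcomm := Cfsg.Agent.Lib.helper1.commute_of_coprime_orderOf_of_isNilpotent
      ↥(fittingHallOf D) ⟨(w : G), hwF⟩ ⟨s, hge hs⟩ (by
        rw [Subgroup.orderOf_mk, Subgroup.orderOf_mk, hwo]
        refine (Nat.Prime.coprime_iff_not_dvd hr).mpr ?_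
        intro h
        have h1 : orderOf (⟨s, hs⟩ : ↥(sigmaCore M)) = orderOf s := Subgroup.orderOf_mk s hs
        exact hrMs (h.trans (h1 ▸ orderOf_dvd_natCard _)))
    have hcomm' : (w : G) * s = s * (w : G) := congrArg Subtype.val hcomm.eq
    have hw1 : (w : G) = 1 := hreg w w.2 ⟨hUM hwU, s, hs, hs1, hcomm'⟩
    rw [hw1, orderOf_one] at hwo
    exact hr.one_lt.ne hwo
  intro x hx
  have hxD : x ∈ sigmaCore M ⊔ U := by
    have h1 : x ∈ D := Cfsg.Agent.Lib.helper29.fittingHallOf_le D hx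
    rwa [hD, sup_comm] at h1
  obtain ⟨n, hn', u, hu, rfl⟩ := Cfsg.Agent.Lib.helper1.mem_sup_normal_left (hUM.trans hn) hxD
  have hu1 : u = 1 := by
    apply key u hu
    have e : u = n⁻¹ * (n * u) := by group
    rw [e]
    exact (fittingHallOf D).mul_mem ((fittingHallOf D).inv_mem (hge hn')) hx
  rw [hu1, mul_one]; exact hn'

/-- `U M_σ` is of Frobenius type when `M_F = M_σ`, `U ≠ 1` is abelian. -/
theorem typeF_sup [Finite G] (hG : IsMinSimpleOddOrder G) {M K U D : Subgroup G}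
    (hM : IsCoatom M) (hKU : IsSigmaDecomposition M K U)
    (hFD : fittingHallOf D = sigmaCore M) (hD : D = U ⊔ sigmaCore M) (hMs1 : sigmaCore M ≠ ⊥)
    (hU1 : U ≠ ⊥) (hUc : IsMulCommutative U)
    (h60 : ∃ U₀ : Subgroup G, U₀ ≤ U ∧ Monoid.exponent U₀ = Monoid.exponent U ∧
      ∀ u ∈ U₀, u ∈ sigmaHat M → u = 1) :
    IsOfTypeF ↥D := by
  obtain ⟨hUM, hKMs, hdisj, hprod⟩ := hKU.compl
  have hMsM : sigmaCore M ≤ M := Cfsg.Agent.Lib.helper71.BGA.sigmaCore_le M
  have hn : M ≤ normalizer (sigmaCore M : Set G) :=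
    Cfsg.Agent.Lib.helper71.BGA.le_normalizer_sigmaCore M
  have hMsD : sigmaCore M ≤ D := hD ▸ le_sup_right
  have hUD : U ≤ D := hD ▸ le_sup_left
  have hDM : D ≤ M := hD ▸ sup_le hUM hMsM
  have hUMs : U ⊓ sigmaCore M = ⊥ := by
    rw [eq_bot_iff, ← hdisj]
    exact inf_le_inf_left U le_sup_right
  have hFeq : fittingHall ↥D = (sigmaCore M).subgroupOf D := by
    rw [← Cfsg.Agent.Lib.helper29.subgroupOf_fittingHallOf D, hFD]
  obtain ⟨U₀, hU₀U, hexp, hreg⟩ := h60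
  obtain ⟨hodd, -, -, hsolv⟩ := id hG
  have hMsolv : Group.IsSolvable ↥M := hsolv M hM.1
  refine ⟨Group.isSolvable_of_isSolvable_injective (Subgroup.inclusion_injective hDM),
    Odd.of_dvd_nat hodd (Subgroup.card_subgroup_dvd_card D), ?_, ?_, U.subgroupOf D, ?_, ?_,
    ⟨U.subgroupOf D, le_rfl, le_normalizer, ?_, fun x _ _ => inf_le_left⟩,
    ⟨U₀.subgroupOf D, ?_, ?_, ?_⟩⟩
  · rw [hFeq, Ne, Subgroup.subgroupOf_eq_bot, disjoint_iff, inf_eq_left.mpr hMsD]
    exact hMs1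
  · rw [hFeq, Ne, Subgroup.subgroupOf_eq_top]
    intro h
    apply hU1
    rw [eq_bot_iff, ← hUMs]
    exact le_inf le_rfl (hUD.trans h)
  · rw [Ne, Subgroup.subgroupOf_eq_bot, disjoint_iff, inf_eq_left.mpr hUD]
    exact hU1
  · rw [hFeq]
    apply Subgroup.isComplement'_of_disjoint_and_mul_eq_univ
    · rw [disjoint_iff, eq_bot_iff]
      rintro x ⟨h1, h2⟩
      have h3 : (x : G) ∈ U ⊓ sigmaCore M := ⟨Subgroup.mem_subgroupOf.mp h2,
        Subgroup.mem_subgroupOf.mp h1⟩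
      rw [hUMs, mem_bot] at h3
      exact Subgroup.mem_bot.mpr (Subtype.ext h3)
    · apply Set.eq_univ_of_forall
      intro x
      have hxD : (x : G) ∈ sigmaCore M ⊔ U := by
        have h1 : (x : G) ∈ U ⊔ sigmaCore M := hD.le x.2
        rwa [sup_comm] at h1
      obtain ⟨n, hn', u, hu, hxe⟩ :=
        Cfsg.Agent.Lib.helper1.mem_sup_normal_left (hUM.trans hn) hxD
      exact Set.mem_mul.mpr ⟨⟨n, hMsD hn'⟩, Subgroup.mem_subgroupOf.mpr hn', ⟨u, hUD hu⟩,
        Subgroup.mem_subgroupOf.mpr hu, Subtype.ext hxe.symm⟩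
  · refine ⟨⟨fun a b => ?_⟩⟩
    have ha : ((a : ↥D) : G) ∈ U := Subgroup.mem_subgroupOf.mp a.2
    have hb : ((b : ↥D) : G) ∈ U := Subgroup.mem_subgroupOf.mp b.2
    have h1 := hUc.is_comm.comm (⟨_, ha⟩ : ↥U) ⟨_, hb⟩
    have h2 : ((a : ↥D) : G) * ((b : ↥D) : G) = ((b : ↥D) : G) * ((a : ↥D) : G) :=
      congrArg Subtype.val h1
    exact Subtype.ext (Subtype.ext h2)
  · intro x hx
    exact Subgroup.mem_subgroupOf.mpr (hU₀U (Subgroup.mem_subgroupOf.mp hx))
  · rw [Monoid.exponent_eq_of_mulEquiv (Subgroup.subgroupOfEquivOfLe (hU₀U.trans hUD)),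
      Monoid.exponent_eq_of_mulEquiv (Subgroup.subgroupOfEquivOfLe hUD)]
    exact hexp
  · intro u hu hu1 x hx hux
    by_contra hx1
    rw [hFeq] at hx
    have h1 : (u : G) = 1 := by
      refine hreg (u : G) (Subgroup.mem_subgroupOf.mp hu) ⟨hDM u.2, (x : G),
        Subgroup.mem_subgroupOf.mp hx, fun h => hx1 (Subtype.ext h), ?_⟩
      exact congrArg Subtype.val hux
    exact hu1 (Subtype.ext h1)

/-- For type-P data `(W₁, U', W₂)` of `M`, every prime divisor of `|W₁|` lies in `κ(M)`. -/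
theorem kappa_of_typeP [Finite G] (hG : IsMinSimpleOddOrder G) (h55 : H55 G) {M : Subgroup G}
    (hM : IsCoatom M) {W₁ U' W₂ : Subgroup G} (hP : IsTypePWith M W₁ U' W₂) :
    ∀ q : ℕ, q.Prime → q ∣ Nat.card W₁ → q ∈ kappa M := by
  intro q hq hqd
  have : Fact q.Prime := ⟨hq⟩
  obtain ⟨hHall, -, -⟩ := Cfsg.Agent.S1350.result hG M hM
  obtain ⟨hF1, hFs, hsD, hDlt, -⟩ := h55 M hM
  have hWM : W₁ ≤ M := hP.W₁_compl.2.1
  obtain ⟨e, he⟩ := exists_prime_orderOf_dvd_card' q hqd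
  have heo : orderOf (e : G) = q := by rw [Subgroup.orderOf_coe]; exact he
  obtain ⟨y', hy'⟩ := (Subgroup.ne_bot_iff_exists_ne_one).mp hP.selfNormalizing.2.1
  obtain ⟨y, hyW⟩ := y'
  have hy1 : y ≠ 1 := fun h => hy' (Subtype.ext h)
  have hy : y ∈ sigmaCore M := hFs (hP.W₂_le hyW).1
  have hey : (e : G) * y = y * (e : G) := hP.selfNormalizing.2.2.2.1 (e : G) e.2 y hyW
  have hqσ : q ∉ sigma M := by
    intro hqs
    have hidx : ¬ q ∣ (piCore (sigma M) ↥M).index := by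
      rw [← Cfsg.Agent.Lib.helper71.BGA.relIndex_map_subtype]
      exact hHall.2.2 q hq hqs
    have heMs : (e : G) ∈ sigmaCore M :=
      mem_map_of_orderOf_prime (piCore (sigma M) ↥M) hq hidx (hWM e.2) heo
    have h1 : (e : G) ∈ ⁅M, M⁆ ⊓ W₁ := ⟨hsD heMs, e.2⟩
    rw [hP.W₁_compl.2.2.1, mem_bot] at h1
    rw [h1, orderOf_one] at heo
    exact hq.one_lt.ne heo
  have hrk : PRankLE q 1 ↥M := by
    obtain ⟨P₀⟩ : Nonempty (Sylow q ↥W₁) := inferInstance
    have hXW : (P₀ : Subgroup ↥W₁).map W₁.subtype ≤ W₁ := Subgroup.map_subtype_le _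
    have hXM : (P₀ : Subgroup ↥W₁).map W₁.subtype ≤ M := hXW.trans hWM
    have hXp : IsPGroup q ↥((P₀ : Subgroup ↥W₁).map W₁.subtype) := P₀.2.map _
    have hidx : ¬ q ∣ ((P₀ : Subgroup ↥W₁).map W₁.subtype).relIndex M := by
      rw [← Subgroup.relIndex_mul_relIndex _ _ _ hXW hWM,
        Cfsg.Agent.Lib.helper71.BGA.relIndex_map_subtype]
      intro h
      rcases (Nat.Prime.dvd_mul hq).mp h with h1 | h1
      · exact P₀.not_dvd_index h1
      · exact hq.one_lt.ne' (Nat.eq_one_of_dvd_coprimes hP.W₁_hall hqd h1)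
    have hX' : IsPGroup q (((P₀ : Subgroup ↥W₁).map W₁.subtype).subgroupOf M) :=
      hXp.comap_of_injective M.subtype M.subtype_injective
    have hidx' : ¬ q ∣ (((P₀ : Subgroup ↥W₁).map W₁.subtype).subgroupOf M).index := hidx
    apply Cfsg.Agent.Lib.helper98.BGT3.k45_prankLE_one_of_sylow_cyclic (hX'.toSylow hidx')
    rw [IsPGroup.toSylow_coe]
    have hc0 : IsCyclic ↥W₁ := hP.W₁_cyclic
    have hc1 : IsCyclic ↥(P₀ : Subgroup ↥W₁) := Subgroup.isCyclic _
    have hc2 : IsCyclic ↥((P₀ : Subgroup ↥W₁).map W₁.subtype) :=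
      ((P₀ : Subgroup ↥W₁).equivMapOfInjective W₁.subtype W₁.subtype_injective).isCyclic.mp hc1
    exact (Subgroup.subgroupOfEquivOfLe hXM).isCyclic.mpr hc2
  exact Cfsg.Agent.Lib.helper54.PNU.mem_kappa_of_nonregular hG.1 M q hq hqσ hrk (e : G) (hWM e.2)
    heo y hy hy1 hey

/-- If `M` admits type-P data then a Hall `κ(M)`-subgroup of `M` is nontrivial. -/
theorem K_ne_bot_of_typeP [Finite G] (hG : IsMinSimpleOddOrder G) (h55 : H55 G) {M : Subgroup G}
    (hM : IsCoatom M) {W₁ U' W₂ : Subgroup G} (hP : IsTypePWith M W₁ U' W₂) {K : Subgroup G}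
    (hK : IsPiHallOf (kappa M) K M) : K ≠ ⊥ := by
  have h1 : Nat.card W₁ ≠ 1 := fun h => hP.W₁_ne (Subgroup.card_eq_one.mp h)
  obtain ⟨q, hq, hqd⟩ := Nat.exists_prime_and_dvd h1
  have hqκ := kappa_of_typeP hG h55 hM hP q hq hqd
  intro hK0
  apply hK.2.2 q hq hqκ
  rw [hK0, Subgroup.relIndex_bot_left]
  exact hqκ.2.1

/-- The normalizer of a nontrivial nilpotent Hall subgroup of `M_σ` lies in `M`. -/
theorem normalizer_le_of_hall_nilpotent [Finite G] (hG : IsMinSimpleOddOrder G) {M : Subgroup G}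
    (hM : IsCoatom M) {V : Subgroup G} (hVMs : V ≤ sigmaCore M) (hV1 : V ≠ ⊥)
    (hVn : Group.IsNilpotent V) (hVH : (Nat.card V).Coprime (V.relIndex (sigmaCore M))) :
    normalizer (V : Set G) ≤ M := by
  obtain ⟨hHall, hHallG, -⟩ := Cfsg.Agent.S1350.result hG M hM
  have hMsM : sigmaCore M ≤ M := Cfsg.Agent.Lib.helper71.BGA.sigmaCore_le M
  have h1 : Nat.card V ≠ 1 := fun h => hV1 (Subgroup.card_eq_one.mp h)
  obtain ⟨r, hr, hrd⟩ := Nat.exists_prime_and_dvd h1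
  have : Fact r.Prime := ⟨hr⟩
  obtain ⟨R⟩ : Nonempty (Sylow r ↥V) := inferInstance
  have hRn : (R : Subgroup ↥V).Normal := by
    have h : Group.IsNilpotent ↥V ↔
        ∀ (p : ℕ) (_hp : Fact p.Prime) (P : Sylow p ↥V), (P : Subgroup ↥V).Normal :=
      (Group.isNilpotent_of_finite_tfae (G := ↥V)).out 0 3
    exact h.mp hVn r inferInstance R
  have hRc : (R : Subgroup ↥V).Characteristic := Sylow.characteristic_of_normal R hRn
  have hN1 := Cfsg.Agent.Lib.helper1.normalizer_le_normalizer_map_of_characteristic V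
    (R : Subgroup ↥V)
  have hrσ : r ∈ sigma M := hHall.2.1 r hr (hrd.trans (Subgroup.card_dvd_of_le hVMs))
  have hXV : (R : Subgroup ↥V).map V.subtype ≤ V := Subgroup.map_subtype_le _
  have hXi : ¬ r ∣ ((R : Subgroup ↥V).map V.subtype).index := by
    rw [← Subgroup.relIndex_mul_index hXV, ← Subgroup.relIndex_mul_index hVMs,
      Cfsg.Agent.Lib.helper71.BGA.relIndex_map_subtype]
    intro h
    rcases (Nat.Prime.dvd_mul hr).mp h with h2 | h2
    · exact R.not_dvd_index h2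
    · rcases (Nat.Prime.dvd_mul hr).mp h2 with h3 | h3
      · exact hr.one_lt.ne' (Nat.eq_one_of_dvd_coprimes hVH hrd h3)
      · exact hHallG.2 r hr hrσ h3
  exact hN1.trans (Cfsg.Agent.Lib.helper13.sigma_normalizer_le M hrσ _
    (hXV.trans (hVMs.trans hMsM)) (R.2.map _) hXi)

theorem isNilpotent_of_isMulCommutative {H : Type*} [Group H] (h : IsMulCommutative H) :
    Group.IsNilpotent H := by
  refine ⟨⟨1, ?_⟩⟩
  rw [Subgroup.upperCentralSeries_one, eq_top_iff]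
  intro x _
  rw [Subgroup.mem_center_iff]
  intro g
  exact h.is_comm.comm g x

theorem le_normalizer_inf {H A B : Subgroup G} (hA : H ≤ normalizer (A : Set G))
    (hB : H ≤ normalizer (B : Set G)) : H ≤ normalizer ((A ⊓ B : Subgroup G) : Set G) := by
  rw [le_normalizer_iff] at hA hB ⊢
  intro h hh x hx
  exact ⟨hA h hh x hx.1, hB h hh x hx.2⟩

/-- **S1381** from the statements S1354–S1357, S1363–S1365, S1370, S1372. -/
theorem s1381_of [Finite G] (hG : IsMinSimpleOddOrder G) (h54 : H54 G) (h55 : H55 G)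
    (h56 : H56 G) (h57 : H57 G) (h63 : H63 G) (h64 : H64 G) (h65 : H65 G) (h70 : H70 G)
    (h72 : H72 G)
    (M : Subgroup G) (hM : IsCoatom M) (K U : Subgroup G) (hKU : IsSigmaDecomposition M K U) :
    IsOfTypeII M ↔ (K ≠ ⊥ ∧ U ≠ ⊥) := by
  obtain ⟨hHall, hHallG, -⟩ := Cfsg.Agent.S1350.result hG M hM
  obtain ⟨hF1, hFs, hsD, hDlt, hnilq⟩ := h55 M hM
  have hMsM : sigmaCore M ≤ M := Cfsg.Agent.Lib.helper71.BGA.sigmaCore_le M
  have hn : M ≤ normalizer (sigmaCore M : Set G) :=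
    Cfsg.Agent.Lib.helper71.BGA.le_normalizer_sigmaCore M
  obtain ⟨hUM, hKMs, hdisj, hprod⟩ := hKU.compl
  have hUMs : U ⊓ sigmaCore M = ⊥ := by
    rw [eq_bot_iff, ← hdisj]
    exact inf_le_inf_left U le_sup_right
  constructor
  · rintro ⟨W₁, U', W₂, hP, hU'1, hW₁p, hTI, hU'c, hU'N, hTF, hFF⟩
    have hK1 : K ≠ ⊥ := K_ne_bot_of_typeP hG h55 hM hP hKU.hall
    refine ⟨hK1, ?_⟩
    intro hU0
    obtain ⟨hD, -⟩ := h65 M hM K U hKU hK1
    rw [hU0, bot_sup_eq] at hD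
    have hc : IsComplIn (fittingHallOf M) U' (sigmaCore M) := by
      rw [← hD]; exact hP.U_compl
    have e1 := Cfsg.Agent.Lib.helper29.IsComplIn.card_left hc
    have e2 := Cfsg.Agent.Lib.helper29.IsComplIn.card_right hc
    have hcop : (Nat.card U').Coprime (U'.relIndex (sigmaCore M)) := by
      rw [← e1, e2]
      have h1 : (fittingHallOf M).relIndex (sigmaCore M) ∣ (fittingHallOf M).relIndex M :=
        Dvd.intro _ (Subgroup.relIndex_mul_relIndex _ _ _ hFs hMsM)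
      exact (Nat.Coprime.coprime_dvd_right h1
        (Cfsg.Agent.Lib.helper29.fittingHallOf_coprime M)).symm
    exact hU'N (normalizer_le_of_hall_nilpotent hG hM hc.2.1 hU'1 hP.U_nilpotent hcop)
  · rintro ⟨hK1, hU1⟩
    have hFeq : fittingHallOf M = sigmaCore M := by
      by_contra hne
      exact hU1 (h57 M hM K U hKU hne).1
    obtain ⟨hUc, hUN⟩ := h63 M hM K U hKU hK1
    obtain ⟨hKp, hTI, -⟩ := h72 M hM K U hKU hK1 hU1
    obtain ⟨hD, -⟩ := h65 M hM K U hKU hK1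
    have h60 := Cfsg.Agent.S1360.result hG M hM K U hKU
    have hMs1 : sigmaCore M ≠ ⊥ := hFeq ▸ hF1
    have hFD := fitHall_sup hKU hHall hFeq hD hMs1 h60
    have hUnil : Group.IsNilpotent ↥U := isNilpotent_of_isMulCommutative hUc
    have hcompl : IsComplIn (fittingHallOf M) U ⁅M, M⁆ := by
      rw [hFeq]
      refine ⟨hsD, hD ▸ le_sup_left, ?_, ?_⟩
      · rw [inf_comm]; exact hUMs
      · intro m hm
        rw [hD, sup_comm] at hm
        exact Cfsg.Agent.Lib.helper1.mem_sup_normal_left (hUM.trans hn) hm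
    exact ⟨K, U, _, typeP_base hG h54 h55 h56 h64 h65 h70 M hM K U hKU hK1 U hUnil hKU.normal
      hcompl, hU1, hKp, hTI, hUc, hUN, typeF_sup hG hM hKU hFD hD hMs1 hU1 hUc h60,
      hFD.trans hFeq.symm⟩

/-- A `K`-invariant complement of `M_F` in `M_σ` (Hall's theorem in the solvable group `M`). -/
theorem exists_invariant_compl [Finite G] (hG : IsMinSimpleOddOrder G) {M K : Subgroup G}
    (hM : IsCoatom M) (hK : IsPiHallOf (kappa M) K M)
    (hHall : IsPiHallOf (sigma M) (sigmaCore M) M) (hFs : fittingHallOf M ≤ sigmaCore M) :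
    ∃ U' : Subgroup G, IsComplIn (fittingHallOf M) U' (sigmaCore M) ∧
      K ≤ normalizer (U' : Set G) ∧ (Nat.card U').Coprime (U'.relIndex (sigmaCore M)) := by
  obtain ⟨hodd, -, -, hsolv⟩ := id hG
  have hMsolv : Group.IsSolvable ↥M := hsolv M hM.1
  have hMsM : sigmaCore M ≤ M := Cfsg.Agent.Lib.helper71.BGA.sigmaCore_le M
  have hn : M ≤ normalizer (sigmaCore M : Set G) :=
    Cfsg.Agent.Lib.helper71.BGA.le_normalizer_sigmaCore M
  have hcF := Cfsg.Agent.Lib.helper29.fittingHall_coprime ↥M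
  have hcard : Nat.card ↥M = (fittingHall ↥M).index * Nat.card ↥(fittingHall ↥M) :=
    ((fittingHall ↥M).index_mul_card).symm
  obtain ⟨-, hdom⟩ := Cfsg.Agent.Lib.helper1.hallProp ↥M _ _ hcard hcF.symm
  have hKcop : (Nat.card ↥(K.subgroupOf M)).Coprime (Nat.card ↥(fittingHall ↥M)) := by
    rw [Nat.card_congr (Subgroup.subgroupOfEquivOfLe hK.1).toEquiv,
      ← Cfsg.Agent.Lib.helper29.card_fittingHallOf M]
    apply Nat.coprime_of_dvd
    intro p hp h1 h2
    have h3 : p ∣ Nat.card (sigmaCore M) := h2.trans (Subgroup.card_dvd_of_le hFs)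
    exact (hK.2.1 p hp h1).2.2.1 (hHall.2.1 p hp h3)
  obtain ⟨H, hHcard, hKH⟩ := hdom (K.subgroupOf M) hKcop
  have hcompl : Subgroup.IsComplement' (fittingHall ↥M) H := by
    apply Subgroup.isComplement'_of_coprime
    · rw [hHcard, mul_comm]; exact hcard.symm
    · rw [hHcard]; exact hcF
  have hKE : K ≤ H.map M.subtype := by
    intro k hk
    exact ⟨⟨k, hK.1 hk⟩, hKH (Subgroup.mem_subgroupOf.mpr hk), rfl⟩
  have hFE : fittingHallOf M ⊓ H.map M.subtype = ⊥ := by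
    apply disjoint_iff.mp
    apply Subgroup.disjoint_of_coprime_natCard
    rw [Cfsg.Agent.Lib.helper29.card_fittingHallOf M,
      Subgroup.card_map_of_injective M.subtype_injective, hHcard]
    exact hcF
  have hc : IsComplIn (fittingHallOf M) (H.map M.subtype ⊓ sigmaCore M) (sigmaCore M) := by
    refine ⟨hFs, inf_le_right, ?_, ?_⟩
    · rw [eq_bot_iff, ← hFE]
      exact inf_le_inf_left _ inf_le_left
    · intro s hs
      obtain ⟨⟨a, e⟩, hae⟩ := hcompl.2 (⟨s, hMsM hs⟩ : ↥M)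
      have hae' : ((a : ↥M) : G) * ((e : ↥M) : G) = s := congrArg Subtype.val hae
      have haF : ((a : ↥M) : G) ∈ fittingHallOf M := ⟨(a : ↥M), a.2, rfl⟩
      refine ⟨((a : ↥M) : G), haF, ((e : ↥M) : G), ⟨⟨(e : ↥M), e.2, rfl⟩, ?_⟩, hae'.symm⟩
      have e3 : ((e : ↥M) : G) = ((a : ↥M) : G)⁻¹ * s := by rw [← hae']; group
      rw [e3]
      exact (sigmaCore M).mul_mem ((sigmaCore M).inv_mem (hFs haF)) hs
  refine ⟨H.map M.subtype ⊓ sigmaCore M, hc, ?_, ?_⟩
  · exact le_normalizer_inf (hKE.trans le_normalizer) (hK.1.trans hn)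
  · rw [← Cfsg.Agent.Lib.helper29.IsComplIn.card_left hc,
      Cfsg.Agent.Lib.helper29.card_fittingHallOf M]
    have h1 : Nat.card ↥(H.map M.subtype ⊓ sigmaCore M) ∣ (fittingHall ↥M).index := by
      rw [← hHcard, ← Subgroup.card_map_of_injective M.subtype_injective]
      exact Subgroup.card_dvd_of_le inf_le_left
    exact Nat.Coprime.coprime_dvd_left h1 hcF.symm

/-- A subgroup of `M'` meeting `M_F` trivially is nilpotent (as `M' M_F / M_F` is). -/
theorem isNilpotent_of_disjoint [Finite G] {M V : Subgroup G} (hVD : V ≤ ⁅M, M⁆)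
    (hVM : V ≤ M) (hFV : fittingHallOf M ⊓ V = ⊥)
    (hnil : Group.IsNilpotent ↥((commutator ↥M).map (QuotientGroup.mk' (fittingHall ↥M)))) :
    Group.IsNilpotent ↥V := by
  have hmem : ∀ v : ↥V, (QuotientGroup.mk' (fittingHall ↥M)) (Subgroup.inclusion hVM v) ∈
      (commutator ↥M).map (QuotientGroup.mk' (fittingHall ↥M)) := by
    intro v
    refine ⟨Subgroup.inclusion hVM v, ?_, rfl⟩
    have h1 : (v : G) ∈ (commutator ↥M).map M.subtype := by
      rw [Subgroup.map_subtype_commutator]; exact hVD v.2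
    obtain ⟨y, hy, hyv⟩ := h1
    have h2 : y = Subgroup.inclusion hVM v := Subtype.ext hyv
    rw [← h2]; exact hy
  let ψ : ↥V →* ↥((commutator ↥M).map (QuotientGroup.mk' (fittingHall ↥M))) :=
    ((QuotientGroup.mk' (fittingHall ↥M)).comp (Subgroup.inclusion hVM)).codRestrict _ hmem
  have hinj : Function.Injective ψ := by
    rw [injective_iff_map_eq_one]
    intro v hv
    have h1 : (QuotientGroup.mk' (fittingHall ↥M)) (Subgroup.inclusion hVM v) = 1 :=
      congrArg Subtype.val hv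
    rw [QuotientGroup.mk'_apply, QuotientGroup.eq_one_iff] at h1
    have h2 : (v : G) ∈ fittingHallOf M ⊓ V := ⟨⟨_, h1, rfl⟩, v.2⟩
    rw [hFV, mem_bot] at h2
    exact Subtype.ext h2
  have h3 : Group.IsNilpotent ↥ψ.range := inferInstance
  exact Group.nilpotent_of_mulEquiv (MonoidHom.ofInjective hinj).symm

/-- If `M_F = M_σ`, type-P data `(W₁, U', W₂)` of `M` give a standard factorisation
`M = W₁ U' M_σ`. -/
theorem sigmaDecomp_of_typeP [Finite G] (hG : IsMinSimpleOddOrder G) (h55 : H55 G)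
    {M K U : Subgroup G} (hM : IsCoatom M) (hKU : IsSigmaDecomposition M K U)
    (hHall : IsPiHallOf (sigma M) (sigmaCore M) M)
    (hD : ⁅M, M⁆ = U ⊔ sigmaCore M) (hFeq : fittingHallOf M = sigmaCore M)
    {W₁ U' W₂ : Subgroup G} (hP : IsTypePWith M W₁ U' W₂) :
    IsSigmaDecomposition M W₁ U' := by
  obtain ⟨hF1, hFs, hsD, hDlt, -⟩ := h55 M hM
  have hMsM : sigmaCore M ≤ M := Cfsg.Agent.Lib.helper71.BGA.sigmaCore_le M
  have hn : M ≤ normalizer (sigmaCore M : Set G) :=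
    Cfsg.Agent.Lib.helper71.BGA.le_normalizer_sigmaCore M
  obtain ⟨hDM, hWM, hDW, hprodW⟩ := hP.W₁_compl
  obtain ⟨hFD, hU'D, hFU', hprodU⟩ := hP.U_compl
  have hcK := compl_comm hKU hHall hDlt.le hD
  refine ⟨hP.W₁_cyclic, ⟨hWM, kappa_of_typeP hG h55 hM hP, ?_⟩, ⟨hU'D.trans hDM,
    sup_le hWM hMsM, ?_, ?_⟩, hP.U_normal⟩
  · intro p hp hpκ
    rw [← Cfsg.Agent.Lib.helper29.IsComplIn.card_left hP.W₁_compl,
      Cfsg.Agent.Lib.helper29.IsComplIn.card_left hcK]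
    exact hKU.hall.2.2 p hp hpκ
  · rw [eq_bot_iff]
    rintro x ⟨hxU, hxS⟩
    have hxS' : x ∈ sigmaCore M ⊔ W₁ := by
      have h1 : x ∈ W₁ ⊔ sigmaCore M := hxS
      rwa [sup_comm] at h1
    obtain ⟨n, hn', w, hw, rfl⟩ := Cfsg.Agent.Lib.helper1.mem_sup_normal_left (hWM.trans hn) hxS'
    have hw1 : w ∈ ⁅M, M⁆ ⊓ W₁ := by
      refine ⟨?_, hw⟩
      have e : w = n⁻¹ * (n * w) := by group
      rw [e]
      exact (⁅M, M⁆).mul_mem ((⁅M, M⁆).inv_mem (hsD hn')) (hU'D hxU)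
    rw [hDW, mem_bot] at hw1
    subst hw1
    rw [mul_one] at hxU ⊢
    have h2 : n ∈ fittingHallOf M ⊓ U' := ⟨hFeq ▸ hn', hxU⟩
    rw [hFU'] at h2
    exact h2
  · intro m hm
    obtain ⟨d, hd, w, hw, rfl⟩ := hprodW m hm
    obtain ⟨f, hf, u, hu, rfl⟩ := hprodU d hd
    refine ⟨u, hu, u⁻¹ * f * u * w, ?_, by group⟩
    have huM : u ∈ M := hDM (hU'D hu)
    have h1 : u⁻¹ * f * u ∈ sigmaCore M := by
      have h2 := (le_normalizer_iff.mp hn) u⁻¹ (M.inv_mem huM) f (hFeq ▸ hf)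
      rwa [inv_inv] at h2
    exact (W₁ ⊔ sigmaCore M).mul_mem (Subgroup.mem_sup_right h1) (Subgroup.mem_sup_left hw)

/-- **S1382** from the statements S1354–S1357, S1363–S1365, S1370. -/
theorem s1382_of [Finite G] (hG : IsMinSimpleOddOrder G) (h54 : H54 G) (h55 : H55 G)
    (h56 : H56 G) (h57 : H57 G) (h63 : H63 G) (h64 : H64 G) (h65 : H65 G) (h70 : H70 G)
    (M : Subgroup G) (hM : IsCoatom M) (K U : Subgroup G) (hKU : IsSigmaDecomposition M K U) :
    (IsOfTypeIII M ∨ IsOfTypeIV M) ↔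
      (K ≠ ⊥ ∧ U = ⊥ ∧ fittingHallOf M ≠ sigmaCore M) := by
  obtain ⟨hHall, hHallG, -⟩ := Cfsg.Agent.S1350.result hG M hM
  obtain ⟨hF1, hFs, hsD, hDlt, hnilq⟩ := h55 M hM
  have hMsM : sigmaCore M ≤ M := Cfsg.Agent.Lib.helper71.BGA.sigmaCore_le M
  constructor
  · intro h
    have key : ∀ W₁ U' W₂ : Subgroup G, IsTypePWith M W₁ U' W₂ → U' ≠ ⊥ →
        normalizer (U' : Set G) ≤ M →
        (K ≠ ⊥ ∧ U = ⊥ ∧ fittingHallOf M ≠ sigmaCore M) := by
      intro W₁ U' W₂ hP hU'1 hU'N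
      have hK1 : K ≠ ⊥ := K_ne_bot_of_typeP hG h55 hM hP hKU.hall
      obtain ⟨hD, -⟩ := h65 M hM K U hKU hK1
      have hU0 : U = ⊥ := by
        by_contra hU1
        have hFeq : fittingHallOf M = sigmaCore M := by
          by_contra hne
          exact hU1 (h57 M hM K U hKU hne).1
        have hdec := sigmaDecomp_of_typeP hG h55 hM hKU hHall hD hFeq hP
        exact (h63 M hM W₁ U' hdec hP.W₁_ne).2 hU'N
      refine ⟨hK1, hU0, ?_⟩
      intro hFeq
      rw [hU0, bot_sup_eq] at hD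
      obtain ⟨-, hU'D, hFU', -⟩ := hP.U_compl
      apply hU'1
      rw [eq_bot_iff, ← hFU']
      refine le_inf ?_ le_rfl
      rw [hFeq, ← hD]
      exact hU'D
    rcases h with ⟨W₁, U', W₂, hP, hU'1, -, -, -, hU'N⟩ | ⟨W₁, U', W₂, hP, hU'1, -, -, -, hU'N⟩
    · exact key W₁ U' W₂ hP hU'1 hU'N
    · exact key W₁ U' W₂ hP hU'1 hU'N
  · rintro ⟨hK1, hU0, hne⟩
    obtain ⟨-, hTI, hKp⟩ := h57 M hM K U hKU hne
    obtain ⟨hD, -⟩ := h65 M hM K U hKU hK1
    rw [hU0, bot_sup_eq] at hD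
    obtain ⟨U', hU'c, hU'K, hU'cop⟩ := exists_invariant_compl hG hM hKU.hall hHall hFs
    obtain ⟨-, hU'Ms, hFU', hprod⟩ := id hU'c
    have hU'1 : U' ≠ ⊥ := by
      intro h0
      apply hne
      apply le_antisymm hFs
      intro s hs
      obtain ⟨a, ha, b, hb, rfl⟩ := hprod s hs
      rw [h0, mem_bot] at hb
      rw [hb, mul_one]; exact ha
    have hU'n : Group.IsNilpotent ↥U' :=
      isNilpotent_of_disjoint (hD ▸ hU'Ms) (hU'Ms.trans hMsM) hFU' hnilq
    have hU'c' : IsComplIn (fittingHallOf M) U' ⁅M, M⁆ := by rw [hD]; exact hU'c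
    have hP := typeP_base hG h54 h55 h56 h64 h65 h70 M hM K U hKU hK1 U' hU'n hU'K hU'c'
    have hU'N := normalizer_le_of_hall_nilpotent hG hM hU'Ms hU'1 hU'n hU'cop
    by_cases hab : IsMulCommutative U'
    · exact Or.inl ⟨K, U', _, hP, hU'1, hKp, hTI, hab, hU'N⟩
    · exact Or.inr ⟨K, U', _, hP, hU'1, hKp, hTI, hab, hU'N⟩

end Cfsg.Agent.Lib.helper54.BGTypes
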