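import Mathlib
import Cfsg.Prelude.Def_LinearParabolics
import Cfsg.Agent.Lib.helper45.SVDefs

/-!
# S2425 piece SUMD: regrouping the chains of invariant subspaces by their sets of dimensions
-/

set_option autoImplicit false
open scoped MatrixGroups

namespace Cfsg.Agent.Lib.helper45.SV

/-- Abstract form of SUMD: a family `C` of finite sets on each of which the rank function `r` is
injective with values in `[1, n - 1]`. -/
theorem h54_sumd_abs {α : Type*} [DecidableEq α] {n : ℕ} (hn : 0 < n)
    (C : Finset (Finset α)) (r : α → ℕ)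
    (hinj : ∀ c ∈ C, Set.InjOn r (c : Set α))
    (hr : ∀ c ∈ C, ∀ a ∈ c, 1 ≤ r a ∧ r a < n) :
    (∑ D ∈ endSets n, (-1 : ℤ) ^ (n - D.card) *
      ((C.filter (fun c => c.image r =
        (D.filter (fun d => d.val + 1 ≠ n)).image (fun d : Fin n => d.val + 1))).card : ℤ)) =
    (-1 : ℤ) ^ n * ∑ c ∈ C, (-1 : ℤ) ^ (c.card + 1) := by
  classical
  let φ : Finset α → Finset (Fin n) := fun c =>
    Finset.univ.filter (fun d : Fin n => d.val + 1 ∈ c.image r ∨ d.val + 1 = n)
  have hφ : ∀ (c : Finset α) (d : Fin n), d ∈ φ c ↔ (d.val + 1 ∈ c.image r ∨ d.val + 1 = n) := by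
    intro c d
    simp only [φ, Finset.mem_filter, Finset.mem_univ, true_and]
  have h1 : ∀ c ∈ C, φ c ∈ endSets n := by
    intro c _
    simp only [endSets, Finset.mem_filter, Finset.mem_univ, true_and]
    intro i hi
    exact (hφ c i).mpr (Or.inr hi)
  have h2 : ∀ c ∈ C, ∀ D ∈ endSets n,
      (c.image r = (D.filter (fun d => d.val + 1 ≠ n)).image (fun d : Fin n => d.val + 1)) ↔
        φ c = D := by
    intro c hc D hD
    have hDend : ∀ i : Fin n, i.val + 1 = n → i ∈ D := by
      simpa [endSets] using hD
    constructor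
    · intro h
      ext d
      rw [hφ]
      constructor
      · rintro (h' | h')
        · rw [h] at h'
          obtain ⟨d', hd', hdd⟩ := Finset.mem_image.mp h'
          have hd'd : d' = d := Fin.ext (by omega)
          rw [← hd'd]
          exact (Finset.mem_filter.mp hd').1
        · exact hDend d h'
      · intro hd
        by_cases hdn : d.val + 1 = n
        · exact Or.inr hdn
        · left
          rw [h]
          exact Finset.mem_image.mpr ⟨d, Finset.mem_filter.mpr ⟨hd, hdn⟩, rfl⟩
    · intro h
      subst h
      ext a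
      constructor
      · intro ha
        obtain ⟨b, hb, rfl⟩ := Finset.mem_image.mp ha
        obtain ⟨h1', h2'⟩ := hr c hc b hb
        refine Finset.mem_image.mpr ⟨⟨r b - 1, by omega⟩, Finset.mem_filter.mpr ⟨?_, ?_⟩, ?_⟩
        · refine (hφ c _).mpr (Or.inl ?_)
          have e : r b - 1 + 1 = r b := by omega
          show r b - 1 + 1 ∈ c.image r
          rw [e]
          exact Finset.mem_image_of_mem r hb
        · show r b - 1 + 1 ≠ n
          omega
        · show r b - 1 + 1 = r b
          omega
      · intro ha
        obtain ⟨d, hd, rfl⟩ := Finset.mem_image.mp ha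
        obtain ⟨hd1, hd2⟩ := Finset.mem_filter.mp hd
        rcases (hφ c d).mp hd1 with h' | h'
        · exact h'
        · exact absurd h' hd2
  have h3 : ∀ c ∈ C, (φ c).card = c.card + 1 := by
    intro c hc
    have hsplit : φ c = Finset.univ.filter (fun d : Fin n => d.val + 1 ∈ c.image r) ∪
        Finset.univ.filter (fun d : Fin n => d.val + 1 = n) := by
      ext d
      rw [hφ, Finset.mem_union, Finset.mem_filter, Finset.mem_filter]
      simp
    have hdisj : Disjoint (Finset.univ.filter (fun d : Fin n => d.val + 1 ∈ c.image r))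
        (Finset.univ.filter (fun d : Fin n => d.val + 1 = n)) := by
      rw [Finset.disjoint_filter]
      intro d _ hd hdn
      obtain ⟨b, hb, hbd⟩ := Finset.mem_image.mp hd
      have := (hr c hc b hb).2
      omega
    have hB : (Finset.univ.filter (fun d : Fin n => d.val + 1 = n)).card = 1 := by
      rw [Finset.card_eq_one]
      refine ⟨⟨n - 1, by omega⟩, ?_⟩
      ext d
      rw [Finset.mem_filter, Finset.mem_singleton]
      constructor
      · rintro ⟨-, hd⟩
        exact Fin.ext (by show d.val = n - 1; omega)
      · intro hd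
        refine ⟨Finset.mem_univ _, ?_⟩
        rw [hd]
        show n - 1 + 1 = n
        omega
    have hA : (Finset.univ.filter (fun d : Fin n => d.val + 1 ∈ c.image r)).card = c.card := by
      have himg : (Finset.univ.filter (fun d : Fin n => d.val + 1 ∈ c.image r)).image
          (fun d : Fin n => d.val + 1) = c.image r := by
        ext a
        constructor
        · intro ha
          obtain ⟨d, hd, rfl⟩ := Finset.mem_image.mp ha
          exact (Finset.mem_filter.mp hd).2
        · intro ha
          obtain ⟨b, hb, rfl⟩ := Finset.mem_image.mp ha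
          obtain ⟨h1', h2'⟩ := hr c hc b hb
          have e : r b - 1 + 1 = r b := by omega
          refine Finset.mem_image.mpr ⟨⟨r b - 1, by omega⟩, Finset.mem_filter.mpr
            ⟨Finset.mem_univ _, ?_⟩, e⟩
          show r b - 1 + 1 ∈ c.image r
          rw [e]
          exact Finset.mem_image_of_mem r hb
      have hinj' : Function.Injective (fun d : Fin n => d.val + 1) := by
        intro d d' hdd
        exact Fin.ext (by simpa using hdd)
      rw [← Finset.card_image_of_injective _ hinj', himg,
        Finset.card_image_of_injOn (hinj c hc)]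
    rw [hsplit, Finset.card_union_of_disjoint hdisj, hA, hB]
  calc ∑ D ∈ endSets n, (-1 : ℤ) ^ (n - D.card) *
        ((C.filter (fun c => c.image r =
          (D.filter (fun d => d.val + 1 ≠ n)).image (fun d : Fin n => d.val + 1))).card : ℤ)
      = ∑ D ∈ endSets n, ∑ c ∈ C.filter (fun c => φ c = D), (-1 : ℤ) ^ (n - (φ c).card) := by
        refine Finset.sum_congr rfl fun D hD => ?_
        have hfil : C.filter (fun c => c.image r =
            (D.filter (fun d => d.val + 1 ≠ n)).image (fun d : Fin n => d.val + 1)) =
            C.filter (fun c => φ c = D) :=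
          Finset.filter_congr (fun c hc => h2 c hc D hD)
        rw [hfil]
        have hconst : ∀ c ∈ C.filter (fun c => φ c = D),
            (-1 : ℤ) ^ (n - (φ c).card) = (-1 : ℤ) ^ (n - D.card) := by
          intro c hc
          rw [(Finset.mem_filter.mp hc).2]
        rw [Finset.sum_congr rfl hconst, Finset.sum_const, nsmul_eq_mul, mul_comm]
    _ = ∑ c ∈ C, (-1 : ℤ) ^ (n - (φ c).card) :=
        Finset.sum_fiberwise_of_maps_to h1 _
    _ = (-1 : ℤ) ^ n * ∑ c ∈ C, (-1 : ℤ) ^ (c.card + 1) := by
        rw [Finset.mul_sum]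
        refine Finset.sum_congr rfl fun c hc => ?_
        have hle : c.card + 1 ≤ n := by
          have hcu := Finset.card_le_univ (φ c)
          rw [h3 c hc, Fintype.card_fin] at hcu
          exact hcu
        rw [h3 c hc]
        obtain ⟨j, rfl⟩ := Nat.exists_eq_add_of_le hle
        have hsq : ((-1 : ℤ) ^ (c.card + 1)) * ((-1 : ℤ) ^ (c.card + 1)) = 1 := by
          rw [← mul_pow]; norm_num
        rw [Nat.add_sub_cancel_left, pow_add]
        linear_combination (-(-1 : ℤ) ^ j) * hsq

/-- SUMD (M). -/
theorem sum_chains_by_dims {F : Type*} [Field F] [Finite F] {n : ℕ} (hn : 0 < n) (x : GL (Fin n) F) :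
    (∑ D ∈ endSets n, (-1 : ℤ) ^ (n - D.card) * (Nat.card (dimChains x D) : ℤ)) =
    (-1 : ℤ) ^ n * ∑ᶠ c ∈ chainsOO (Module.End.invtSubmodule (Matrix.toLin' (x : Matrix (Fin n) (Fin n) F))),
      (-1 : ℤ) ^ (c.card + 1) := by
  classical
  have hfinS : Finite (Submodule F (Fin n → F)) :=
    Finite.of_injective (fun p : Submodule F (Fin n → F) => (p : Set (Fin n → F)))
      SetLike.coe_injective
  have hfinL : Finite (Module.End.invtSubmodule (Matrix.toLin' (x : Matrix (Fin n) (Fin n) F))) :=
    Subtype.finite
  letI : Fintype (Module.End.invtSubmodule (Matrix.toLin' (x : Matrix (Fin n) (Fin n) F))) :=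
    Fintype.ofFinite _
  let r : Module.End.invtSubmodule (Matrix.toLin' (x : Matrix (Fin n) (Fin n) F)) → ℕ :=
    fun U => Module.finrank F ((U : Submodule F (Fin n → F)))
  let C : Finset (Finset (Module.End.invtSubmodule
      (Matrix.toLin' (x : Matrix (Fin n) (Fin n) F)))) :=
    Finset.univ.filter (fun c => c ∈ chainsOO _)
  have hC : ∀ c, c ∈ C ↔ c ∈ chainsOO (Module.End.invtSubmodule
      (Matrix.toLin' (x : Matrix (Fin n) (Fin n) F))) := by
    intro c
    simp only [C, Finset.mem_filter, Finset.mem_univ, true_and]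
  have key := h54_sumd_abs hn C r ?_ ?_
  · have hR : ∑ᶠ c ∈ chainsOO (Module.End.invtSubmodule
          (Matrix.toLin' (x : Matrix (Fin n) (Fin n) F))), (-1 : ℤ) ^ (c.card + 1) =
        ∑ c ∈ C, (-1 : ℤ) ^ (c.card + 1) := by
      rw [finsum_mem_eq_finite_toFinset_sum _ (Set.toFinite _)]
      refine Finset.sum_congr ?_ (fun _ _ => rfl)
      ext c
      rw [Set.Finite.mem_toFinset, hC]
    have hLc : ∀ D : Finset (Fin n), (Nat.card (dimChains x D) : ℤ) =
        ((C.filter (fun c => c.image r =
          (D.filter (fun d => d.val + 1 ≠ n)).image (fun d : Fin n => d.val + 1))).card : ℤ) := by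
      intro D
      congr 1
      rw [Nat.card_eq_fintype_card, Fintype.card_subtype]
      congr 1
      ext c
      rw [Finset.mem_filter, Finset.mem_filter, hC]
      simp only [Finset.mem_univ, true_and]
      rfl
    rw [hR, ← key]
    exact Finset.sum_congr rfl (fun D _ => by rw [hLc D])
  · intro c hc a ha b hb hab
    have hch := ((hC c).mp hc).1
    rcases hch.total ha hb with h | h
    · exact Subtype.ext (Submodule.eq_of_le_of_finrank_eq h hab)
    · exact (Subtype.ext (Submodule.eq_of_le_of_finrank_eq h hab.symm)).symm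
  · intro c hc a ha
    obtain ⟨hbot, htop⟩ := ((hC c).mp hc).2 a ha
    constructor
    · have hne : (a : Submodule F (Fin n → F)) ≠ ⊥ := fun h => hbot (Subtype.ext h)
      exact Nat.one_le_iff_ne_zero.mpr (fun h0 => hne (Submodule.finrank_eq_zero.mp h0))
    · have hne : (a : Submodule F (Fin n → F)) ≠ ⊤ := fun h => htop (Subtype.ext h)
      have hlt := Submodule.finrank_lt hne
      rw [Module.finrank_fin_fun] at hlt
      exact hlt

end Cfsg.Agent.Lib.helper45.SV
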