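import Mathlib

set_option autoImplicit false

/-!
# S4245: definitions for the split

`Q p G`: the finite group `G` has a subgroup `A` of `p`-power index which has a cyclic normal
subgroup `B` with `A ⧸ B` cyclic of `2`-power order (exactly the hypotheses of S4245).
-/

namespace Cfsg.Agent.Lib.helper54.MetaIdx

universe u

/-- `G` has a subgroup `A` of `p`-power index with a cyclic normal subgroup `B` such that `A ⧸ B` is
cyclic of order a power of `2`. -/
def Q (p : ℕ) (G : Type u) [Group G] : Prop :=
  ∃ (A : Subgroup G) (B : Subgroup A) (_ : B.Normal), IsCyclic B ∧ IsCyclic (A ⧸ B) ∧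
    (∃ s : ℕ, A.index = p ^ s) ∧ ∃ r : ℕ, Nat.card (A ⧸ B) = 2 ^ r

end Cfsg.Agent.Lib.helper54.MetaIdx
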