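import Mathlib
import Cfsg.Agent.Lib.helper24.S6eDefs
import Cfsg.Agent.Lib.helper6.SLCard

/-! # S6002 piece E1: an element of order `r` in `SL_2(F)` for a prime `r ∣ q² - 1` -/

set_option autoImplicit false

namespace Cfsg.Agent.Lib.helper24

open Matrix Cfsg Cfsg.Geo

/-- E1 (M). Cauchy in SL_2(F). -/
theorem s6_sl2_elt {F : Type*} [Field F] [Fintype F] (r : ℕ) [Fact r.Prime]
    (hdiv : r ∣ Fintype.card F ^ 2 - 1) :
    ∃ A : Matrix (Fin 2) (Fin 2) F, A.det = 1 ∧ A ^ r = 1 ∧ A ≠ 1 := by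
  classical
  have hcard := Cfsg.Agent.Lib.helper6.card_SL (F := F) 2 (by norm_num)
  rw [Fin.prod_univ_two] at hcard
  have hq : 1 < Fintype.card F := Fintype.one_lt_card
  have hcard2 : Nat.card (Matrix.SpecialLinearGroup (Fin 2) F) =
      (Fintype.card F ^ 2 - 1) * Fintype.card F := by
    have h1 : Fintype.card F ^ 2 - Fintype.card F ^ ((1 : Fin 2) : ℕ) =
        (Fintype.card F - 1) * Fintype.card F := by
      simp only [Fin.val_one, pow_one]
      rw [Nat.sub_mul, one_mul, pow_two]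
    have h0 : Fintype.card F ^ 2 - Fintype.card F ^ ((0 : Fin 2) : ℕ) = Fintype.card F ^ 2 - 1 := by
      simp
    rw [h1, h0] at hcard
    have hpos : 0 < Fintype.card F - 1 := by omega
    apply Nat.eq_of_mul_eq_mul_left hpos
    rw [hcard]
    ring
  have hr : r ∣ Nat.card (Matrix.SpecialLinearGroup (Fin 2) F) := by
    rw [hcard2]
    exact Dvd.dvd.mul_right hdiv _
  have : Finite (Matrix.SpecialLinearGroup (Fin 2) F) := Subtype.finite
  obtain ⟨g, hg⟩ := exists_prime_orderOf_dvd_card' r hr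
  refine ⟨(g : Matrix (Fin 2) (Fin 2) F), g.2, ?_, ?_⟩
  · have h1 : g ^ r = 1 := by rw [← hg]; exact pow_orderOf_eq_one g
    have h2 := congrArg (fun s : Matrix.SpecialLinearGroup (Fin 2) F =>
      (s : Matrix (Fin 2) (Fin 2) F)) h1
    simpa using h2
  · intro h
    have hg1 : g = 1 := by
      apply Subtype.ext
      simpa using h
    rw [hg1, orderOf_one] at hg
    exact (Fact.out : r.Prime).one_lt.ne hg

end Cfsg.Agent.Lib.helper24
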