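import Mathlib
import Cfsg.Agent.Lib.helper24.S6eDefs

/-! # S6002 piece E3: trace of an element of order 3 of `SL_2` -/

set_option autoImplicit false

namespace Cfsg.Agent.Lib.helper24

open Matrix Cfsg Cfsg.Geo

/-- Cayley-Hamilton for `2 × 2` matrices of determinant one. -/
theorem helper54_ch2 {F : Type*} [Field F] (A : Matrix (Fin 2) (Fin 2) F) (hdet : A.det = 1) :
    A * A = Matrix.trace A • A - 1 := by
  have hd : A 0 0 * A 1 1 - A 0 1 * A 1 0 = 1 := by rw [← hdet, Matrix.det_fin_two]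
  ext i j
  fin_cases i <;> fin_cases j <;>
    simp [Matrix.mul_apply, Fin.sum_univ_two, Matrix.trace_fin_two] <;>
    first | ring1 | linear_combination (-1 : F) * hd

/-- a scalar matrix of determinant one and of odd order is the identity -/
theorem helper54_scalar_one {F : Type*} [Field F] (A : Matrix (Fin 2) (Fin 2) F) (hdet : A.det = 1)
    (c : F) (hc : A = c • (1 : Matrix (Fin 2) (Fin 2) F)) (k : ℕ) (hk : A ^ (2 * k + 1) = 1) :
    A = 1 := by
  have h1 : c ^ 2 = 1 := by
    rw [hc, Matrix.det_smul, Matrix.det_one] at hdet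
    simpa using hdet
  have h2 : c ^ (2 * k + 1) = 1 := by
    rw [hc, smul_pow, one_pow] at hk
    have := congrFun (congrFun hk 0) 0
    simpa using this
  have h3 : c = 1 := by
    rw [pow_succ, pow_mul, h1, one_pow, one_mul] at h2
    exact h2
  rw [hc, h3, one_smul]

/-- E3 (S). -/
theorem s6_sl2_trace3 {F : Type*} [Field F] (h2 : (2 : F) ≠ 0) (A : Matrix (Fin 2) (Fin 2) F) (hdet : A.det = 1)
    (h3 : A ^ 3 = 1) (h1 : A ≠ 1) : Matrix.trace A = -1 := by
  have hCH := helper54_ch2 A hdet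
  set τ := Matrix.trace A with hτ
  have hA3 : A ^ 3 = (τ ^ 2 - 1) • A - τ • (1 : Matrix (Fin 2) (Fin 2) F) := by
    have e : A ^ 3 = A * A * A := by rw [pow_succ, pow_two]
    rw [e, hCH, sub_mul, smul_mul_assoc, hCH, one_mul]
    module
  rw [h3] at hA3
  have hkey : (τ ^ 2 - 1) • A = (τ + 1) • (1 : Matrix (Fin 2) (Fin 2) F) := by
    have e1 : (τ ^ 2 - 1) • A = ((τ ^ 2 - 1) • A - τ • (1 : Matrix (Fin 2) (Fin 2) F)) +
        τ • (1 : Matrix (Fin 2) (Fin 2) F) := by abel
    rw [e1, ← hA3]; module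
  by_cases hP : τ ^ 2 - 1 = 0
  · rw [hP, zero_smul] at hkey
    have := congrFun (congrFun hkey 0) 0
    simp at this
    linear_combination -this
  · exfalso
    apply h1
    have hc : A = ((τ ^ 2 - 1)⁻¹ * (τ + 1)) • (1 : Matrix (Fin 2) (Fin 2) F) := by
      rw [mul_smul, ← hkey, smul_smul, inv_mul_cancel₀ hP, one_smul]
    exact helper54_scalar_one A hdet _ hc 1 h3

end Cfsg.Agent.Lib.helper24
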