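import Mathlib
import Cfsg.Agent.Lib.helper24.S6eDefs
import Cfsg.Agent.Lib.helper54.S6eE3

/-! # S6002 piece E4: trace of an element of order 5 of `SL_2` -/

set_option autoImplicit false

namespace Cfsg.Agent.Lib.helper24

open Matrix Cfsg Cfsg.Geo

/-- E4 (M). -/
theorem s6_sl2_trace5 {F : Type*} [Field F] (h2 : (2 : F) ≠ 0) (A : Matrix (Fin 2) (Fin 2) F) (hdet : A.det = 1)
    (h5 : A ^ 5 = 1) (h1 : A ≠ 1) : Matrix.trace A ^ 2 + Matrix.trace A - 1 = 0 := by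
  have hCH := helper54_ch2 A hdet
  set τ := Matrix.trace A with hτ
  have hA3 : A * A * A = (τ ^ 2 - 1) • A - τ • (1 : Matrix (Fin 2) (Fin 2) F) := by
    rw [hCH, sub_mul, smul_mul_assoc, hCH, one_mul]
    module
  have hA4 : A * A * A * A = (τ ^ 3 - 2 * τ) • A - (τ ^ 2 - 1) • (1 : Matrix (Fin 2) (Fin 2) F) := by
    rw [hA3, sub_mul, smul_mul_assoc, hCH, smul_mul_assoc, one_mul]
    module
  have hA5 : A * A * A * A * A =
      (τ ^ 4 - 3 * τ ^ 2 + 1) • A - (τ ^ 3 - 2 * τ) • (1 : Matrix (Fin 2) (Fin 2) F) := by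
    rw [hA4, sub_mul, smul_mul_assoc, hCH, smul_mul_assoc, one_mul]
    module
  have e : A ^ 5 = A * A * A * A * A := by simp [pow_succ]
  rw [e, hA5] at h5
  have hkey : (τ ^ 4 - 3 * τ ^ 2 + 1) • A = (τ ^ 3 - 2 * τ + 1) • (1 : Matrix (Fin 2) (Fin 2) F) := by
    have e1 : (τ ^ 4 - 3 * τ ^ 2 + 1) • A = ((τ ^ 4 - 3 * τ ^ 2 + 1) • A -
        (τ ^ 3 - 2 * τ) • (1 : Matrix (Fin 2) (Fin 2) F)) +
        (τ ^ 3 - 2 * τ) • (1 : Matrix (Fin 2) (Fin 2) F) := by abel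
    rw [e1, h5]; module
  by_cases hP : τ ^ 4 - 3 * τ ^ 2 + 1 = 0
  · rw [hP, zero_smul] at hkey
    have hQ := congrFun (congrFun hkey 0) 0
    simp at hQ
    have hfac : (τ - 1) * (τ ^ 2 + τ - 1) = 0 := by linear_combination -hQ
    rcases mul_eq_zero.mp hfac with h | h
    · exfalso
      have hτ1 : τ = 1 := by linear_combination h
      rw [hτ1] at hP
      norm_num at hP
    · exact h
  · exfalso
    apply h1
    have hc : A = ((τ ^ 4 - 3 * τ ^ 2 + 1)⁻¹ * (τ ^ 3 - 2 * τ + 1)) •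
        (1 : Matrix (Fin 2) (Fin 2) F) := by
      rw [mul_smul, ← hkey, smul_smul, inv_mul_cancel₀ hP, one_smul]
    have e5 : A ^ (2 * 2 + 1) = 1 := by
      rw [e, hA5]; exact h5
    exact helper54_scalar_one A hdet _ hc 2 e5

end Cfsg.Agent.Lib.helper24
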