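import Mathlib
import Cfsg.Prelude.Def_Local
import Cfsg.Agent.Lib.helper54.AxB
import Cfsg.Agent.Lib.helper54.SylowAux
import Cfsg.Agent.Lib.helper54.FStarQuot
import Cfsg.Agent.Lib.helper60.HallHigman
import Cfsg.Agent.Lib.helper27.FStar
import Cfsg.Agent.Lib.helper70.Fpf
import Cfsg.Agent.Lib.helper82.PrimeCod
import Cfsg.Agent.Lib.helper59.UniqueOrderP
import Cfsg.Agent.Lib.helper59.PairOrderP
import Cfsg.Agent.Lib.helper55.CyclicSylow
import Cfsg.Agent.Lib.helper1.Fpf
import Cfsg.Agent.Lib.helper1.Hall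
import Cfsg.Agent.Lib.helper1.Coprime
import Cfsg.Agent.Lib.helper52.PReduced
import Cfsg.Agent.Lib.helper53.FrattiniEA
import Cfsg.Agent.Lib.helper53.PCore
import Cfsg.Agent.Lib.helper40.Cores
import Cfsg.Agent.Lib.helper27.Radical

/-!
Solvable groups with trivial odd core in which involution centralizers have normal
2-complements: no odd-order element commutes with a 2-element; consequences for the
quotient by `O_2`.
-/

set_option autoImplicit false
set_option linter.style.haveILetI false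

namespace Cfsg.Agent.Lib.helper54

open Cfsg

/-- No nontrivial element of odd order commutes with a nontrivial `2`-element. -/
def OddTwoFree (G : Type*) [Group G] : Prop :=
  ∀ x s : G, Odd (orderOf x) → s ≠ 1 → (∃ k : ℕ, s ^ (2 ^ k) = 1) → x * s = s * x → x = 1

theorem eq_one_of_odd_of_two_pow {G : Type*} [Group G] {g : G} (h1 : Odd (orderOf g)) {k : ℕ}
    (h2 : g ^ (2 ^ k) = 1) : g = 1 := by
  have hd : orderOf g ∣ 2 ^ k := orderOf_dvd_of_pow_eq_one h2
  have hc : (orderOf g).Coprime (2 ^ k) := (Nat.coprime_two_right.mpr h1).pow_right k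
  exact orderOf_eq_one_iff.mp (hc.eq_one_of_dvd hd)

theorem exists_pow_orderOf_eq_two {G : Type*} [Group G] {s : G} (hs : s ≠ 1) {k : ℕ}
    (hk : s ^ (2 ^ k) = 1) : ∃ i : ℕ, orderOf (s ^ i) = 2 := by
  obtain ⟨j, hjk, hj⟩ := (Nat.dvd_prime_pow Nat.prime_two).mp (orderOf_dvd_of_pow_eq_one hk)
  have hj0 : j ≠ 0 := by
    rintro rfl
    rw [pow_zero, orderOf_eq_one_iff] at hj
    exact hs hj
  obtain ⟨i, rfl⟩ := Nat.exists_eq_succ_of_ne_zero hj0
  refine ⟨2 ^ i, ?_⟩
  haveI : Fact (Nat.Prime 2) := ⟨Nat.prime_two⟩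
  apply orderOf_eq_prime
  · rw [← pow_mul, ← pow_succ, ← hj]; exact pow_orderOf_eq_one s
  · intro h
    have h1 := orderOf_dvd_of_pow_eq_one h
    rw [hj] at h1
    have h2 := Nat.le_of_dvd (by positivity) h1
    rw [pow_succ] at h2
    have : 0 < 2 ^ i := by positivity
    omega

theorem oddTwoFree_of_centralizers {H : Type*} [Group H] [Finite H] (hsol : Group.IsSolvable H)
    (hO : Cfsg.pPrimeCore 2 H = ⊥)
    (hI : ∀ t : H, orderOf t = 2 →
      Cfsg.HasNormalPComplement 2 ↥(Subgroup.centralizer ({t} : Set H))) :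
    OddTwoFree H := by
  haveI : Fact (Nat.Prime 2) := ⟨Nat.prime_two⟩
  haveI := hsol
  intro x s hx hs1 ⟨k, hk⟩ hxs
  obtain ⟨i, hi⟩ := exists_pow_orderOf_eq_two hs1 hk
  set t := s ^ i with ht
  have hxt : x * t = t * x := (Commute.pow_right (show Commute x s from hxs) i).eq
  have hIt := hI t hi
  set C := Subgroup.centralizer ({t} : Set H) with hC
  obtain ⟨S, K, hKn, hKS⟩ := hIt
  haveI := hKn
  have hxC : x ∈ C := Subgroup.mem_centralizer_singleton_iff.mpr hxt
  have hKidx : K.index = Nat.card ↥(S : Subgroup ↥C) := hKS.symm.index_eq_card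
  obtain ⟨m, hm⟩ := (IsPGroup.iff_card.mp S.isPGroup')
  have hxK : (⟨x, hxC⟩ : ↥C) ∈ K := by
    have h1 : (⟨x, hxC⟩ : ↥C) ^ K.index ∈ K := Subgroup.pow_index_mem K _
    have h2 : (K.index).Coprime (orderOf (⟨x, hxC⟩ : ↥C)) := by
      rw [hKidx, hm, Subgroup.orderOf_mk]
      exact ((Nat.coprime_two_right.mpr hx).pow_right m).symm
    obtain ⟨n, hn⟩ := exists_pow_eq_self_of_coprime h2
    rw [← hn]
    exact pow_mem h1 n
  have hKodd : Odd (Nat.card ↥K) := by
    have h1 : (S : Subgroup ↥C).index = Nat.card ↥K := hKS.index_eq_card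
    have h2 : ¬ 2 ∣ (S : Subgroup ↥C).index := S.not_dvd_index
    rw [h1] at h2
    exact Nat.odd_iff.mpr (by omega)
  set Y := Cfsg.pCore 2 H with hY
  haveI hYn : Y.Normal := Cfsg.Agent.Lib.helper53.pCore_normal 2 H
  have hYp : IsPGroup 2 Y := Cfsg.Agent.Lib.helper53.pCore_isPGroup 2 H
  have hcen : ∀ q ∈ Y, (∀ r ∈ Subgroup.zpowers t, r * q = q * r) → x * q = q * x := by
    intro q hq hqr
    have hqC : q ∈ C :=
      Subgroup.mem_centralizer_singleton_iff.mpr (hqr t (Subgroup.mem_zpowers t)).symm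
    have hc1 : (⟨x, hxC⟩ : ↥C) * (⟨q, hqC⟩ * (⟨x, hxC⟩ : ↥C)⁻¹ * (⟨q, hqC⟩ : ↥C)⁻¹) ∈ K :=
      K.mul_mem hxK (hKn.conj_mem _ (K.inv_mem hxK) _)
    have hc2 : x * q * x⁻¹ * q⁻¹ ∈ Y := Y.mul_mem (hYn.conj_mem q hq x) (Y.inv_mem hq)
    have hcodd : Odd (orderOf (x * q * x⁻¹ * q⁻¹)) := by
      have h1 := hKodd.of_dvd_nat (Subgroup.orderOf_dvd_natCard K hc1)
      rw [← Subgroup.orderOf_coe] at h1
      have h2 : (((⟨x, hxC⟩ : ↥C) * (⟨q, hqC⟩ * (⟨x, hxC⟩ : ↥C)⁻¹ * (⟨q, hqC⟩ : ↥C)⁻¹) : ↥C) : H)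
          = x * q * x⁻¹ * q⁻¹ := by
        simp [mul_assoc]
      rw [h2] at h1
      exact h1
    obtain ⟨j, hj⟩ := hYp ⟨_, hc2⟩
    have hj' : (x * q * x⁻¹ * q⁻¹) ^ (2 ^ j) = 1 := by
      have := congrArg Subtype.val hj
      simpa using this
    have h1 := eq_one_of_odd_of_two_pow hcodd hj'
    calc x * q = (x * q * x⁻¹ * q⁻¹) * (q * x) := by group
      _ = q * x := by rw [h1, one_mul]
  have hall : ∀ q ∈ Y, x * q = q * x := by
    refine thompson_AxB (p := 2) (Subgroup.zpowers t) ?_ x ?_ ?_ Y hYp ?_ ?_ hcen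
    · refine IsPGroup.of_card (n := 1) ?_
      rw [Nat.card_zpowers, hi, pow_one]
    · exact Nat.coprime_two_right.mpr hx
    · intro r hr
      obtain ⟨z, rfl⟩ := Subgroup.mem_zpowers_iff.mp hr
      exact ((Commute.zpow_right (show Commute x t from hxt) z)).eq
    · rw [Subgroup.normalizer_eq_top]; exact le_top
    · rw [Subgroup.normalizer_eq_top]; exact Subgroup.mem_top x
  have hxcent : x ∈ Subgroup.centralizer (Y : Set H) :=
    Subgroup.mem_centralizer_iff.mpr (fun q hq => (hall q hq).symm)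
  have hxY : x ∈ Y := Cfsg.Agent.Lib.helper60.centralizer_pCore_le 2 hO hxcent
  obtain ⟨j, hj⟩ := hYp ⟨x, hxY⟩
  have hj' : x ^ (2 ^ j) = 1 := by
    have := congrArg Subtype.val hj
    simpa using this
  exact eq_one_of_odd_of_two_pow hx hj'

theorem exists_odd_lift {G G' : Type*} [Group G] [Group G'] [Finite G] (f : G →* G')
    (hf : Function.Surjective f) (y : G') (hy : Odd (orderOf y)) :
    ∃ x : G, f x = y ∧ Odd (orderOf x) := by
  obtain ⟨x₀, rfl⟩ := hf y
  obtain ⟨a, b, hb, hn⟩ := Nat.exists_eq_two_pow_mul_odd (orderOf_pos x₀).ne'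
  have hmpos : 0 < orderOf (f x₀) := hy.pos
  have h1 : (2 ^ Nat.totient (orderOf (f x₀))) ^ a ≡ 1 [MOD orderOf (f x₀)] := by
    have := (Nat.ModEq.pow_totient (Nat.coprime_two_left.mpr hy)).pow a
    simpa using this
  have h2 : 2 ^ a ∣ (2 ^ Nat.totient (orderOf (f x₀))) ^ a := by
    apply pow_dvd_pow_of_dvd
    exact dvd_pow_self 2 (Nat.totient_pos.mpr hmpos).ne'
  refine ⟨x₀ ^ ((2 ^ Nat.totient (orderOf (f x₀))) ^ a), ?_, ?_⟩
  · rw [map_pow]
    have : (f x₀) ^ ((2 ^ Nat.totient (orderOf (f x₀))) ^ a) = (f x₀) ^ 1 :=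
      pow_eq_pow_iff_modEq.mpr h1
    rw [this, pow_one]
  · apply hb.of_dvd_nat
    apply orderOf_dvd_of_pow_eq_one
    obtain ⟨c, hc⟩ := h2
    rw [← pow_mul, hc, show 2 ^ a * c * b = (2 ^ a * b) * c by ring, ← hn, pow_mul,
      pow_orderOf_eq_one, one_pow]

theorem OddTwoFree.quotient {H : Type*} [Group H] [Finite H] (h : OddTwoFree H)
    (Y : Subgroup H) [Y.Normal] (hY : IsPGroup 2 Y) : OddTwoFree (H ⧸ Y) := by
  haveI : Fact (Nat.Prime 2) := ⟨Nat.prime_two⟩
  intro xb sb hxb hsb1 ⟨k, hk⟩ hcomm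
  obtain ⟨x, rfl, hx⟩ :=
    exists_odd_lift (QuotientGroup.mk' Y) (QuotientGroup.mk'_surjective Y) xb hxb
  obtain ⟨s₀, rfl⟩ := QuotientGroup.mk'_surjective Y sb
  obtain ⟨m, hm⟩ := IsPGroup.iff_card.mp hY
  have hcop : (Nat.card ↥(Subgroup.zpowers x)).Coprime (Nat.card ↥Y) := by
    rw [Nat.card_zpowers, hm]
    exact (Nat.coprime_two_right.mpr hx).pow_right m
  have hsolv : Group.IsSolvable ↥(Subgroup.zpowers x) ∨ Group.IsSolvable ↥Y := by
    haveI := hY.isNilpotent
    exact Or.inr inferInstance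
  have hg : ∀ a ∈ Subgroup.zpowers x, a * s₀ * a⁻¹ * s₀⁻¹ ∈ Y := by
    intro a ha
    obtain ⟨z, rfl⟩ := Subgroup.mem_zpowers_iff.mp ha
    rw [← QuotientGroup.eq_one_iff]
    have hc : Commute ((QuotientGroup.mk' Y x) ^ z) (QuotientGroup.mk' Y s₀) :=
      Commute.zpow_left (show Commute (QuotientGroup.mk' Y x) (QuotientGroup.mk' Y s₀) from hcomm) z
    have h1 : ((x ^ z * s₀ * (x ^ z)⁻¹ * s₀⁻¹ : H) : H ⧸ Y)
        = (QuotientGroup.mk' Y x) ^ z * (QuotientGroup.mk' Y s₀) * ((QuotientGroup.mk' Y x) ^ z)⁻¹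
          * (QuotientGroup.mk' Y s₀)⁻¹ := by
      simp
    rw [h1, hc.eq, mul_assoc (QuotientGroup.mk' Y s₀), mul_inv_cancel, mul_one, mul_inv_cancel]
  obtain ⟨c, hc, hcs⟩ := Cfsg.Agent.Lib.helper1.coset_fixed (Subgroup.zpowers x) Y
    (by rw [Subgroup.normalizer_eq_top]; exact le_top) hcop hsolv s₀ hg
  have hcx : x * c = c * x := Subgroup.mem_centralizer_iff.mp hc x (Subgroup.mem_zpowers x)
  have hmk : (QuotientGroup.mk' Y c) = QuotientGroup.mk' Y s₀ := by
    have h1 : (QuotientGroup.mk' Y (c * s₀⁻¹)) = 1 := (QuotientGroup.eq_one_iff _).mpr hcs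
    rw [map_mul, map_inv, mul_inv_eq_one] at h1
    exact h1
  have hc1 : c ≠ 1 := by
    rintro rfl
    rw [map_one] at hmk
    exact hsb1 hmk.symm
  have hck : c ^ (2 ^ k) ∈ Y := by
    rw [← QuotientGroup.eq_one_iff]
    have h1 : ((c ^ (2 ^ k) : H) : H ⧸ Y) = (QuotientGroup.mk' Y c) ^ (2 ^ k) := by simp
    rw [h1, hmk]; exact hk
  obtain ⟨j, hj⟩ := hY ⟨_, hck⟩
  have hj' : c ^ (2 ^ (k + j)) = 1 := by
    have h1 := congrArg Subtype.val hj
    rw [pow_add, pow_mul]
    simpa using h1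
  have hx1 := h x c hx hc1 ⟨k + j, hj'⟩ hcx
  rw [hx1, map_one]

theorem isCyclic_of_oddTwoFree {H : Type*} [Group H] [Finite H] (h : OddTwoFree H)
    (Y : Subgroup H) [Y.Normal] (hY : IsPGroup 2 Y)
    (hcent : Subgroup.centralizer (Y : Set H) ≤ Y)
    (A : Subgroup H) (hodd : Odd (Nat.card ↥A)) (hA : ∀ a ∈ A, ∀ b ∈ A, a * b = b * a) :
    IsCyclic ↥A := by
  haveI : Fact (Nat.Prime 2) := ⟨Nat.prime_two⟩
  by_cases hYb : Y = ⊥
  · haveI : Subsingleton H := by
      have key : ∀ g : H, g = 1 := by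
        intro g
        have hg : g ∈ Subgroup.centralizer (Y : Set H) := by
          rw [Subgroup.mem_centralizer_iff]
          intro y hy
          have hy' : y ∈ Y := hy
          rw [hYb, Subgroup.mem_bot] at hy'
          rw [hy', one_mul, mul_one]
        have h1 := hcent hg
        rw [hYb, Subgroup.mem_bot] at h1
        exact h1
      exact ⟨fun a b => by rw [key a, key b]⟩
    exact isCyclic_of_subsingleton
  · set V := Y ⊓ Subgroup.centralizer (Y : Set H) with hV
    haveI hVn : V.Normal := inferInstance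
    obtain ⟨y, hyY, hy2, hyc⟩ := exists_central_orderOf_eq_prime hY hYb
    have hVne : V ≠ ⊥ := by
      intro hVb
      have hyV : y ∈ V := ⟨hyY, Subgroup.mem_centralizer_iff.mpr (fun s hs => hyc s hs)⟩
      rw [hVb, Subgroup.mem_bot] at hyV
      rw [hyV, orderOf_one] at hy2
      omega
    have hVc : ∀ a ∈ V, ∀ b ∈ V, a * b = b * a := by
      intro a ha b hb
      exact (Subgroup.mem_centralizer_iff.mp hb.2 a ha.1)
    refine Cfsg.Agent.Lib.helper1.fpf_abelian_cyclic A V hVc hVne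
      (by rw [Subgroup.normalizer_eq_top]; exact le_top) ?_ hA
    intro a ha ha1 w hw hfix
    by_contra hw1
    apply ha1
    obtain ⟨j, hj⟩ := hY ⟨w, hw.1⟩
    have hj' : w ^ (2 ^ j) = 1 := by
      have h1 := congrArg Subtype.val hj
      simpa using h1
    refine h a w (hodd.of_dvd_nat (Subgroup.orderOf_dvd_natCard A ha)) hw1 ⟨j, hj'⟩ ?_
    calc a * w = a * w * a⁻¹ * a := by group
      _ = w * a := by rw [hfix]

theorem isCyclic_quotient_of_oddTwoFree {H : Type*} [Group H] [Finite H] (h : OddTwoFree H)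
    (Y : Subgroup H) [Y.Normal] (hY : IsPGroup 2 Y)
    (hcent : Subgroup.centralizer (Y : Set H) ≤ Y)
    (A : Subgroup (H ⧸ Y)) (hodd : Odd (Nat.card ↥A)) (hA : ∀ a ∈ A, ∀ b ∈ A, a * b = b * a) :
    IsCyclic ↥A := by
  haveI : Fact (Nat.Prime 2) := ⟨Nat.prime_two⟩
  set D := A.comap (QuotientGroup.mk' Y) with hD
  have hcardD : Nat.card ↥D = Nat.card ↥Y * Nat.card ↥A := by
    rw [hD, Cfsg.Agent.Lib.helper1.card_comap_mk', mul_comm]
  have hYD : Y ≤ D := by
    intro y hy
    rw [hD, Subgroup.mem_comap]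
    have h1 : QuotientGroup.mk' Y y = 1 := (QuotientGroup.eq_one_iff y).mpr hy
    rw [h1]; exact A.one_mem
  obtain ⟨m, hm⟩ := IsPGroup.iff_card.mp hY
  have hcop : (Nat.card ↥Y).Coprime (Nat.card ↥A) := by
    rw [hm]; exact (Nat.coprime_two_left.mpr hodd).pow_left m
  obtain ⟨B, hBD, hYB, hsup, hcardB⟩ :=
    Cfsg.Agent.Lib.helper1.exists_complement_of_coprime Y D hYD
      (by rw [Subgroup.normalizer_eq_top]; exact le_top) (Nat.card ↥A) hcardD hcop
  have hBab : ∀ a ∈ B, ∀ b ∈ B, a * b = b * a := by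
    intro a ha b hb
    have h1 : QuotientGroup.mk' Y (a * b) = QuotientGroup.mk' Y (b * a) := by
      rw [map_mul, map_mul]
      exact hA _ (hBD ha) _ (hBD hb)
    have h2 : (b * a)⁻¹ * (a * b) ∈ Y := by
      rw [← QuotientGroup.eq_one_iff]
      have h3 : (((b * a)⁻¹ * (a * b) : H) : H ⧸ Y)
          = (QuotientGroup.mk' Y (b * a))⁻¹ * QuotientGroup.mk' Y (a * b) := by simp
      rw [h3, h1, inv_mul_cancel]
    have h3 : (b * a)⁻¹ * (a * b) ∈ Y ⊓ B :=
      ⟨h2, B.mul_mem (B.inv_mem (B.mul_mem hb ha)) (B.mul_mem ha hb)⟩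
    rw [hYB, Subgroup.mem_bot, inv_mul_eq_one] at h3
    exact h3.symm
  haveI hBc : IsCyclic ↥B := isCyclic_of_oddTwoFree h Y hY hcent B (hcardB ▸ hodd) hBab
  have hmap : B.map (QuotientGroup.mk' Y) = A := by
    apply Subgroup.eq_of_le_of_card_ge
    · rintro _ ⟨b, hb, rfl⟩
      exact hBD hb
    · rw [Cfsg.Agent.Lib.helper1.card_map_of_disjoint_ker _ _
        (by rw [QuotientGroup.ker_mk', inf_comm]; exact hYB), hcardB]
  rw [← hmap]
  exact isCyclic_of_surjective ((QuotientGroup.mk' Y).subgroupMap B)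
    (MonoidHom.subgroupMap_surjective _ _)

theorem isCyclic_of_isCyclic_map {G G' : Type*} [Group G] [Group G'] (f : G →* G')
    (hf : Function.Injective f) (A : Subgroup G) (h : IsCyclic ↥(A.map f)) : IsCyclic ↥A := by
  haveI := h
  exact isCyclic_of_surjective (A.equivMapOfInjective f hf).symm
    (A.equivMapOfInjective f hf).symm.surjective

theorem isCyclic_of_forall_abelian_isCyclic {P : Type*} [Group P] [Finite P] {p : ℕ}
    [Fact p.Prime] (hodd : Odd (Nat.card P)) (hP : IsPGroup p P)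
    (hcyc : ∀ A : Subgroup P, (∀ a ∈ A, ∀ b ∈ A, a * b = b * a) → IsCyclic ↥A) :
    IsCyclic P := by
  have hp : p.Prime := Fact.out
  by_cases hp2 : p = 2
  · subst hp2
    obtain ⟨n, hn⟩ := IsPGroup.iff_card.mp hP
    have hn0 : n = 0 := by
      by_contra hne
      rw [hn] at hodd
      exact (Nat.not_even_iff_odd.mpr hodd) ((Nat.even_pow' hne).mpr even_two)
    rw [hn0, pow_zero] at hn
    haveI : Subsingleton P := (Nat.card_eq_one_iff_unique.mp hn).1
    exact isCyclic_of_subsingleton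
  · refine Cfsg.Agent.Lib.helper59.isCyclic_of_odd_of_uniqueOrderP hp2 (Nat.card P) P rfl hP ?_
    by_contra hU
    obtain ⟨t, z, ht, hz, hzc, htz⟩ :=
      Cfsg.Agent.Lib.helper59.exists_commuting_pair_of_not_uniqueOrderP hP hU
    set K := Subgroup.zpowers t ⊔ Subgroup.zpowers z with hK
    have htz' : t * z = z * t := (Subgroup.mem_center_iff.mp hzc t)
    have h1 : ∀ y ∈ K, y * t = t * y ∧ y * z = z * y := by
      have h2 : K ≤ Subgroup.centralizer ({t} : Set P) ⊓ Subgroup.centralizer ({z} : Set P) := by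
        rw [hK]
        refine sup_le ?_ ?_
        · rw [Subgroup.zpowers_le]
          exact ⟨Subgroup.mem_centralizer_singleton_iff.mpr rfl,
            Subgroup.mem_centralizer_singleton_iff.mpr htz'⟩
        · rw [Subgroup.zpowers_le]
          exact ⟨Subgroup.mem_centralizer_singleton_iff.mpr htz'.symm,
            Subgroup.mem_centralizer_singleton_iff.mpr rfl⟩
      intro y hy
      have h3 := h2 hy
      exact ⟨Subgroup.mem_centralizer_singleton_iff.mp h3.1,
        Subgroup.mem_centralizer_singleton_iff.mp h3.2⟩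
    have hKab : ∀ a ∈ K, ∀ b ∈ K, a * b = b * a := by
      intro a ha b hb
      have h2 : K ≤ Subgroup.centralizer ({a} : Set P) := by
        rw [hK]
        refine sup_le ?_ ?_
        · rw [Subgroup.zpowers_le]
          exact Subgroup.mem_centralizer_singleton_iff.mpr (h1 a ha).1.symm
        · rw [Subgroup.zpowers_le]
          exact Subgroup.mem_centralizer_singleton_iff.mpr (h1 a ha).2.symm
      exact (Subgroup.mem_centralizer_singleton_iff.mp (h2 hb)).symm
    haveI hKc : IsCyclic ↥K := hcyc K hKab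
    have htK : t ∈ K := (le_sup_left : Subgroup.zpowers t ≤ K) (Subgroup.mem_zpowers t)
    have hzK : z ∈ K := (le_sup_right : Subgroup.zpowers z ≤ K) (Subgroup.mem_zpowers z)
    have h3 := Cfsg.Agent.Lib.helper55.mem_zpowers_of_pow_eq_one_of_cyclic (P := ↥K) hp.pos
      (w := ⟨z, hzK⟩) (u := ⟨t, htK⟩) (by rw [Subgroup.orderOf_mk]; exact hz)
      (by apply Subtype.ext; simp only [Subgroup.coe_pow, Subgroup.coe_one]; rw [← ht]; exact pow_orderOf_eq_one t)
    obtain ⟨i, hi⟩ := Subgroup.mem_zpowers_iff.mp h3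
    apply htz
    rw [Subgroup.mem_zpowers_iff]
    refine ⟨i, ?_⟩
    have h4 := congrArg Subtype.val hi
    simpa using h4

theorem isCyclic_quotient_pPrimeCore_two {G : Type*} [Group G] [Finite G] [Group.IsSolvable G]
    (hO2 : Cfsg.pCore 2 G = ⊥) (h : OddTwoFree G)
    (hcyc : ∀ A : Subgroup G, Odd (Nat.card ↥A) → (∀ a ∈ A, ∀ b ∈ A, a * b = b * a) →
      IsCyclic ↥A) :
    (∀ x : G, Odd (orderOf x) → x ∈ Cfsg.pPrimeCore 2 G) ∧
    ∀ _ : (Cfsg.pPrimeCore 2 G).Normal,
      IsCyclic (G ⧸ Cfsg.pPrimeCore 2 G) ∧ IsPGroup 2 (G ⧸ Cfsg.pPrimeCore 2 G) := by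
  haveI : Fact (Nat.Prime 2) := ⟨Nat.prime_two⟩
  have hle : ∀ N : Subgroup G, N.Normal → Odd (Nat.card ↥N) → N ≤ Cfsg.pPrimeCore 2 G :=
    fun N hN hNo => le_sSup (show N ∈ {N : Subgroup G | N.Normal ∧ (Nat.card N).Coprime 2} from
      ⟨hN, Nat.coprime_two_right.mpr hNo⟩)
  have hOodd : Odd (Nat.card ↥(Cfsg.pPrimeCore 2 G)) :=
    Nat.coprime_two_right.mp (Cfsg.Agent.Lib.helper27.pPrimeCore_coprime 2)
  have hF1 : Cfsg.fittingSubgroup G ≤ Cfsg.pPrimeCore 2 G := by
    have h1 := fittingSubgroup_le_pCore_sup_pPrimeCore (X := G) 2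
    rw [hO2, bot_sup_eq] at h1
    exact h1
  set O := Cfsg.pPrimeCore 2 G with hOdef
  haveI hOn : O.Normal := Cfsg.Agent.Lib.helper40.pPrimeCore_normal' 2 G
  have hcent : Subgroup.centralizer (O : Set G) ≤ O := by
    have hF2 : Subgroup.centralizer (Cfsg.fittingSubgroup G : Set G) ≤ Cfsg.fittingSubgroup G :=
      (Cfsg.Agent.Lib.helper27.solvable_le_center_fitting _ le_rfl Subgroup.le_normalizer
        inferInstance).trans inf_le_left
    exact ((Subgroup.centralizer_le hF1).trans hF2).trans hF1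
  by_cases hinv : ∃ s : G, orderOf s = 2
  · obtain ⟨s, hs⟩ := hinv
    have hs1 : s ≠ 1 := by rintro rfl; rw [orderOf_one] at hs; omega
    have hss : s * s = 1 := by rw [← pow_two, ← hs]; exact pow_orderOf_eq_one s
    have hinvert : ∀ u : G, orderOf u = 2 → ∀ a ∈ O, u * a * u⁻¹ = a⁻¹ := by
      intro u hu
      have hu1 : u ≠ 1 := by rintro rfl; rw [orderOf_one] at hu; omega
      have huu : u * u = 1 := by rw [← pow_two, ← hu]; exact pow_orderOf_eq_one u
      refine Cfsg.Agent.Lib.helper70.inverts_of_fpf O u huu (fun a ha => hOn.conj_mem a ha u) ?_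
      intro a ha hfix
      refine h a u (hOodd.of_dvd_nat (Subgroup.orderOf_dvd_natCard O ha)) hu1
        ⟨1, by rw [pow_one, pow_two]; exact huu⟩ ?_
      calc a * u = u * a * u⁻¹ * u := by rw [hfix]
        _ = u * a := by group
    have hOab : ∀ a ∈ O, ∀ b ∈ O, a * b = b * a := by
      intro a ha b hb
      have h1 := hinvert s hs (a * b) (O.mul_mem ha hb)
      have h2 := hinvert s hs a ha
      have h3 := hinvert s hs b hb
      have h4 : s * (a * b) * s⁻¹ = (s * a * s⁻¹) * (s * b * s⁻¹) := by group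
      rw [h4, h2, h3] at h1
      have h5 := congrArg Inv.inv h1
      simp only [mul_inv_rev, inv_inv] at h5
      exact h5.symm
    haveI hOcyc : IsCyclic ↥O := hcyc O hOodd hOab
    have hcomm : commutator G ≤ O :=
      Cfsg.Agent.Lib.helper82.commutator_le_of_cyclic_self_centralizing O
        (fun c hc => hcent (Subgroup.mem_centralizer_iff.mpr (fun x hx => (hc x hx).symm)))
    have hpart1 : ∀ x : G, Odd (orderOf x) → x ∈ O := by
      intro x hx
      set N := (Subgroup.zpowers (QuotientGroup.mk' O x)).comap (QuotientGroup.mk' O) with hNdef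
      have hON : O ≤ N := by
        intro o ho
        rw [hNdef, Subgroup.mem_comap]
        have h1 : QuotientGroup.mk' O o = 1 := (QuotientGroup.eq_one_iff o).mpr ho
        rw [h1]; exact Subgroup.one_mem _
      have hNn : N.Normal := Cfsg.Agent.Lib.helper53.normal_of_commutator_le (hcomm.trans hON)
      have hNodd : Odd (Nat.card ↥N) := by
        rw [hNdef, Cfsg.Agent.Lib.helper1.card_comap_mk', Nat.card_zpowers]
        exact (hx.of_dvd_nat (orderOf_map_dvd _ x)).mul hOodd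
      exact hle N hNn hNodd (by rw [hNdef, Subgroup.mem_comap]; exact Subgroup.mem_zpowers _)
    refine ⟨hpart1, fun hN => ?_⟩
    have hPG : IsPGroup 2 (G ⧸ O) := by
      intro gb
      obtain ⟨g, rfl⟩ := QuotientGroup.mk_surjective gb
      obtain ⟨a, b, hb, hn⟩ := Nat.exists_eq_two_pow_mul_odd (orderOf_pos g).ne'
      refine ⟨a, ?_⟩
      have h1 : Odd (orderOf (g ^ (2 ^ a))) := by
        apply hb.of_dvd_nat
        apply orderOf_dvd_of_pow_eq_one
        rw [← pow_mul, ← hn]; exact pow_orderOf_eq_one g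
      have h2 := hpart1 _ h1
      rw [← QuotientGroup.mk_pow]
      exact (QuotientGroup.eq_one_iff _).mpr h2
    refine ⟨?_, hPG⟩
    have hsO : (s : G ⧸ O) * (s : G ⧸ O) = 1 := by
      rw [← QuotientGroup.mk_mul, hss]; rfl
    apply Cfsg.Agent.Lib.helper1.isCyclic_of_comm_of_card_pow_prime_le
    · intro a b
      obtain ⟨a, rfl⟩ := QuotientGroup.mk_surjective a
      obtain ⟨b, rfl⟩ := QuotientGroup.mk_surjective b
      show (a : G ⧸ O) * (b : G ⧸ O) = (b : G ⧸ O) * (a : G ⧸ O)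
      rw [← QuotientGroup.mk_mul, ← QuotientGroup.mk_mul, QuotientGroup.eq]
      apply hcomm
      rw [commutator_def]
      have h1 := Subgroup.commutator_mem_commutator (Subgroup.mem_top b⁻¹)
        (Subgroup.mem_top a⁻¹) (G := G)
      rw [commutatorElement_def] at h1
      convert h1 using 1
      group
    · intro p hp
      by_cases hp2 : p = 2
      · subst hp2
        have hsub : {a : G ⧸ O | a ^ 2 = 1} ⊆ {1, (s : G ⧸ O)} := by
          intro ab hab
          by_cases hab1 : ab = 1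
          · left; exact hab1
          · right
            obtain ⟨a₀, rfl⟩ := QuotientGroup.mk_surjective ab
            have hab' : (a₀ : G ⧸ O) ^ 2 = 1 := hab
            have ha2 : a₀ ^ 2 ∈ O := by
              rw [← QuotientGroup.eq_one_iff, QuotientGroup.mk_pow]; exact hab'
            have hb'odd : Odd (orderOf (a₀ ^ 2)) :=
              hOodd.of_dvd_nat (Subgroup.orderOf_dvd_natCard O ha2)
            have ha'2 : (a₀ ^ orderOf (a₀ ^ 2)) ^ 2 = 1 := by
              rw [← pow_mul, mul_comm, pow_mul]; exact pow_orderOf_eq_one _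
            have hmk : ((a₀ ^ orderOf (a₀ ^ 2) : G) : G ⧸ O) = (a₀ : G ⧸ O) := by
              obtain ⟨c, hc⟩ := hb'odd
              rw [QuotientGroup.mk_pow, hc, pow_succ, pow_mul, hab', one_pow, one_mul]
            have ha'1 : a₀ ^ orderOf (a₀ ^ 2) ≠ 1 := by
              intro h1
              rw [h1] at hmk
              exact hab1 hmk.symm
            have ha'o : orderOf (a₀ ^ orderOf (a₀ ^ 2)) = 2 := orderOf_eq_prime ha'2 ha'1
            have hcen : a₀ ^ orderOf (a₀ ^ 2) * s ∈ Subgroup.centralizer (O : Set G) := by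
              rw [Subgroup.mem_centralizer_iff]
              intro x hx
              have e1 := hinvert s hs x hx
              have e2 := hinvert _ ha'o x⁻¹ (O.inv_mem hx)
              rw [inv_inv] at e2
              have e3 : (a₀ ^ orderOf (a₀ ^ 2) * s) * x * (a₀ ^ orderOf (a₀ ^ 2) * s)⁻¹ = x := by
                calc (a₀ ^ orderOf (a₀ ^ 2) * s) * x * (a₀ ^ orderOf (a₀ ^ 2) * s)⁻¹
                    = a₀ ^ orderOf (a₀ ^ 2) * (s * x * s⁻¹) * (a₀ ^ orderOf (a₀ ^ 2))⁻¹ := by group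
                  _ = x := by rw [e1, e2]
              calc x * (a₀ ^ orderOf (a₀ ^ 2) * s)
                  = ((a₀ ^ orderOf (a₀ ^ 2) * s) * x * (a₀ ^ orderOf (a₀ ^ 2) * s)⁻¹)
                    * (a₀ ^ orderOf (a₀ ^ 2) * s) := by rw [e3]
                _ = (a₀ ^ orderOf (a₀ ^ 2) * s) * x := by group
            have h2 := hcent hcen
            have h3 : ((a₀ ^ orderOf (a₀ ^ 2) * s : G) : G ⧸ O) = 1 :=
              (QuotientGroup.eq_one_iff _).mpr h2
            rw [QuotientGroup.mk_mul, hmk] at h3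
            show (a₀ : G ⧸ O) = (s : G ⧸ O)
            calc (a₀ : G ⧸ O) = (a₀ : G ⧸ O) * ((s : G ⧸ O) * (s : G ⧸ O)) := by
                  rw [hsO, mul_one]
              _ = (s : G ⧸ O) := by rw [← mul_assoc, h3, one_mul]
        calc Nat.card {a : G ⧸ O // a ^ 2 = 1} = Set.ncard {a : G ⧸ O | a ^ 2 = 1} :=
              Nat.card_coe_set_eq _
          _ ≤ Set.ncard ({1, (s : G ⧸ O)} : Set (G ⧸ O)) :=
              Set.ncard_le_ncard hsub (Set.toFinite _)
          _ ≤ Set.ncard ({(s : G ⧸ O)} : Set (G ⧸ O)) + 1 := Set.ncard_insert_le _ _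
          _ = 2 := by rw [Set.ncard_singleton]
      · have hsub : {a : G ⧸ O | a ^ p = 1} ⊆ {1} := by
          intro ab hab
          obtain ⟨k, hk⟩ := hPG ab
          have hd1 : orderOf ab ∣ p := orderOf_dvd_of_pow_eq_one hab
          have hd2 : orderOf ab ∣ 2 ^ k := orderOf_dvd_of_pow_eq_one hk
          have hcop : Nat.Coprime p (2 ^ k) :=
            ((Nat.coprime_primes hp Nat.prime_two).mpr hp2).pow_right k
          have h1 : orderOf ab = 1 := Nat.eq_one_of_dvd_coprimes hcop hd1 hd2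
          exact orderOf_eq_one_iff.mp h1
        calc Nat.card {a : G ⧸ O // a ^ p = 1} = Set.ncard {a : G ⧸ O | a ^ p = 1} :=
              Nat.card_coe_set_eq _
          _ ≤ Set.ncard ({1} : Set (G ⧸ O)) := Set.ncard_le_ncard hsub (Set.toFinite _)
          _ = 1 := Set.ncard_singleton _
          _ ≤ p := hp.one_lt.le
  · have hGodd : Odd (Nat.card G) := by
      by_contra hne
      rw [Nat.not_odd_iff_even, even_iff_two_dvd] at hne
      obtain ⟨x, hx⟩ := exists_prime_orderOf_dvd_card' 2 hne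
      exact hinv ⟨x, hx⟩
    have htop : ∀ x : G, x ∈ O := by
      intro x
      have h1 : (⊤ : Subgroup G) ≤ O :=
        hle ⊤ inferInstance (by rw [Subgroup.card_top]; exact hGodd)
      exact h1 (Subgroup.mem_top x)
    refine ⟨fun x _ => htop x, fun hN => ?_⟩
    haveI : Subsingleton (G ⧸ O) := by
      refine ⟨fun a b => ?_⟩
      obtain ⟨a, rfl⟩ := QuotientGroup.mk_surjective a
      obtain ⟨b, rfl⟩ := QuotientGroup.mk_surjective b
      rw [(QuotientGroup.eq_one_iff a).mpr (htop a), (QuotientGroup.eq_one_iff b).mpr (htop b)]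
    exact ⟨isCyclic_of_subsingleton, fun g => ⟨0, Subsingleton.elim _ _⟩⟩

end Cfsg.Agent.Lib.helper54
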