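import Mathlib

/-!
Coprime-action lemmas for finite groups (helper54).

* `eq_top_of_sup_commutator_eq_top`: in a finite `p`-group a subgroup which, together with the
  commutator subgroup, generates everything is everything.
* `le_centralizer_of_commutator_mem_of_isPGroup`, `le_centralizer_of_commutator_mem`: a `p'`-group
  `B` normalizing a `p`-subgroup `S` and acting trivially on `S / [S, S]` centralizes `S`.
-/

set_option autoImplicit false

namespace Cfsg.Agent.Lib.helper54

open scoped commutatorElement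

/-- In a finite `p`-group, a subgroup that together with the commutator subgroup generates
everything is everything. -/
theorem eq_top_of_sup_commutator_eq_top {S : Type*} [Group S] [Finite S] {p : ℕ} [Fact p.Prime]
    (hS : IsPGroup p S) {K : Subgroup S} (h : K ⊔ commutator S = ⊤) : K = ⊤ := by
  by_contra hK
  obtain ⟨M, hM, hKM⟩ := (eq_top_or_exists_le_coatom K).resolve_left hK
  have : Group.IsNilpotent S := hS.isNilpotent
  have hMn : M.Normal :=
    Subgroup.NormalizerCondition.normal_of_coatom M Group.normalizerCondition_of_isNilpotent hM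
  have hcomm : commutator S ≤ M := by
    rw [← Subgroup.Normal.quotient_commutative_iff_commutator_le]
    have hQ : IsPGroup p (S ⧸ M) := hS.to_quotient M
    have : Nontrivial (S ⧸ M) := QuotientGroup.nontrivial_iff.mpr hM.1
    have hc : ⊥ < Subgroup.center (S ⧸ M) := hQ.bot_lt_center
    rw [← Subgroup.center_eq_top_iff]
    have hsurj : Function.Surjective (QuotientGroup.mk' M) := QuotientGroup.mk'_surjective M
    have hlt : M < (Subgroup.center (S ⧸ M)).comap (QuotientGroup.mk' M) := by
      refine lt_of_le_of_ne ?_ ?_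
      · intro x hx
        rw [Subgroup.mem_comap]
        have : (QuotientGroup.mk' M) x = 1 := (QuotientGroup.eq_one_iff x).mpr hx
        rw [this]
        exact Subgroup.one_mem _
      · intro hEq
        have h1 : Subgroup.center (S ⧸ M) = ⊥ := by
          have h2 : Subgroup.map (QuotientGroup.mk' M) M = ⊥ := by
            rw [Subgroup.map_eq_bot_iff, QuotientGroup.ker_mk']
          rw [← Subgroup.map_comap_eq_self_of_surjective hsurj (Subgroup.center (S ⧸ M)), ← hEq, h2]
        exact (ne_of_gt hc) h1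
    have htop := hM.2 _ hlt
    rw [← Subgroup.map_comap_eq_self_of_surjective hsurj (Subgroup.center (S ⧸ M)), htop]
    exact Subgroup.map_top_of_surjective _ hsurj
  exact hM.1 (top_le_iff.mp (h ▸ sup_le hKM hcomm))

/-- A `q`-subgroup `Q` normalizing a `p`-subgroup `S` (`p ≠ q`) and acting trivially on
`S / [S, S]` centralizes `S`. -/
theorem le_centralizer_of_commutator_mem_of_isPGroup {G : Type*} [Group G] [Finite G] {p q : ℕ}
    [Fact p.Prime] [Fact q.Prime] (hpq : p ≠ q) (S Q : Subgroup G) (hS : IsPGroup p S)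
    (hQ : IsPGroup q Q) (hn : Q ≤ Subgroup.normalizer (S : Set G))
    (hc : ∀ s ∈ S, ∀ b ∈ Q, ⁅s, b⁆ ∈ ⁅S, S⁆) : S ≤ Subgroup.centralizer (Q : Set G) := by
  have hDS : ⁅S, S⁆ ≤ S := Subgroup.commutator_le_self S
  have key : ∀ x ∈ S, x ∈ ⁅S, S⁆ ⊔ (S ⊓ Subgroup.centralizer (Q : Set G)) := by
    intro x hx
    let α := {y : G // y ∈ S ∧ y * x⁻¹ ∈ ⁅S, S⁆}
    let act : MulAction Q α :=
      { smul := fun b y => ⟨(b : G) * y.1 * (b : G)⁻¹, by
          constructor
          · exact (Subgroup.mem_normalizer_iff.mp (hn b.2) y.1).mp y.2.1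
          · have h1 : (b : G) * y.1 * (b : G)⁻¹ * x⁻¹ = ⁅y.1, (b : G)⁆⁻¹ * (y.1 * x⁻¹) := by
              simp [commutatorElement_def, mul_assoc]
            rw [h1]
            exact Subgroup.mul_mem _ (Subgroup.inv_mem _ (hc y.1 y.2.1 b b.2)) y.2.2⟩
        one_smul := fun y => Subtype.ext (by
          show ((1 : Q) : G) * y.1 * ((1 : Q) : G)⁻¹ = y.1
          simp)
        mul_smul := fun a b y => Subtype.ext (by
          show ((a * b : Q) : G) * y.1 * ((a * b : Q) : G)⁻¹
            = (a : G) * ((b : G) * y.1 * (b : G)⁻¹) * (a : G)⁻¹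
          simp [mul_assoc]) }
    let e : α ≃ (⁅S, S⁆ : Subgroup G) :=
      { toFun := fun y => ⟨y.1 * x⁻¹, y.2.2⟩
        invFun := fun d => ⟨d.1 * x, S.mul_mem (hDS d.2) hx, by simp⟩
        left_inv := fun y => Subtype.ext (by simp)
        right_inv := fun d => Subtype.ext (by simp) }
    have hcard : Nat.card α = Nat.card (⁅S, S⁆ : Subgroup G) := Nat.card_congr e
    have hD : IsPGroup p (⁅S, S⁆ : Subgroup G) := hS.to_le hDS
    obtain ⟨k, hk⟩ := IsPGroup.iff_card.mp hD
    have hnd : ¬ q ∣ Nat.card α := by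
      rw [hcard, hk]
      intro hdiv
      exact hpq ((Nat.prime_dvd_prime_iff_eq Fact.out Fact.out).mp
        (Nat.Prime.dvd_of_dvd_pow Fact.out hdiv)).symm
    obtain ⟨y, hy⟩ := @IsPGroup.nonempty_fixed_point_of_prime_not_dvd_card q Q _ hQ _ α act hnd
    have hyC : y.1 ∈ Subgroup.centralizer (Q : Set G) := by
      rw [Subgroup.mem_centralizer_iff]
      intro b hb
      have h1 := hy ⟨b, hb⟩
      have h2 : b * y.1 * b⁻¹ = y.1 := congrArg Subtype.val h1
      calc b * y.1 = b * y.1 * b⁻¹ * b := by group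
        _ = y.1 * b := by rw [h2]
    have hx' : x = (y.1 * x⁻¹)⁻¹ * y.1 := by group
    rw [hx']
    exact Subgroup.mul_mem _ (Subgroup.mem_sup_left (Subgroup.inv_mem _ y.2.2))
      (Subgroup.mem_sup_right ⟨y.2.1, hyC⟩)
  have htop : (S ⊓ Subgroup.centralizer (Q : Set G)).subgroupOf S ⊔ commutator S = ⊤ := by
    have h1 : commutator S = (⁅S, S⁆).subgroupOf S := by
      rw [← Subgroup.map_subtype_commutator S]
      exact (Subgroup.comap_map_eq_self_of_injective S.subtype_injective _).symm
    rw [h1, ← Subgroup.subgroupOf_sup inf_le_left hDS, sup_comm]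
    exact Subgroup.subgroupOf_eq_top.mpr key
  have h3 := eq_top_of_sup_commutator_eq_top hS htop
  rw [Subgroup.subgroupOf_eq_top] at h3
  exact h3.trans inf_le_right

/-- A subgroup `B` of order prime to `p` normalizing a `p`-subgroup `S` and acting trivially on
`S / [S, S]` centralizes `S`. -/
theorem le_centralizer_of_commutator_mem {G : Type*} [Group G] [Finite G] {p : ℕ}
    [Fact p.Prime] (S B : Subgroup G) (hS : IsPGroup p S)
    (hB : ¬ p ∣ Nat.card B) (hn : B ≤ Subgroup.normalizer (S : Set G))
    (hc : ∀ s ∈ S, ∀ b ∈ B, ⁅s, b⁆ ∈ ⁅S, S⁆) : S ≤ Subgroup.centralizer (B : Set G) := by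
  have hidx : ((B ⊓ Subgroup.centralizer (S : Set G)).subgroupOf B).index = 1 := by
    rw [Nat.eq_one_iff_not_exists_prime_dvd]
    intro q hq hdvd
    have : Fact q.Prime := ⟨hq⟩
    obtain Q' : Sylow q B := default
    have hQ'le : (Q' : Subgroup B) ≤ (B ⊓ Subgroup.centralizer (S : Set G)).subgroupOf B := by
      by_cases hqp : q = p
      · subst hqp
        have hcard : Nat.card (Q' : Subgroup B) = 1 := by
          rw [Sylow.card_eq_multiplicity, Nat.factorization_eq_zero_of_not_dvd hB, pow_zero]
        rw [Subgroup.card_eq_one] at hcard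
        rw [hcard]; exact bot_le
      · have hQ : IsPGroup q ((Q' : Subgroup B).map B.subtype) := Q'.isPGroup'.map _
        have hQB : (Q' : Subgroup B).map B.subtype ≤ B := Subgroup.map_subtype_le _
        have h1 := le_centralizer_of_commutator_mem_of_isPGroup (Ne.symm hqp) S _ hS hQ
          (hQB.trans hn) (fun s hs b hb => hc s hs b (hQB hb))
        have h2 : (Q' : Subgroup B).map B.subtype ≤ Subgroup.centralizer (S : Set G) :=
          Subgroup.le_centralizer_iff.mp h1
        intro x hx
        rw [Subgroup.mem_subgroupOf]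
        exact ⟨x.2, h2 (Subgroup.mem_map_of_mem _ hx)⟩
    exact Q'.not_dvd_index (dvd_trans hdvd (Subgroup.index_dvd_of_le hQ'le))
  have h4 : B ≤ B ⊓ Subgroup.centralizer (S : Set G) :=
    Subgroup.subgroupOf_eq_top.mp (Subgroup.index_eq_one.mp hidx)
  exact Subgroup.le_centralizer_iff.mp (h4.trans inf_le_right)

end Cfsg.Agent.Lib.helper54
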