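import Mathlib
import Cfsg.Agent.Lib.helper1.Coprime
import Cfsg.Agent.Lib.helper15.Maschke
import Cfsg.Agent.Lib.helper3.PGroupFrattini
import Cfsg.Agent.Lib.helper53.FrattiniEA

/-!
Maximal `A`-invariant subgroups under a coprime action.
-/

set_option autoImplicit false
set_option linter.style.haveILetI false

namespace Cfsg.Agent.Lib.helper54

open Pointwise

/-- `L` is invariant under the action of `A`. -/
def ActInv (A : Type*) {G : Type*} [Group A] [Group G] [MulDistribMulAction A G]
    (L : Subgroup G) : Prop :=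
  ∀ a : A, ∀ x ∈ L, a • x ∈ L

/-- `M` is a maximal `A`-invariant subgroup. -/
def ActMaxInv (A : Type*) {G : Type*} [Group A] [Group G] [MulDistribMulAction A G]
    (M : Subgroup G) : Prop :=
  M ≠ ⊤ ∧ (∀ a : A, ∀ x ∈ M, a • x ∈ M) ∧
    ∀ L : Subgroup G, M < L → (∀ a : A, ∀ x ∈ L, a • x ∈ L) → L = ⊤

section

variable {A G : Type*} [Group A] [Group G] [MulDistribMulAction A G]

theorem actInv_of_characteristic (H : Subgroup G) [hH : H.Characteristic] : ActInv A H := by
  intro a x hx
  have h := (Subgroup.characteristic_iff_map_eq.mp hH) (MulDistribMulAction.toMulAut A G a)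
  rw [← h]
  exact ⟨x, hx, rfl⟩

theorem actInv_sup_normal {L N : Subgroup G} [N.Normal] (hL : ActInv A L) (hN : ActInv A N) :
    ActInv A (L ⊔ N) := by
  intro a x hx
  rw [Subgroup.mem_sup_of_normal_right] at hx ⊢
  obtain ⟨y, hy, z, hz, rfl⟩ := hx
  exact ⟨a • y, hL a y hy, a • z, hN a z hz, (smul_mul' a y z).symm⟩

theorem frattini_le_of_actMaxInv [Finite G] {M : Subgroup G} (hM : ActMaxInv A M) :
    frattini G ≤ M := by
  by_contra hle
  have hlt : M < M ⊔ frattini G :=
    lt_of_le_of_ne le_sup_left (fun h => hle (by rw [h]; exact le_sup_right))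
  have htop := hM.2.2 _ hlt (actInv_sup_normal hM.2.1 (actInv_of_characteristic _))
  exact hM.1 (frattini_nongenerating htop)

theorem actMaxInv_iff_of_irred [Finite G]
    (hirr : ∀ L : Subgroup G, frattini G < L → (∀ a : A, ∀ x ∈ L, a • x ∈ L) → L = ⊤)
    (M : Subgroup G) : ActMaxInv A M ↔ (M = frattini G ∧ M ≠ ⊤) := by
  constructor
  · intro hM
    have hle := frattini_le_of_actMaxInv hM
    refine ⟨?_, hM.1⟩
    by_contra hne
    exact hM.1 (hirr M (lt_of_le_of_ne hle (Ne.symm hne)) hM.2.1)
  · rintro ⟨rfl, hne⟩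
    exact ⟨hne, actInv_of_characteristic _, hirr⟩

theorem exists_actMaxInv_ge [Finite G] {L₀ : Subgroup G} (hne : L₀ ≠ ⊤) (hinv : ActInv A L₀) :
    ∃ M : Subgroup G, ActMaxInv A M ∧ L₀ ≤ M := by
  obtain ⟨M, ⟨hM1, hM2, hM3⟩, hmax⟩ := Set.exists_max_image
    {L : Subgroup G | L₀ ≤ L ∧ L ≠ ⊤ ∧ ActInv A L} (fun L => Nat.card L) (Set.toFinite _)
    ⟨L₀, le_rfl, hne, hinv⟩
  refine ⟨M, ⟨hM2, hM3, ?_⟩, hM1⟩
  intro L hML hL
  by_contra hLtop
  have h1 := hmax L ⟨hM1.trans hML.le, hLtop, hL⟩
  exact hML.ne (Subgroup.eq_of_le_of_card_ge hML.le h1)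

/-- Coprime action: invariant Sylow subgroups exist. -/
theorem exists_actInv_sylow [Finite A] [Finite G] (hcop : (Nat.card A).Coprime (Nat.card G))
    (hsol : Group.IsSolvable A ∨ Group.IsSolvable G) (q : ℕ) [Fact q.Prime] :
    ∃ P : Subgroup G, ActInv A P ∧ Nat.card P = q ^ (Nat.card G).factorization q := by
  classical
  let φ : A →* MulAut G := MulDistribMulAction.toMulAut A G
  haveI : Finite (G ⋊[φ] A) := Finite.of_equiv (G × A) SemidirectProduct.equivProd.symm
  let i : G →* G ⋊[φ] A := SemidirectProduct.inl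
  let j : A →* G ⋊[φ] A := SemidirectProduct.inr
  have hi : Function.Injective i := SemidirectProduct.inl_injective
  have hj : Function.Injective j := SemidirectProduct.inr_injective
  haveI hKn : i.range.Normal := by
    have : i.range = (SemidirectProduct.rightHom : G ⋊[φ] A →* A).ker :=
      SemidirectProduct.range_inl_eq_ker_rightHom
    rw [this]; infer_instance
  have hAK : j.range ≤ Subgroup.normalizer (i.range : Set (G ⋊[φ] A)) := by
    rw [Subgroup.normalizer_eq_top_iff.mpr hKn]; exact le_top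
  have hcA : Nat.card j.range = Nat.card A :=
    Nat.card_congr (MonoidHom.ofInjective hj).toEquiv.symm
  have hcG : Nat.card i.range = Nat.card G :=
    Nat.card_congr (MonoidHom.ofInjective hi).toEquiv.symm
  have hcop' : (Nat.card j.range).Coprime (Nat.card i.range) := by rw [hcA, hcG]; exact hcop
  have hsolv : Group.IsSolvable j.range ∨ Group.IsSolvable i.range := by
    rcases hsol with h | h
    · exact Or.inl (Cfsg.Agent.Lib.helper1.isSolvable_of_mulEquiv (MonoidHom.ofInjective hj) h)
    · exact Or.inr (Cfsg.Agent.Lib.helper1.isSolvable_of_mulEquiv (MonoidHom.ofInjective hi) h)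
  obtain ⟨P, hP⟩ := Cfsg.Agent.Lib.helper1.exists_invariant_sylow (p := q) j.range i.range
    hAK hcop' hsolv
  refine ⟨((P : Subgroup i.range).map i.range.subtype).comap i, ?_, ?_⟩
  · intro a x hx
    rw [Subgroup.mem_comap] at hx ⊢
    have h1 : i (a • x) = j a * i x * (j a)⁻¹ := by
      have := SemidirectProduct.inl_aut (φ := φ) a x
      rw [← map_inv j a]
      exact this
    rw [h1]
    have h2 : j a ∈ Subgroup.normalizer
        (((P : Subgroup i.range).map i.range.subtype : Subgroup (G ⋊[φ] A)) : Set (G ⋊[φ] A)) :=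
      hP ⟨a, rfl⟩
    exact (Subgroup.mem_normalizer_iff.mp h2 _).mp hx
  · have h1 : (((P : Subgroup i.range).map i.range.subtype).comap i).map i =
        (P : Subgroup i.range).map i.range.subtype :=
      Subgroup.map_comap_eq_self (Subgroup.map_subtype_le _)
    rw [← Subgroup.card_map_of_injective hi, h1,
      Subgroup.card_map_of_injective (Subgroup.subtype_injective _), Sylow.card_eq_multiplicity,
      hcG]

/-- If all maximal invariant subgroups are conjugate, `G` is a `p`-group. -/
theorem isPGroup_of_actMaxInv_conj [Finite A] [Finite G]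
    (hcop : (Nat.card A).Coprime (Nat.card G))
    (hsol : Group.IsSolvable A ∨ Group.IsSolvable G)
    (hconj : ∀ M N : Subgroup G, ActMaxInv A M → ActMaxInv A N →
      ∃ c : G, (∀ a : A, a • c = c) ∧ N = MulAut.conj c • M) :
    ∃ p : ℕ, p.Prime ∧ IsPGroup p G := by
  by_contra hno
  have hno' : ∀ p : ℕ, p.Prime → ¬ IsPGroup p G := fun p hp h => hno ⟨p, hp, h⟩
  have hpos : Nat.card G ≠ 0 := Nat.card_pos.ne'
  have hcard1 : Nat.card G ≠ 1 := by
    intro h
    exact hno' 2 Nat.prime_two (IsPGroup.of_card (n := 0) (by rw [h, pow_zero]))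
  haveI : Nontrivial G := Finite.one_lt_card_iff_nontrivial.mp (by have := Nat.card_pos (α := G); omega)
  have hbot : ActInv A (⊥ : Subgroup G) := by
    intro a x hx
    rw [Subgroup.mem_bot] at hx ⊢
    rw [hx, smul_one]
  obtain ⟨M₀, hM₀, -⟩ := exists_actMaxInv_ge (A := A) (L₀ := (⊥ : Subgroup G)) bot_ne_top hbot
  have hM₀pos : Nat.card M₀ ≠ 0 := Nat.card_pos.ne'
  have key : ∀ q : ℕ, q.Prime →
      (Nat.card G).factorization q ≤ (Nat.card M₀).factorization q := by
    intro q hq
    haveI := Fact.mk hq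
    obtain ⟨P, hPinv, hPcard⟩ := exists_actInv_sylow (A := A) (G := G) hcop hsol q
    have hPne : P ≠ ⊤ := by
      intro h
      apply hno' q hq
      have : Nat.card G = q ^ (Nat.card G).factorization q := by
        rw [← hPcard, h, Subgroup.card_top]
      exact IsPGroup.of_card this
    obtain ⟨M, hM, hPM⟩ := exists_actMaxInv_ge hPne hPinv
    obtain ⟨c, -, hc⟩ := hconj M₀ M hM₀ hM
    have hcard : Nat.card M = Nat.card M₀ := by
      rw [hc]; exact Cfsg.Agent.Lib.helper1.card_conj_smul c M₀
    have hdvd : q ^ (Nat.card G).factorization q ∣ Nat.card M₀ := by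
      rw [← hPcard, ← hcard]; exact Subgroup.card_dvd_of_le hPM
    exact (hq.pow_dvd_iff_le_factorization hM₀pos).mp hdvd
  have hdvd : Nat.card G ∣ Nat.card M₀ :=
    (Nat.factorization_prime_le_iff_dvd hpos hM₀pos).mp key
  have heq : Nat.card M₀ = Nat.card G :=
    Nat.dvd_antisymm (Subgroup.card_subgroup_dvd_card M₀) hdvd
  exact hM₀.1 ((Subgroup.card_eq_iff_eq_top M₀).mp heq)

end

/-- Complements exist in an elementary abelian group. -/
theorem exists_compl_of_exponent {V : Type*} [CommGroup V] [Finite V] {p : ℕ} (hp : p.Prime)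
    (hexp : ∀ v : V, v ^ p = 1) (U : Subgroup V) :
    ∃ W : Subgroup V, U ⊓ W = ⊥ ∧ U ⊔ W = ⊤ := by
  obtain ⟨W, hW, hmax⟩ := Set.exists_max_image {W : Subgroup V | U ⊓ W = ⊥}
    (fun W => Nat.card W) (Set.toFinite _) ⟨⊥, inf_bot_eq U⟩
  refine ⟨W, hW, ?_⟩
  by_contra htop
  obtain ⟨v, hv⟩ : ∃ v : V, v ∉ U ⊔ W := by
    by_contra h
    push Not at h
    exact htop (eq_top_iff.mpr (fun x _ => h x))
  have hvW : v ∉ W := fun h => hv ((le_sup_right : W ≤ U ⊔ W) h)
  have hW' : U ⊓ (W ⊔ Subgroup.zpowers v) = ⊥ := by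
    rw [eq_bot_iff]
    intro x hx
    have hxU : x ∈ U := hx.1
    have hxW : x ∈ W ⊔ Subgroup.zpowers v := hx.2
    rw [Subgroup.mem_sup] at hxW
    obtain ⟨w, hw, z, hz, rfl⟩ := hxW
    obtain ⟨k, rfl⟩ := Subgroup.mem_zpowers_iff.mp hz
    by_cases hk : (p : ℤ) ∣ k
    · obtain ⟨m, rfl⟩ := hk
      have h1 : v ^ ((p : ℤ) * m) = 1 := by
        rw [zpow_mul, zpow_natCast, hexp, one_zpow]
      rw [h1, mul_one] at hxU ⊢
      have : w ∈ U ⊓ W := ⟨hxU, hw⟩
      rw [hW] at this
      exact this
    · exfalso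
      have hcop : IsCoprime (p : ℤ) k :=
        (Irreducible.coprime_iff_not_dvd (Nat.prime_iff_prime_int.mp hp).irreducible).mpr hk
      obtain ⟨s, t, hst⟩ := hcop
      have hvk : v ^ k ∈ U ⊔ W := by
        have : v ^ k = w⁻¹ * (w * v ^ k) := by group
        rw [this]
        exact Subgroup.mul_mem _ ((le_sup_right : W ≤ U ⊔ W) (W.inv_mem hw))
          ((le_sup_left : U ≤ U ⊔ W) hxU)
      apply hv
      have h2 : v = (v ^ k) ^ t := by
        have h3 : v ^ (s * (p : ℤ) + t * k) = v := by rw [hst, zpow_one]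
        rw [zpow_add, mul_comm s, zpow_mul, zpow_natCast, hexp, one_zpow, one_mul, mul_comm t,
          zpow_mul] at h3
        exact h3.symm
      rw [h2]
      exact Subgroup.zpow_mem _ hvk t
  have h1 := hmax (W ⊔ Subgroup.zpowers v) hW'
  have h2 : W = W ⊔ Subgroup.zpowers v := Subgroup.eq_of_le_of_card_ge le_sup_left h1
  apply hvW
  rw [h2]
  exact (le_sup_right : Subgroup.zpowers v ≤ W ⊔ Subgroup.zpowers v) (Subgroup.mem_zpowers v)

/-- Maschke's theorem for a group given to be commutative of exponent `p`. -/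
theorem maschke_of_comm {V B : Type*} [Group V] [Finite V] [Group B] [Finite B]
    (hc : ∀ x y : V, x * y = y * x) {p : ℕ} (hp : p.Prime) (hexp : ∀ v : V, v ^ p = 1)
    (φ : B →* MulAut V) (hcop : (Nat.card B).Coprime (Nat.card V)) (U : Subgroup V)
    (hU : ∀ a u, u ∈ U → φ a u ∈ U) :
    ∃ W' : Subgroup V, (∀ a w, w ∈ W' → φ a w ∈ W') ∧ U ⊓ W' = ⊥ ∧ U ⊔ W' = ⊤ := by
  letI : CommGroup V := { ‹Group V› with mul_comm := hc }
  obtain ⟨W, h1, h2⟩ := exists_compl_of_exponent hp hexp U
  exact Cfsg.Agent.Lib.helper15.Maschke.comm_case φ hcop U W hU h1 h2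

/-- The induced action on the quotient by a characteristic subgroup. -/
def quotAct (A : Type*) {G : Type*} [Group A] [Group G] [MulDistribMulAction A G]
    (N : Subgroup G) [hN : N.Characteristic] : A →* MulAut (G ⧸ N) where
  toFun a := QuotientGroup.congr N N (MulDistribMulAction.toMulAut A G a)
    ((Subgroup.characteristic_iff_map_eq.mp hN) _)
  map_one' := by
    ext x
    induction x using QuotientGroup.induction_on with
    | H x => simp
  map_mul' a b := by
    ext x
    induction x using QuotientGroup.induction_on with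
    | H x => simp [mul_smul]

theorem quotAct_mk {A G : Type*} [Group A] [Group G] [MulDistribMulAction A G]
    (N : Subgroup G) [hN : N.Characteristic] (a : A) (x : G) :
    quotAct A N a (QuotientGroup.mk' N x) = QuotientGroup.mk' N (a • x) := rfl

section

variable {A G : Type*} [Group A] [Group G] [MulDistribMulAction A G]

open scoped commutatorElement in
/-- If all maximal invariant subgroups of the `p`-group `G` are conjugate, then `A` is
irreducible on `G / Φ(G)`. -/
theorem irred_of_actMaxInv_conj [Finite A] [Finite G]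
    (hcop : (Nat.card A).Coprime (Nat.card G))
    (hconj : ∀ M N : Subgroup G, ActMaxInv A M → ActMaxInv A N →
      ∃ c : G, (∀ a : A, a • c = c) ∧ N = MulAut.conj c • M)
    {p : ℕ} (hp : p.Prime) (hG : IsPGroup p G) :
    ∀ L : Subgroup G, frattini G < L → (∀ a : A, ∀ x ∈ L, a • x ∈ L) → L = ⊤ := by
  intro L hL hLinv
  by_contra hLtop
  haveI := Fact.mk hp
  obtain ⟨M, hM, hLM⟩ := exists_actMaxInv_ge hLtop hLinv
  have hcomm : commutator G ≤ frattini G := Cfsg.Agent.Lib.helper3.commutator_le_frattini hG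
  have hΦM : frattini G < M := lt_of_lt_of_le hL hLM
  haveI hMn : M.Normal := Cfsg.Agent.Lib.helper53.normal_of_commutator_le (hcomm.trans hΦM.le)
  have huniq : ∀ K : Subgroup G, K ≠ ⊤ → ActInv A K → K ≤ M := by
    intro K hK hKinv
    obtain ⟨N, hN, hKN⟩ := exists_actMaxInv_ge hK hKinv
    obtain ⟨c, -, hc⟩ := hconj M N hM hN
    rw [hc, Subgroup.Normal.conj_smul_eq_self] at hKN
    exact hKN
  have hsurj := QuotientGroup.mk'_surjective (frattini G)
  have hVc : ∀ x y : G ⧸ frattini G, x * y = y * x := by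
    intro x y
    induction x using QuotientGroup.induction_on with
    | H x =>
      induction y using QuotientGroup.induction_on with
      | H y =>
        rw [← QuotientGroup.mk_mul, ← QuotientGroup.mk_mul, QuotientGroup.eq]
        apply hcomm
        have : (x * y)⁻¹ * (y * x) = ⁅y⁻¹, x⁻¹⁆ := by
          rw [commutatorElement_def]; group
        rw [this, commutator_def]
        exact Subgroup.commutator_mem_commutator (Subgroup.mem_top _) (Subgroup.mem_top _)
  have hVexp : ∀ v : G ⧸ frattini G, v ^ p = 1 := by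
    intro v
    induction v using QuotientGroup.induction_on with
    | H x =>
      rw [← QuotientGroup.mk_pow, QuotientGroup.eq_one_iff]
      exact Cfsg.Agent.Lib.helper3.pow_prime_mem_frattini hG x
  have hcopV : (Nat.card A).Coprime (Nat.card (G ⧸ frattini G)) :=
    Nat.Coprime.coprime_dvd_right (Subgroup.card_quotient_dvd_card (frattini G)) hcop
  have hU : ∀ a u, u ∈ M.map (QuotientGroup.mk' (frattini G)) →
      quotAct A (frattini G) a u ∈ M.map (QuotientGroup.mk' (frattini G)) := by
    rintro a _ ⟨x, hx, rfl⟩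
    exact ⟨a • x, hM.2.1 a x hx, (quotAct_mk (frattini G) a x).symm⟩
  obtain ⟨W', hW'inv, hUW, hUW'⟩ := maschke_of_comm hVc hp hVexp (quotAct A (frattini G)) hcopV
    (M.map (QuotientGroup.mk' (frattini G))) hU
  have hKinv : ActInv A (W'.comap (QuotientGroup.mk' (frattini G))) := by
    intro a x hx
    rw [Subgroup.mem_comap] at hx ⊢
    rw [← quotAct_mk]
    exact hW'inv a _ hx
  have hKmap : (W'.comap (QuotientGroup.mk' (frattini G))).map (QuotientGroup.mk' (frattini G)) = W' :=
    Subgroup.map_comap_eq_self_of_surjective hsurj _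
  have hKtop : W'.comap (QuotientGroup.mk' (frattini G)) ≠ ⊤ := by
    intro h
    have hW'top : W' = ⊤ := by
      rw [← hKmap, h, ← MonoidHom.range_eq_map, MonoidHom.range_eq_top.mpr hsurj]
    rw [hW'top, inf_top_eq] at hUW
    have : M ≤ frattini G := by
      rw [← QuotientGroup.ker_mk' (frattini G), ← Subgroup.map_eq_bot_iff]; exact hUW
    exact absurd this (not_le_of_gt hΦM)
  have hKM := huniq _ hKtop hKinv
  have hW'U : W' ≤ M.map (QuotientGroup.mk' (frattini G)) := by
    rw [← hKmap]; exact Subgroup.map_mono hKM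
  rw [sup_eq_left.mpr hW'U] at hUW'
  have h3 : M ⊔ frattini G = ⊤ := by
    have := congrArg (Subgroup.comap (QuotientGroup.mk' (frattini G))) hUW'
    rw [Subgroup.comap_map_eq, QuotientGroup.ker_mk', Subgroup.comap_top] at this
    exact this
  exact hM.1 (frattini_nongenerating h3)

end

end Cfsg.Agent.Lib.helper54
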