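import Mathlib
import Cfsg.Prelude.Def_Local
import Cfsg.Agent.Lib.helper55.CyclicSylow
import Cfsg.Agent.Lib.helper27.Radical
import Cfsg.Agent.Lib.helper28.Components
import Cfsg.Agent.Lib.helper28.Fitting
import Cfsg.Agent.Lib.helper28.Layer
import Cfsg.Agent.Lib.helper12.SylowNormal
import Cfsg.Agent.Lib.helper53.PCore

/-!
Groups with a cyclic Sylow `p`-subgroup and `O_{p'} = 1`.
-/

set_option autoImplicit false

namespace Cfsg.Agent.Lib.helper54

/-- Burnside's normal `p`-complement theorem for a cyclic Sylow subgroup one of whose nontrivial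
elements is centralized by the normalizer. -/
theorem exists_normal_complement_of_cyclic_of_commute {G : Type*} [Group G] [Finite G] {p : ℕ}
    [Fact p.Prime] (P : Sylow p G) (hcyc : IsCyclic (P : Subgroup G)) {x : G}
    (hxP : x ∈ (P : Subgroup G)) (hx1 : x ≠ 1)
    (hN : ∀ g ∈ Subgroup.normalizer ((P : Subgroup G) : Set G), Commute g x) :
    ∃ M : Subgroup G, M.Normal ∧ M.IsComplement' (P : Subgroup G) := by
  have h := Cfsg.Agent.Lib.helper55.normalizer_le_centralizer_of_cyclic P hcyc hxP hx1 hN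
  exact ⟨(MonoidHom.transferSylow P h).ker, inferInstance,
    MonoidHom.ker_transferSylow_isComplement' P h⟩

/-- Elements of a cyclic subgroup commute. -/
theorem mul_comm_of_isCyclic {G : Type*} [Group G] {P : Subgroup G} (hcyc : IsCyclic P) :
    ∀ a ∈ P, ∀ b ∈ P, a * b = b * a := by
  intro a ha b hb
  haveI := hcyc
  have h := (IsCyclic.isMulCommutative (α := ↥P)).is_comm.comm ⟨a, ha⟩ ⟨b, hb⟩
  exact congrArg Subtype.val h

/-- In a cyclic `p`-group, an element of order `p` lies in every nontrivial subgroup. -/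
theorem mem_of_ne_bot_of_cyclic {G : Type*} [Group G] {p : ℕ} [Fact p.Prime] {P : Subgroup G}
    [Finite P] (hP : IsPGroup p P) (hcyc : IsCyclic P) {x : G} (hxP : x ∈ P)
    (hx : orderOf x = p) {D : Subgroup G} (hDP : D ≤ P) (hD : D ≠ ⊥) : x ∈ D := by
  have hpp : p.Prime := Fact.out
  haveI := hcyc
  haveI : Finite D :=
    Finite.of_injective (Subgroup.inclusion hDP) (Subgroup.inclusion_injective hDP)
  have hDp : IsPGroup p D := hP.to_le hDP
  have hdvd : p ∣ Nat.card D := by
    obtain ⟨n, hn⟩ := hDp.exists_card_eq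
    rcases Nat.eq_zero_or_pos n with h0 | h0
    · exfalso; rw [h0, pow_zero] at hn; exact hD (Subgroup.card_eq_one.mp hn)
    · rw [hn]; exact dvd_pow_self p h0.ne'
  obtain ⟨u, hu⟩ := exists_prime_orderOf_dvd_card' p hdvd
  have hu' : orderOf (u : G) = p := by rw [Subgroup.orderOf_coe]; exact hu
  have huP : (u : G) ∈ P := hDP u.2
  have h1 : (⟨x, hxP⟩ : P) ∈ Subgroup.zpowers (⟨(u : G), huP⟩ : P) := by
    apply Cfsg.Agent.Lib.helper55.mem_zpowers_of_pow_eq_one_of_cyclic hpp.pos
    · rw [← hu']; exact Subgroup.orderOf_mk _ _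
    · apply Subtype.ext
      change x ^ p = 1
      rw [← hx]; exact pow_orderOf_eq_one x
  obtain ⟨k, hk⟩ := Subgroup.mem_zpowers_iff.mp h1
  have hk' : (u : G) ^ k = x := congrArg Subtype.val hk
  rw [← hk']; exact D.zpow_mem u.2 k

variable {K : Type*} [Group K] [Finite K] {p : ℕ} [Fact p.Prime]

/-- If `O_{p'}(K) = 1`, `P` is a cyclic Sylow `p`-subgroup and `⟨x⟩ ≤ P` is a nontrivial normal
subgroup, then `C_K(x) = P`. -/
theorem centralizer_zpowers_eq_of_cyclic_sylow (hO : Cfsg.pPrimeCore p K = ⊥) (P : Sylow p K)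
    (hP : IsCyclic ↥(P : Subgroup K)) {x : K} (hxP : x ∈ (P : Subgroup K)) (hx1 : x ≠ 1)
    (hn : (Subgroup.zpowers x).Normal) :
    Subgroup.centralizer ((Subgroup.zpowers x : Subgroup K) : Set K) = (P : Subgroup K) := by
  haveI := hn
  set C := Subgroup.centralizer ((Subgroup.zpowers x : Subgroup K) : Set K) with hC
  haveI hCn : C.Normal := Subgroup.normal_centralizer
  have hPcomm := mul_comm_of_isCyclic hP
  have hPC : (P : Subgroup K) ≤ C := by
    intro u hu
    rw [hC, Subgroup.mem_centralizer_iff]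
    intro y hy
    have hyP : y ∈ (P : Subgroup K) := (Subgroup.zpowers_le.mpr hxP) hy
    exact hPcomm y hyP u hu
  set P' : Sylow p C := P.subtype hPC with hP'
  have hcoe : (P' : Subgroup C) = (P : Subgroup K).subgroupOf C := rfl
  have hcyc' : IsCyclic ↥(P' : Subgroup C) := by
    rw [hcoe]
    haveI := hP
    exact isCyclic_of_surjective (Subgroup.subgroupOfEquivOfLe hPC).symm
      (Subgroup.subgroupOfEquivOfLe hPC).symm.surjective
  have hxC : x ∈ C := hPC hxP
  have hx' : (⟨x, hxC⟩ : C) ∈ (P' : Subgroup C) := by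
    rw [hcoe]; exact Subgroup.mem_subgroupOf.mpr hxP
  have hx1' : (⟨x, hxC⟩ : C) ≠ 1 := fun h => hx1 (congrArg Subtype.val h)
  have hcomm : ∀ g ∈ Subgroup.normalizer ((P' : Subgroup C) : Set C),
      Commute g (⟨x, hxC⟩ : C) := by
    intro g _
    have h1 := Subgroup.mem_centralizer_iff.mp g.2 x (Subgroup.mem_zpowers x)
    exact Subtype.ext h1.symm
  obtain ⟨M, hMn, hMc⟩ := exists_normal_complement_of_cyclic_of_commute P' hcyc' hx' hx1' hcomm
  have hMsub : (M.map C.subtype).IsSubnormal := by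
    refine Subgroup.IsSubnormal.trans (K := C) ?_ ?_ hCn.isSubnormal
    · rintro _ ⟨m, -, rfl⟩; exact m.2
    · have h1 : (M.map C.subtype).subgroupOf C = M :=
        Subgroup.comap_map_eq_self_of_injective C.subtype_injective M
      rw [h1]; exact hMn.isSubnormal
  have hMcard : (Nat.card (M.map C.subtype)).Coprime p := by
    rw [Subgroup.card_map_of_injective C.subtype_injective, ← hMc.index_eq_card]
    exact ((Nat.Prime.coprime_iff_not_dvd Fact.out).mpr P'.not_dvd_index).symm
  have hMbot : M = ⊥ := by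
    have h1 := Cfsg.Agent.Lib.helper27.subnormal_coprime_le_pPrimeCore p _ hMsub hMcard
    rw [hO, le_bot_iff] at h1
    exact (Subgroup.map_eq_bot_iff_of_injective M C.subtype_injective).mp h1
  have hP'top : (P' : Subgroup C) = ⊤ := by
    rw [hMbot] at hMc
    exact Subgroup.isComplement'_bot_left.mp hMc
  refine le_antisymm ?_ hPC
  intro c hc
  have h1 : (⟨c, hc⟩ : C) ∈ (P' : Subgroup C) := by rw [hP'top]; exact Subgroup.mem_top _
  rw [hcoe] at h1
  exact Subgroup.mem_subgroupOf.mp h1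

/-- First alternative: `P` is normal, self-centralizing, with cyclic quotient of order dividing
`p - 1`. -/
theorem cyclic_sylow_case1 (hO : Cfsg.pPrimeCore p K = ⊥) (P : Sylow p K)
    (hP : IsCyclic ↥(P : Subgroup K)) {x : K} (hxP : x ∈ (P : Subgroup K)) (hx : orderOf x = p)
    (hn : (Subgroup.zpowers x).Normal) :
    (P : Subgroup K).Normal ∧
      Subgroup.centralizer ((P : Subgroup K) : Set K) = (P : Subgroup K) ∧
      (∀ (_ : (P : Subgroup K).Normal), IsCyclic (K ⧸ (P : Subgroup K))) ∧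
      (P : Subgroup K).index ∣ p - 1 := by
  have hpp : p.Prime := Fact.out
  have hx1 : x ≠ 1 := by
    rintro rfl
    rw [orderOf_one] at hx
    exact hpp.one_lt.ne hx
  have hC := centralizer_zpowers_eq_of_cyclic_sylow hO P hP hxP hx1 hn
  haveI := hn
  have hPn : (P : Subgroup K).Normal := by rw [← hC]; exact Subgroup.normal_centralizer
  have hPcomm := mul_comm_of_isCyclic hP
  have hcent : Subgroup.centralizer ((P : Subgroup K) : Set K) = (P : Subgroup K) := by
    apply le_antisymm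
    · refine le_trans (Subgroup.centralizer_le ?_) hC.le
      exact Subgroup.zpowers_le.mpr hxP
    · intro u hu
      rw [Subgroup.mem_centralizer_iff]
      intro y hy
      exact hPcomm y hy u hu
  let φ : K →* MulAut (Subgroup.zpowers x) := MulAut.conjNormal
  have hker : φ.ker = (P : Subgroup K) := by
    rw [← hC]
    ext k
    rw [MonoidHom.mem_ker, Subgroup.mem_centralizer_iff]
    constructor
    · intro hk y hy
      have h1 : ((φ k ⟨y, hy⟩ : Subgroup.zpowers x) : K) = y := by rw [hk]; rfl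
      have h2 : ((φ k ⟨y, hy⟩ : Subgroup.zpowers x) : K) = k * y * k⁻¹ :=
        MulAut.conjNormal_apply k ⟨y, hy⟩
      rw [h2] at h1
      calc y * k = (k * y * k⁻¹) * k := by rw [h1]
        _ = k * y := by group
    · intro hk
      ext ⟨y, hy⟩
      have h2 : ((φ k ⟨y, hy⟩ : Subgroup.zpowers x) : K) = k * y * k⁻¹ :=
        MulAut.conjNormal_apply k ⟨y, hy⟩
      rw [h2]
      have h3 := hk y hy
      change k * y * k⁻¹ = y
      rw [← h3]; group
  haveI hprime : Fact (Nat.card (Subgroup.zpowers x)).Prime :=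
    ⟨by rw [Nat.card_zpowers, hx]; exact hpp⟩
  have hcycAut : IsCyclic (MulAut (Subgroup.zpowers x)) := by
    have e := IsCyclic.mulAutMulEquiv (Subgroup.zpowers x)
    exact isCyclic_of_surjective e.symm e.symm.surjective
  have hcardAut : Nat.card (MulAut (Subgroup.zpowers x)) = p - 1 := by
    rw [IsCyclic.card_mulAut, Nat.card_zpowers, hx, Nat.totient_prime hpp]
  refine ⟨hPn, hcent, ?_, ?_⟩
  · intro hPn'
    haveI := hcycAut
    exact isCyclic_of_injective
      ((QuotientGroup.kerLift φ).comp (QuotientGroup.quotientMulEquivOfEq hker.symm).toMonoidHom)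
      ((QuotientGroup.kerLift_injective φ).comp
        (QuotientGroup.quotientMulEquivOfEq hker.symm).injective)
  · rw [← hker, Subgroup.index_ker, ← hcardAut]
    exact Subgroup.card_subgroup_dvd_card φ.range

/-- If `O_{p'}(K) = 1` and `P` is a cyclic Sylow `p`-subgroup, then `P` lies in every normal
subgroup which is not a `p`-group. -/
theorem cyclic_sylow_le_of_normal (hO : Cfsg.pPrimeCore p K = ⊥) (P : Sylow p K)
    (hP : IsCyclic ↥(P : Subgroup K)) {L : Subgroup K} (hLn : L.Normal)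
    (hLp : ¬ IsPGroup p L) : (P : Subgroup K) ≤ L := by
  by_contra hPL
  have hpp : p.Prime := Fact.out
  haveI := hLn
  set G₁ := L ⊔ (P : Subgroup K) with hG₁
  have hLG : L ≤ G₁ := le_sup_left
  have hPG : (P : Subgroup K) ≤ G₁ := le_sup_right
  set P₁ : Sylow p G₁ := P.subtype hPG with hP₁
  have hcoe : (P₁ : Subgroup G₁) = (P : Subgroup K).subgroupOf G₁ := rfl
  have hcyc₁ : IsCyclic ↥(P₁ : Subgroup G₁) := by
    rw [hcoe]
    haveI := hP
    exact isCyclic_of_surjective (Subgroup.subgroupOfEquivOfLe hPG).symm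
      (Subgroup.subgroupOfEquivOfLe hPG).symm.surjective
  have hPcomm := mul_comm_of_isCyclic hP
  obtain ⟨g₀, hg₀⟩ := hP.exists_generator
  obtain ⟨a, ha⟩ := P.isPGroup'.exists_card_eq
  have hord : orderOf (g₀ : K) = p ^ a := by
    rw [Subgroup.orderOf_coe, orderOf_eq_card_of_forall_mem_zpowers hg₀, ha]
  have ha1 : 1 ≤ a := by
    by_contra h0
    have h1 : a = 0 := by omega
    rw [h1, pow_zero] at ha
    have h2 : (P : Subgroup K) = ⊥ := Subgroup.card_eq_one.mp ha
    exact hPL (h2 ▸ bot_le)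
  set x₀ : K := (g₀ : K) ^ p ^ (a - 1) with hx₀
  have hx₀P : x₀ ∈ (P : Subgroup K) := Subgroup.pow_mem _ g₀.2 _
  have hx₀1 : x₀ ≠ 1 := by
    intro h
    have h1 : orderOf (g₀ : K) ∣ p ^ (a - 1) := orderOf_dvd_of_pow_eq_one h
    rw [hord] at h1
    have h2 := Nat.le_of_dvd (pow_pos hpp.pos _) h1
    have h3 : p ^ (a - 1) < p ^ a := Nat.pow_lt_pow_right hpp.one_lt (by omega)
    omega
  have hpowP : ∀ v ∈ (P : Subgroup K), v ^ p ^ a = 1 := by
    intro v hv
    have h1 : (⟨v, hv⟩ : (P : Subgroup K)) ^ Nat.card (P : Subgroup K) = 1 := pow_card_eq_one'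
    rw [ha] at h1
    exact congrArg Subtype.val h1
  have hpa : p * p ^ (a - 1) = p ^ a := by
    rw [← pow_succ', Nat.sub_add_cancel ha1]
  have hkey : ∀ l ∈ L, (∀ y ∈ (P : Subgroup K), l * y * l⁻¹ ∈ (P : Subgroup K)) →
      l * x₀ = x₀ * l := by
    intro l hl hlP
    set w := (g₀ : K)⁻¹ * (l * (g₀ : K) * l⁻¹) with hw
    have hwP : w ∈ (P : Subgroup K) :=
      Subgroup.mul_mem _ (Subgroup.inv_mem _ g₀.2) (hlP _ g₀.2)
    have hwL : w ∈ L := by
      have h1 : w = ((g₀ : K)⁻¹ * l * ((g₀ : K)⁻¹)⁻¹) * l⁻¹ := by rw [hw]; group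
      rw [h1]
      exact L.mul_mem (hLn.conj_mem l hl _) (L.inv_mem hl)
    have hwpow : ∃ v ∈ (P : Subgroup K), w = v ^ p := by
      have h1 : (⟨w, hwP⟩ : (P : Subgroup K)) ∈ Subgroup.zpowers g₀ := hg₀ _
      rw [← mem_powers_iff_mem_zpowers] at h1
      obtain ⟨j, hj⟩ := h1
      have hj' : (g₀ : K) ^ j = w := congrArg Subtype.val hj
      by_cases hpj : p ∣ j
      · obtain ⟨j', rfl⟩ := hpj
        refine ⟨(g₀ : K) ^ j', Subgroup.pow_mem _ g₀.2 _, ?_⟩
        rw [← hj', ← pow_mul, mul_comm]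
      · exfalso
        have hcop : Nat.Coprime j (orderOf (g₀ : K)) := by
          rw [hord]
          exact Nat.Coprime.pow_right a ((Nat.Prime.coprime_iff_not_dvd hpp).mpr hpj).symm
        obtain ⟨m, hm⟩ := exists_pow_eq_self_of_coprime hcop
        rw [hj'] at hm
        have hg₀L : (g₀ : K) ∈ L := by rw [← hm]; exact L.pow_mem hwL m
        apply hPL
        intro y hy
        have h2 : (⟨y, hy⟩ : (P : Subgroup K)) ∈ Subgroup.zpowers g₀ := hg₀ _
        obtain ⟨k, hk⟩ := Subgroup.mem_zpowers_iff.mp h2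
        have hk' : (g₀ : K) ^ k = y := congrArg Subtype.val hk
        rw [← hk']; exact L.zpow_mem hg₀L k
    obtain ⟨v, hvP, hwv⟩ := hwpow
    have h1 : l * (g₀ : K) * l⁻¹ = (g₀ : K) * v ^ p := by rw [← hwv, hw]; group
    have h2 : l * x₀ * l⁻¹ = x₀ := by
      have hc : Commute (g₀ : K) (v ^ p) := hPcomm _ g₀.2 _ (Subgroup.pow_mem _ hvP _)
      rw [hx₀, ← conj_pow, h1, hc.mul_pow, ← pow_mul, hpa, hpowP v hvP, mul_one]
    calc l * x₀ = (l * x₀ * l⁻¹) * l := by group
      _ = x₀ * l := by rw [h2]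
  have hcomm₁ : ∀ g ∈ Subgroup.normalizer ((P₁ : Subgroup G₁) : Set G₁),
      Commute g (⟨x₀, hPG hx₀P⟩ : G₁) := by
    intro g hg
    have hgP : ∀ y ∈ (P : Subgroup K), (g : K) * y * (g : K)⁻¹ ∈ (P : Subgroup K) := by
      intro y hy
      have h1 : (⟨y, hPG hy⟩ : G₁) ∈ (P₁ : Subgroup G₁) := Subgroup.mem_subgroupOf.mpr hy
      have h2 := (Subgroup.mem_normalizer_iff.mp hg _).mp h1
      exact Subgroup.mem_subgroupOf.mp h2
    obtain ⟨u, hu, l, hl, hul⟩ :=
      Cfsg.Agent.Lib.helper28.exists_mul_of_mem_sup_of_le_normalizer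
        (H := (P : Subgroup K)) (N := L)
        (by rw [Subgroup.normalizer_eq_top]; exact le_top) (by rw [sup_comm]; exact g.2)
    have hlP : ∀ y ∈ (P : Subgroup K), l * y * l⁻¹ ∈ (P : Subgroup K) := by
      intro y hy
      have h1 : l = u⁻¹ * (g : K) := by rw [← hul]; group
      have h2 : l * y * l⁻¹ = u⁻¹ * ((g : K) * y * (g : K)⁻¹) * u := by rw [h1]; group
      rw [h2]
      exact Subgroup.mul_mem _ (Subgroup.mul_mem _ (Subgroup.inv_mem _ hu) (hgP y hy)) hu
    have h3 := hkey l hl hlP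
    have h4 : u * x₀ = x₀ * u := hPcomm u hu x₀ hx₀P
    apply Subtype.ext
    change (g : K) * x₀ = x₀ * (g : K)
    rw [← hul, mul_assoc, h3, ← mul_assoc, h4, mul_assoc]
  obtain ⟨M₁, hM₁n, hM₁c⟩ := exists_normal_complement_of_cyclic_of_commute P₁ hcyc₁
    (x := (⟨x₀, hPG hx₀P⟩ : G₁)) (Subgroup.mem_subgroupOf.mpr hx₀P)
    (fun h => hx₀1 (congrArg Subtype.val h)) hcomm₁
  set D := (M₁ ⊓ L.subgroupOf G₁).map G₁.subtype with hD
  have hDL : D ≤ L := by
    rintro _ ⟨m, hm, rfl⟩
    exact Subgroup.mem_subgroupOf.mp hm.2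
  have hDn : (D.subgroupOf L).Normal := by
    refine ⟨fun d hd l => ?_⟩
    rw [Subgroup.mem_subgroupOf] at hd ⊢
    obtain ⟨m, hm, hmd⟩ := hd
    refine ⟨⟨(l : K), hLG l.2⟩ * m * ⟨(l : K), hLG l.2⟩⁻¹, ⟨hM₁n.conj_mem m hm.1 _, ?_⟩, ?_⟩
    · change (l : K) * (m : K) * (l : K)⁻¹ ∈ L
      exact L.mul_mem (L.mul_mem l.2 (Subgroup.mem_subgroupOf.mp hm.2)) (L.inv_mem l.2)
    · have hmd' : (m : K) = (d : K) := hmd
      change (l : K) * (m : K) * (l : K)⁻¹ = (l : K) * (d : K) * (l : K)⁻¹
      rw [hmd']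
  have hDsub : D.IsSubnormal := Subgroup.IsSubnormal.trans hDL hDn.isSubnormal hLn.isSubnormal
  have hDcard : (Nat.card D).Coprime p := by
    rw [hD, Subgroup.card_map_of_injective G₁.subtype_injective]
    have h1 : Nat.card ↥(M₁ ⊓ L.subgroupOf G₁) ∣ Nat.card M₁ := Subgroup.card_dvd_of_le inf_le_left
    have h2 : (Nat.card M₁).Coprime p := by
      rw [← hM₁c.index_eq_card]
      exact ((Nat.Prime.coprime_iff_not_dvd hpp).mpr P₁.not_dvd_index).symm
    exact Nat.Coprime.coprime_dvd_left h1 h2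
  have hDbot : M₁ ⊓ L.subgroupOf G₁ = ⊥ := by
    have h1 := Cfsg.Agent.Lib.helper27.subnormal_coprime_le_pPrimeCore p D hDsub hDcard
    rw [hO, le_bot_iff] at h1
    exact (Subgroup.map_eq_bot_iff_of_injective _ G₁.subtype_injective).mp h1
  have hcardL : Nat.card L ∣ Nat.card (P : Subgroup K) := by
    have e1 : Nat.card (L.subgroupOf G₁) = Nat.card L :=
      Nat.card_congr (Subgroup.subgroupOfEquivOfLe hLG).toEquiv
    have e2 : M₁.relIndex (L.subgroupOf G₁) = Nat.card (L.subgroupOf G₁) := by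
      rw [← Subgroup.inf_relIndex_right, hDbot, Subgroup.relIndex_bot_left]
    have e3 : M₁.relIndex (L.subgroupOf G₁) ∣ M₁.index :=
      Subgroup.relIndex_dvd_index_of_normal M₁ _
    have e4 : M₁.index = Nat.card (P₁ : Subgroup G₁) := hM₁c.symm.index_eq_card
    have e5 : Nat.card (P₁ : Subgroup G₁) = Nat.card (P : Subgroup K) :=
      Nat.card_congr (Subgroup.subgroupOfEquivOfLe hPG).toEquiv
    rw [← e1, ← e2, ← e5, ← e4]; exact e3
  apply hLp
  rw [ha] at hcardL
  obtain ⟨k, -, hk⟩ := (Nat.dvd_prime_pow hpp).mp hcardL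
  exact IsPGroup.of_card hk

/-- With `O_p(K) = 1 = O_{p'}(K)`, every nilpotent subnormal subgroup is trivial. -/
theorem eq_bot_of_isSubnormal_of_isNilpotent (hO : Cfsg.pPrimeCore p K = ⊥)
    (hQ : Cfsg.pCore p K = ⊥) {N : Subgroup K} (hN : N.IsSubnormal)
    (hnil : Group.IsNilpotent N) : N = ⊥ := by
  by_contra hne
  have hcard : Nat.card N ≠ 1 := fun h => hne (Subgroup.card_eq_one.mp h)
  obtain ⟨q, hq, hqd⟩ := Nat.exists_prime_and_dvd hcard
  haveI : Fact q.Prime := ⟨hq⟩
  obtain ⟨Q⟩ := (inferInstance : Nonempty (Sylow q N))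
  have hQne : (Q : Subgroup N) ≠ ⊥ := Q.ne_bot_of_dvd_card hqd
  have h03 := (Group.isNilpotent_of_finite_tfae (G := N)).out 0 3
  have hQn : (Q : Subgroup N).Normal := h03.mp hnil q inferInstance Q
  have hsub : ((Q : Subgroup N).map N.subtype).IsSubnormal := by
    refine Subgroup.IsSubnormal.trans (K := N) ?_ ?_ hN
    · rintro _ ⟨m, -, rfl⟩; exact m.2
    · have h1 : ((Q : Subgroup N).map N.subtype).subgroupOf N = Q :=
        Subgroup.comap_map_eq_self_of_injective N.subtype_injective _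
      rw [h1]; exact hQn.isSubnormal
  have hbot : (Q : Subgroup N).map N.subtype = ⊥ := by
    by_cases hqp : q = p
    · have hpg : IsPGroup p ((Q : Subgroup N).map N.subtype) := by
        rw [← hqp]; exact Q.isPGroup'.map N.subtype
      have h1 := Cfsg.Agent.Lib.helper27.subnormal_pGroup_le_pCore p _ hsub hpg
      rw [hQ, le_bot_iff] at h1; exact h1
    · have hc : (Nat.card ((Q : Subgroup N).map N.subtype)).Coprime p := by
        rw [Subgroup.card_map_of_injective N.subtype_injective]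
        obtain ⟨n, hn⟩ := Q.isPGroup'.exists_card_eq
        rw [hn]
        exact Nat.Coprime.pow_left n ((Nat.coprime_primes hq Fact.out).mpr hqp)
      have h1 := Cfsg.Agent.Lib.helper27.subnormal_coprime_le_pPrimeCore p _ hsub hc
      rw [hO, le_bot_iff] at h1; exact h1
  exact hQne ((Subgroup.map_eq_bot_iff_of_injective _ N.subtype_injective).mp hbot)

open scoped commutatorElement in
/-- Second alternative: with `O_p(K) = 1`, `F*(K)` is a nonabelian simple group containing `P`. -/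
theorem cyclic_sylow_case2 (hp : p ∣ Nat.card K) (hO : Cfsg.pPrimeCore p K = ⊥)
    (hQ : Cfsg.pCore p K = ⊥) (P : Sylow p K) (hP : IsCyclic ↥(P : Subgroup K)) :
    IsSimpleGroup ↥(Cfsg.generalizedFittingSubgroup K) ∧
      ¬ IsMulCommutative ↥(Cfsg.generalizedFittingSubgroup K) ∧
      ¬ p ∣ (Cfsg.generalizedFittingSubgroup K).index := by
  have hpp : p.Prime := Fact.out
  have hFit : Cfsg.fittingSubgroup K = ⊥ :=
    eq_bot_of_isSubnormal_of_isNilpotent hO hQ
      (Cfsg.Agent.Lib.helper28.fittingSubgroup_normal K).isSubnormal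
      (Cfsg.Agent.Lib.helper28.fittingSubgroup_isNilpotent K)
  have hex : ∃ L : Subgroup K, Cfsg.IsComponent L := by
    by_contra hno
    have hlayer : Cfsg.layer K = ⊥ := by
      unfold Cfsg.layer
      rw [eq_bot_iff]
      exact sSup_le (fun L hL => absurd ⟨L, hL⟩ hno)
    have hF : Cfsg.generalizedFittingSubgroup K = ⊥ := by
      unfold Cfsg.generalizedFittingSubgroup; rw [hlayer, hFit, sup_bot_eq]
    have h1 := Cfsg.Agent.Lib.helper28.centralizer_generalizedFittingSubgroup_le K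
    rw [hF] at h1
    have h2 : ∀ k : K, k = 1 := by
      intro k
      have h3 : k ∈ Subgroup.centralizer (((⊥ : Subgroup K) : Subgroup K) : Set K) := by
        rw [Subgroup.mem_centralizer_iff]
        intro y hy
        have hy1 : y = 1 := Subgroup.mem_bot.mp hy
        rw [hy1, one_mul, mul_one]
      exact Subgroup.mem_bot.mp (h1 h3)
    have h3 : Nat.card K = 1 := by
      rw [Nat.card_eq_one_iff_unique]
      exact ⟨⟨fun a b => (h2 a).trans (h2 b).symm⟩, ⟨1⟩⟩
    rw [h3] at hp
    exact hpp.one_lt.ne' (Nat.dvd_one.mp hp)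
  obtain ⟨L, hL⟩ := hex
  have hLqs := Cfsg.Agent.Lib.helper28.isComponent_qs hL
  have hZ : Subgroup.center L = ⊥ := by
    have hsub : ((Subgroup.center L).map L.subtype).IsSubnormal := by
      refine Subgroup.IsSubnormal.trans (K := L) ?_ ?_ hL.1
      · rintro _ ⟨m, -, rfl⟩; exact m.2
      · have h1 : ((Subgroup.center L).map L.subtype).subgroupOf L = Subgroup.center L :=
          Subgroup.comap_map_eq_self_of_injective L.subtype_injective _
        rw [h1]; exact (inferInstance : (Subgroup.center L).Normal).isSubnormal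
    haveI hcn : Group.IsNilpotent (Subgroup.center L) := by
      open scoped IsMulCommutative in exact inferInstance
    have hn : Group.IsNilpotent ((Subgroup.center L).map L.subtype) :=
      Group.nilpotent_of_mulEquiv
        ((Subgroup.center L).equivMapOfInjective L.subtype L.subtype_injective)
    exact (Subgroup.map_eq_bot_iff_of_injective _ L.subtype_injective).mp
      (eq_bot_of_isSubnormal_of_isNilpotent hO hQ hsub hn)
  have hLsimple : IsSimpleGroup L := by
    haveI h1 : IsSimpleGroup (L ⧸ Subgroup.center L) := hL.2.2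
    have e : L ≃* L ⧸ Subgroup.center L :=
      (QuotientGroup.quotientBot (G := L)).symm.trans (QuotientGroup.quotientMulEquivOfEq hZ.symm)
    exact e.isSimpleGroup
  obtain ⟨x₀, hx₀⟩ := exists_prime_orderOf_dvd_card' p (P.dvd_card_of_dvd_card hp)
  have hxP : (x₀ : K) ∈ (P : Subgroup K) := x₀.2
  have hx : orderOf (x₀ : K) = p := by rw [Subgroup.orderOf_coe]; exact hx₀
  have hx1 : (x₀ : K) ≠ 1 := by
    intro h
    rw [h, orderOf_one] at hx
    exact hpp.one_lt.ne hx
  have hxmem : ∀ L' : Subgroup K, Cfsg.IsComponent L' → (x₀ : K) ∈ L' := by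
    intro L' hL'
    have hdvd : p ∣ Nat.card L' := by
      by_contra hnd
      have hc : (Nat.card L').Coprime p := ((Nat.Prime.coprime_iff_not_dvd hpp).mpr hnd).symm
      have h1 := Cfsg.Agent.Lib.helper27.subnormal_coprime_le_pPrimeCore p L' hL'.1 hc
      rw [hO, le_bot_iff] at h1
      exact Cfsg.Agent.Lib.helper28.isComponent_ne_bot hL' h1
    obtain ⟨Q', hQ'⟩ :=
      Cfsg.Agent.Lib.helper12.exists_sylow_eq_subgroupOf_of_isSubnormal P L' hL'.1
    have hQ'ne : (Q' : Subgroup L') ≠ ⊥ := Q'.ne_bot_of_dvd_card hdvd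
    have hinf : (P : Subgroup K) ⊓ L' ≠ ⊥ := by
      intro h
      apply hQ'ne
      rw [hQ', Subgroup.subgroupOf_eq_bot]
      exact disjoint_iff.mpr h
    have h2 := mem_of_ne_bot_of_cyclic P.isPGroup' hP hxP hx
      (inf_le_left : (P : Subgroup K) ⊓ L' ≤ P) hinf
    exact h2.2
  have huniq : ∀ L' : Subgroup K, Cfsg.IsComponent L' → L' = L := by
    intro L' hL'
    by_contra hne
    have hcomm := Cfsg.Agent.Lib.helper28.isComponent_commute hL hL' (Ne.symm hne)
    have hxc : (⟨(x₀ : K), hxmem L hL⟩ : L) ∈ Subgroup.center L := by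
      rw [Subgroup.mem_center_iff]
      intro l
      apply Subtype.ext
      have h1 : ⁅(l : K), (x₀ : K)⁆ ∈ ⁅L, L'⁆ :=
        Subgroup.commutator_mem_commutator l.2 (hxmem L' hL')
      rw [hcomm, Subgroup.mem_bot] at h1
      exact commutatorElement_eq_one_iff_mul_comm.mp h1
    rw [hZ, Subgroup.mem_bot] at hxc
    exact hx1 (congrArg Subtype.val hxc)
  have hlayer : Cfsg.layer K = L := by
    apply le_antisymm
    · unfold Cfsg.layer
      exact sSup_le (fun L' hL' => by rw [huniq L' hL'])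
    · exact Cfsg.Agent.Lib.helper28.le_layer hL
  have hF : Cfsg.generalizedFittingSubgroup K = L := by
    unfold Cfsg.generalizedFittingSubgroup; rw [hlayer, hFit, sup_bot_eq]
  have hLn : L.Normal := by rw [← hlayer]; infer_instance
  have hLp : ¬ IsPGroup p L := by
    intro h
    haveI : Group.IsNilpotent L := h.isNilpotent
    exact hLqs.not_isSolvable inferInstance
  have hPL : (P : Subgroup K) ≤ L := cyclic_sylow_le_of_normal hO P hP hLn hLp
  rw [hF]
  refine ⟨hLsimple, hLqs.not_isMulCommutative, ?_⟩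
  intro hd
  exact P.not_dvd_index (dvd_trans hd (Subgroup.index_dvd_of_le hPL))

/-- A finite group `K` with `O_{p'}(K) = 1` and a nontrivial cyclic Sylow `p`-subgroup `P`:
either `P` is normal and self-centralizing with `K/P` cyclic of order dividing `p - 1`, or
`F*(K)` is a nonabelian simple group of index prime to `p`. -/
theorem cyclic_sylow_dichotomy (hp : p ∣ Nat.card K) (hO : Cfsg.pPrimeCore p K = ⊥)
    (P : Sylow p K) (hP : IsCyclic ↥(P : Subgroup K)) :
    ((P : Subgroup K).Normal ∧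
      Subgroup.centralizer ((P : Subgroup K) : Set K) = (P : Subgroup K) ∧
      (∀ (_ : (P : Subgroup K).Normal), IsCyclic (K ⧸ (P : Subgroup K))) ∧
      (P : Subgroup K).index ∣ p - 1) ∨
    (IsSimpleGroup ↥(Cfsg.generalizedFittingSubgroup K) ∧
      ¬ IsMulCommutative ↥(Cfsg.generalizedFittingSubgroup K) ∧
      ¬ p ∣ (Cfsg.generalizedFittingSubgroup K).index) := by
  by_cases hQ : Cfsg.pCore p K = ⊥
  · right; exact cyclic_sylow_case2 hp hO hQ P hP
  · left
    obtain ⟨x₀, hx₀⟩ := exists_prime_orderOf_dvd_card' p (P.dvd_card_of_dvd_card hp)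
    have hxP : (x₀ : K) ∈ (P : Subgroup K) := x₀.2
    have hx : orderOf (x₀ : K) = p := by rw [Subgroup.orderOf_coe]; exact hx₀
    have hxQ : (x₀ : K) ∈ Cfsg.pCore p K :=
      mem_of_ne_bot_of_cyclic P.isPGroup' hP hxP hx
        (Cfsg.Agent.Lib.helper53.pCore_le_sylow P) hQ
    have hn : (Subgroup.zpowers (x₀ : K)).Normal := by
      refine ⟨fun n hn g => ?_⟩
      obtain ⟨i, rfl⟩ := Subgroup.mem_zpowers_iff.mp hn
      have h1 : g * (x₀ : K) * g⁻¹ ∈ Subgroup.zpowers (x₀ : K) := by
        have hQn := Cfsg.Agent.Lib.helper53.pCore_normal p K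
        have h2 : g * (x₀ : K) * g⁻¹ ∈ (P : Subgroup K) :=
          Cfsg.Agent.Lib.helper53.pCore_le_sylow P (hQn.conj_mem _ hxQ g)
        have h3 : (⟨g * (x₀ : K) * g⁻¹, h2⟩ : (P : Subgroup K)) ∈ Subgroup.zpowers x₀ := by
          haveI := hP
          apply Cfsg.Agent.Lib.helper55.mem_zpowers_of_pow_eq_one_of_cyclic
            (Fact.out : p.Prime).pos hx₀
          apply Subtype.ext
          change (g * (x₀ : K) * g⁻¹) ^ p = 1
          have hxp : (x₀ : K) ^ p = 1 := by
            have h5 := pow_orderOf_eq_one (x₀ : K)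
            rwa [hx] at h5
          rw [conj_pow, hxp]; group
        obtain ⟨k, hk⟩ := Subgroup.mem_zpowers_iff.mp h3
        have hk' : (x₀ : K) ^ k = g * (x₀ : K) * g⁻¹ := congrArg Subtype.val hk
        rw [← hk']; exact Subgroup.zpow_mem_zpowers _ k
      have h4 : g * (x₀ : K) ^ i * g⁻¹ = (g * (x₀ : K) * g⁻¹) ^ i := by rw [conj_zpow]
      rw [h4]; exact Subgroup.zpow_mem _ h1 i
    exact cyclic_sylow_case1 hO P hP hxP hx hn

end Cfsg.Agent.Lib.helper54
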