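import Mathlib
import Cfsg.Agent.Lib.helper42.FGDefs
import Cfsg.Agent.Lib.helper10.FGLEMM
import Cfsg.Agent.Lib.helper73.FGCARD

/-! # S1915 piece T2A (racer copy): the central involution `z` of `S` and the four-subgroups of `S` -/

set_option autoImplicit false

namespace Cfsg.Agent.Lib.helper42.FG

variable {G : Type*} [Group G] [Finite G]

omit [Finite G] in
/-- index two: the product of two elements of `S` outside `B` lies in `B` -/
theorem h54_idx2 (S B : Subgroup G) (hidx : B.relIndex S = 2) (x y : G) (hx : x ∈ S) (hy : y ∈ S)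
    (hxB : x ∉ B) (hyB : y ∉ B) : x * y ∈ B := by
  have h := Subgroup.mul_mem_iff_of_index_two (H := B.subgroupOf S) hidx
    (a := (⟨x, hx⟩ : ↥S)) (b := (⟨y, hy⟩ : ↥S))
  rw [Subgroup.mem_subgroupOf, Subgroup.mem_subgroupOf, Subgroup.mem_subgroupOf] at h
  exact h.mpr ⟨fun hh => absurd hh hxB, fun hh => absurd hh hyB⟩

/-- T2A (racer copy) -/
theorem h54_zdata {A S U : Subgroup G} (h : Cfg A S U) {B : Subgroup G} (hB : BData S U B) :
    ∃ z : G, z ∈ B ∧ ZData S z := by
  classical
  have hS2 : IsPGroup 2 S := IsPGroup.of_card h.hSyl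
  have hcardS : 4 < Nat.card S := card_S_gt h
  have hBS := hB.hBS
  -- card B * 2 = card S
  have hcardB : Nat.card B * 2 = Nat.card S := by
    have h1 := Subgroup.card_mul_index (B.subgroupOf S)
    have h2 : (B.subgroupOf S).index = 2 := hB.hidx
    rw [h2, Nat.card_congr (Subgroup.subgroupOfEquivOfLe hBS).toEquiv] at h1
    exact h1
  have h2B : 2 ∣ Nat.card B := by
    obtain ⟨n, hn⟩ : ∃ n, Nat.card S = 2 ^ n := ⟨_, h.hSyl⟩
    have hBd : Nat.card B ∣ 2 ^ n := by
      rw [← hn, ← hcardB]; exact dvd_mul_right _ _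
    obtain ⟨k, _, hk⟩ := (Nat.dvd_prime_pow Nat.prime_two).mp hBd
    have hk1 : k ≠ 0 := by
      rintro rfl
      rw [pow_zero] at hk
      omega
    rw [hk]
    exact dvd_pow_self 2 hk1
  have : Fact (Nat.Prime 2) := ⟨Nat.prime_two⟩
  obtain ⟨zb, hzb⟩ := exists_prime_orderOf_dvd_card' 2 h2B
  have hz2 : orderOf (zb : G) = 2 := by rw [Subgroup.orderOf_coe]; exact hzb
  have hzB : (zb : G) ∈ B := zb.2
  set z : G := (zb : G) with hzdef
  have hz1 : z ≠ 1 := by
    intro hh
    rw [hh, orderOf_one] at hz2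
    norm_num at hz2
  have hzz : z ^ 2 = 1 := by rw [← hz2]; exact pow_orderOf_eq_one z
  have hzS : z ∈ S := hBS hzB
  have hU2 : ∀ q ∈ B, q ^ 2 = 1 → q = 1 ∨ q = z := fun q hq hq2 =>
    h10_cyc_sq B hB.hcyc z hzB hz1 hzz q hq hq2
  -- z is central in S
  have hzc : ∀ y ∈ S, y * z = z * y := by
    intro y hy
    have h1 : y * z * y⁻¹ ∈ B := ((Subgroup.mem_normalizer_iff).mp (hB.hSB hy) z).mp hzB
    have h2 : (y * z * y⁻¹) ^ 2 = 1 := by rw [conj_pow, hzz, mul_one, mul_inv_cancel]
    rcases hU2 _ h1 h2 with h3 | h3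
    · exfalso
      apply hz1
      have e : z = y⁻¹ * (y * z * y⁻¹) * y := by group
      rw [e, h3]
      group
    · calc y * z = (y * z * y⁻¹) * y := by group
        _ = z * y := by rw [h3]
  have hBcomm : ∀ x ∈ B, ∀ y ∈ B, x * y = y * x := by
    intro x hx y hy
    let _ := hB.hcyc
    have := (IsCyclic.commGroup (α := ↥B)).mul_comm ⟨x, hx⟩ ⟨y, hy⟩
    exact congrArg Subtype.val this
  -- the centre
  have hzu : ∀ y ∈ S, (∀ x ∈ S, y * x = x * y) → y = 1 ∨ y = z := by
    intro y hy hyc
    have hyB : y ∈ B := hB.hself y hy (fun x hx => hyc x (hBS hx))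
    by_contra hcon
    have hy1 : y ≠ 1 := fun hh => hcon (Or.inl hh)
    have hyz : y ≠ z := fun hh => hcon (Or.inr hh)
    obtain ⟨n, hn⟩ : ∃ n, Nat.card S = 2 ^ n := ⟨_, h.hSyl⟩
    have hod : orderOf y ∣ 2 ^ n := by
      rw [← hn]; exact Subgroup.orderOf_dvd_natCard S hy
    obtain ⟨k, _, hk⟩ := (Nat.dvd_prime_pow Nat.prime_two).mp hod
    have hk2 : 2 ≤ k := by
      by_contra hlt
      have hk01 : k = 0 ∨ k = 1 := by omega
      rcases hk01 with rfl | rfl
      · rw [pow_zero, orderOf_eq_one_iff] at hk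
        exact hy1 hk
      · have hy2 : y ^ 2 = 1 := by
          have := pow_orderOf_eq_one y
          rw [hk] at this
          simpa using this
        rcases hU2 y hyB hy2 with h3 | h3
        · exact hy1 h3
        · exact hyz h3
    set b₀ : G := y ^ (2 ^ (k - 2)) with hb₀def
    have hb₀4 : orderOf b₀ = 4 := by
      rw [hb₀def, orderOf_pow' y (pow_ne_zero _ (by norm_num)), hk,
        Nat.gcd_eq_right (pow_dvd_pow 2 (by omega)), Nat.pow_div (by omega) (by norm_num)]
      have : k - (k - 2) = 2 := by omega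
      rw [this]
    have hb₀B : b₀ ∈ B := Subgroup.pow_mem B hyB _
    have hb₀c : ∀ s ∈ S, s * b₀ = b₀ * s := by
      intro s hs
      have hc : Commute s y := (hyc s hs).symm
      exact (hc.pow_right _)
    obtain ⟨X, hXS, hXall, hXEl, hXcard⟩ :=
      modular_omega S B hBS hB.hcyc hS2 hB.hidx hB.hself b₀ hb₀B hb₀4 hb₀c
    have hUX : U ≤ Subgroup.normalizer (X : Set G) := by
      intro u hu
      rw [Subgroup.mem_normalizer_iff]
      intro x
      have huS := (Subgroup.mem_normalizer_iff).mp (h.hUS hu)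
      constructor
      · intro hx
        apply hXall
        · exact (huS x).mp (hXS hx)
        · rw [conj_pow, hXEl.2 x hx, mul_one, mul_inv_cancel]
      · intro hx
        apply hXall
        · exact (huS x).mpr (hXS hx)
        · have h1 := hXEl.2 _ hx
          rw [conj_pow] at h1
          have h2 : x ^ 2 = u⁻¹ * (u * x ^ 2 * u⁻¹) * u := by group
          rw [h2, h1]
          group
    have := h.ha X hXS hUX hXEl
    omega
  refine ⟨z, hzB, ⟨hzS, hz2, hzc, hzu, ?_⟩⟩
  intro V hVS hV
  have hV4 : Nat.card V = 4 := hV.card_four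
  have hVsq : ∀ v ∈ V, v ^ 2 = 1 := by
    intro v hv
    have h1 : (⟨v, hv⟩ : ↥V) ^ Monoid.exponent ↥V = 1 := Monoid.pow_exponent_eq_one _
    rw [hV.exponent_two] at h1
    exact congrArg Subtype.val h1
  -- an element of V outside B
  have hex : ∃ v ∈ V, v ∉ B := by
    by_contra hcon
    push Not at hcon
    have hsub : (V : Set G) ⊆ {1, z} := by
      intro v hv
      rcases hU2 v (hcon v hv) (hVsq v hv) with h3 | h3
      · exact Or.inl h3
      · exact Or.inr h3
    have h1 : Nat.card V ≤ 2 := by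
      rw [show Nat.card V = (V : Set G).ncard from (Nat.card_coe_set_eq (V : Set G))]
      calc (V : Set G).ncard ≤ ({1, z} : Set G).ncard := Set.ncard_le_ncard hsub (Set.toFinite _)
        _ ≤ 2 := (Set.ncard_insert_le _ _).trans (by rw [Set.ncard_singleton])
    omega
  obtain ⟨v, hvV, hvB⟩ := hex
  have hvS : v ∈ S := hVS hvV
  have hvv : v * v = 1 := by rw [← pow_two]; exact hVsq v hvV
  have hvinv : v⁻¹ = v := inv_eq_of_mul_eq_one_left hvv
  -- z ∈ V
  have hzV : z ∈ V := by
    have hex2 : ∃ w ∈ V, w ≠ 1 ∧ w ≠ v := by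
      by_contra hcon
      push Not at hcon
      have hsub : (V : Set G) ⊆ {1, v} := by
        intro w hw
        by_cases hw1 : w = 1
        · exact Or.inl hw1
        · exact Or.inr (hcon w hw hw1)
      have h1 : Nat.card V ≤ 2 := by
        rw [show Nat.card V = (V : Set G).ncard from (Nat.card_coe_set_eq (V : Set G))]
        calc (V : Set G).ncard ≤ ({1, v} : Set G).ncard := Set.ncard_le_ncard hsub (Set.toFinite _)
          _ ≤ 2 := (Set.ncard_insert_le _ _).trans (by rw [Set.ncard_singleton])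
      omega
    obtain ⟨w, hwV, hw1, hwv⟩ := hex2
    by_cases hwB : w ∈ B
    · rcases hU2 w hwB (hVsq w hwV) with h3 | h3
      · exact absurd h3 hw1
      · rw [← h3]; exact hwV
    · have hvw : v * w ∈ B := h54_idx2 S B hB.hidx v w hvS (hVS hwV) hvB hwB
      have hvwV : v * w ∈ V := V.mul_mem hvV hwV
      rcases hU2 _ hvw (hVsq _ hvwV) with h3 | h3
      · exfalso
        apply hwv
        have : w = v⁻¹ := eq_inv_of_mul_eq_one_right h3
        rw [this, hvinv]
      · rw [← h3]; exact hvwV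
  refine ⟨hzV, ?_⟩
  -- elements of B commuting with v are central
  have hC : ∀ c ∈ B, c * v = v * c → c = 1 ∨ c = z := by
    intro c hc hcv
    apply hzu c (hBS hc)
    intro s hs
    by_cases hsB : s ∈ B
    · exact hBcomm c hc s hsB
    · have hsv : s * v ∈ B := h54_idx2 S B hB.hidx s v hs hvS hsB hvB
      have h1 : c * (s * v) = (s * v) * c := hBcomm c hc _ hsv
      have hc1 : Commute c (s * v) := h1
      have hc2 : Commute c v := hcv
      have hc3 : Commute c s := by simpa using hc1.mul_right hc2.inv_right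
      exact hc3.eq
  intro y hy hyV
  by_cases hyB : y ∈ B
  · rcases hC y hyB (hyV v hvV) with h3 | h3
    · rw [h3]; exact V.one_mem
    · rw [h3]; exact hzV
  · have hyv : y * v ∈ B := h54_idx2 S B hB.hidx y v hy hvS hyB hvB
    have hcomm : (y * v) * v = v * (y * v) := by
      rw [← mul_assoc, ← hyV v hvV]
    have h2 : y = (y * v) * v := by rw [mul_assoc, hvv, mul_one]
    rcases hC _ hyv hcomm with h3 | h3
    · rw [h2, h3, one_mul]; exact hvV
    · rw [h2, h3]; exact V.mul_mem hzV hvV

end Cfsg.Agent.Lib.helper42.FG
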