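import Mathlib
import Cfsg.Prelude.Def_LieTypeChar
import Cfsg.Agent.Lib.helper44.LODefs
import Cfsg.Agent.Lib.helper6.LOARITH

/-! # S2363 piece E7 (racer copy), arithmetic core -/

set_option autoImplicit false

namespace Cfsg.Agent.Lib.helper44.LO

open Cfsg

/-- the arithmetic of the order formula of `E₇(q)`, `q = p ^ f` -/
theorem h54_lo_e7_arith (p : ℕ) (hp : p.Prime) (f : ℕ) (hf : 1 ≤ f) (n : ℕ)
    (h : Nat.gcd 2 (p ^ f - 1) * n = (p ^ f) ^ 63 * ((p ^ f) ^ 2 - 1) * ((p ^ f) ^ 6 - 1) *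
      ((p ^ f) ^ 8 - 1) * ((p ^ f) ^ 10 - 1) * ((p ^ f) ^ 12 - 1) * ((p ^ f) ^ 14 - 1) *
      ((p ^ f) ^ 18 - 1)) : LOGood p n := by
  set q : ℕ := p ^ f with hq
  have hpq : p ∣ q := by
    rw [hq]
    exact dvd_pow_self p (by omega)
  have hq2 : 2 ≤ q := by
    have h1 : p ^ 1 ≤ p ^ f := Nat.pow_le_pow_right hp.pos hf
    have h2 := hp.two_le
    rw [pow_one] at h1
    omega
  have hqpos : ∀ d : ℕ, 1 ≤ q ^ d := fun d => Nat.one_le_pow _ _ (by omega)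
  have hnd : ∀ d : ℕ, 1 ≤ d → ¬ p ∣ q ^ d - 1 := by
    intro d hd hdvd
    have h1 : p ∣ q ^ d := dvd_trans hpq (dvd_pow_self q (by omega))
    have h2 : p ∣ q ^ d - (q ^ d - 1) := Nat.dvd_sub h1 hdvd
    have h3 : q ^ d - (q ^ d - 1) = 1 := by have := hqpos d; omega
    rw [h3] at h2
    exact hp.one_lt.ne' (Nat.dvd_one.mp h2)
  refine lo_good hp f hf (Nat.gcd 2 (q - 1)) n 63
    ((q ^ 2 - 1) * (q ^ 6 - 1) * (q ^ 8 - 1) * (q ^ 10 - 1) * (q ^ 12 - 1) * (q ^ 14 - 1) *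
      (q ^ 18 - 1)) 70 ?_ ?_ ?_ ?_ (by norm_num) (by norm_num)
  · rw [h]
    ring
  · intro hdvd
    have h1 : p ∣ q - 1 := dvd_trans hdvd (Nat.gcd_dvd_right 2 (q - 1))
    have h2 := hnd 1 le_rfl
    rw [pow_one] at h2
    exact h2 h1
  · intro hdvd
    rcases (Nat.Prime.dvd_mul hp).mp hdvd with h1 | h1
    · rcases (Nat.Prime.dvd_mul hp).mp h1 with h1 | h1
      · rcases (Nat.Prime.dvd_mul hp).mp h1 with h1 | h1
        · rcases (Nat.Prime.dvd_mul hp).mp h1 with h1 | h1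
          · rcases (Nat.Prime.dvd_mul hp).mp h1 with h1 | h1
            · rcases (Nat.Prime.dvd_mul hp).mp h1 with h1 | h1
              · exact hnd 2 (by norm_num) h1
              · exact hnd 6 (by norm_num) h1
            · exact hnd 8 (by norm_num) h1
          · exact hnd 10 (by norm_num) h1
        · exact hnd 12 (by norm_num) h1
      · exact hnd 14 (by norm_num) h1
    · exact hnd 18 (by norm_num) h1
  · have hc : 1 ≤ Nat.gcd 2 (q - 1) := Nat.gcd_pos_of_pos_left _ (by norm_num)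
    have hle : (q ^ 2 - 1) * (q ^ 6 - 1) * (q ^ 8 - 1) * (q ^ 10 - 1) * (q ^ 12 - 1) * (q ^ 14 - 1) ≤
        q ^ 2 * q ^ 6 * q ^ 8 * q ^ 10 * q ^ 12 * q ^ 14 := by
      gcongr <;> exact Nat.sub_le _ _
    have hlt : q ^ 18 - 1 < q ^ 18 := by have := hqpos 18; omega
    have hpos : 0 < q ^ 2 * q ^ 6 * q ^ 8 * q ^ 10 * q ^ 12 * q ^ 14 := by positivity
    calc (q ^ 2 - 1) * (q ^ 6 - 1) * (q ^ 8 - 1) * (q ^ 10 - 1) * (q ^ 12 - 1) * (q ^ 14 - 1) *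
          (q ^ 18 - 1)
        ≤ q ^ 2 * q ^ 6 * q ^ 8 * q ^ 10 * q ^ 12 * q ^ 14 * (q ^ 18 - 1) :=
          Nat.mul_le_mul_right _ hle
      _ < q ^ 2 * q ^ 6 * q ^ 8 * q ^ 10 * q ^ 12 * q ^ 14 * q ^ 18 :=
          Nat.mul_lt_mul_of_pos_left hlt hpos
      _ = 1 * q ^ 70 := by ring
      _ ≤ Nat.gcd 2 (q - 1) * q ^ 70 := Nat.mul_le_mul_right _ hc

/-- E7 from the order formula (hypothesis `hS` = the statement of S1064 for `F`). -/
theorem h54_lo_e7_core {F : Type} [Field F] [Fintype F] (p : ℕ) (hp : p.Prime) [CharP F p]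
    (hS : ∀ q : ℕ, Fintype.card F = q → Nat.gcd 2 (q - 1) * Nat.card ↥(Cfsg.Lie.chevE7.group F) =
      q ^ 63 * (q ^ 2 - 1) * (q ^ 6 - 1) * (q ^ 8 - 1) * (q ^ 10 - 1) * (q ^ 12 - 1) *
        (q ^ 14 - 1) * (q ^ 18 - 1)) :
    LOGood p (Nat.card ↥(Cfsg.Lie.chevE7.group F)) := by
  obtain ⟨f, _, hf⟩ := FiniteField.card F p
  exact h54_lo_e7_arith p hp (f : ℕ) f.pos _ (hS _ hf)

end Cfsg.Agent.Lib.helper44.LO
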