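import Mathlib
import Cfsg.Agent.Lib.helper54.MetaIdxDefs

set_option autoImplicit false

/-!
# S4245: the cases `p = 2` (pieces C1 and C5; helper54's own copies)
-/

namespace Cfsg.Agent.Lib.helper54.MetaIdx

universe u

/-- **C5**. `p = 2`, `B = 1`: `G` is a `2`-group. -/
theorem h54_case_two_bot {G : Type u} [Group G] [Finite G] (A : Subgroup G) (B : Subgroup A)
    [B.Normal] (s r : ℕ) (hA : A.index = 2 ^ s) (hr : Nat.card (A ⧸ B) = 2 ^ r) (hB : B = ⊥) :
    ∃ n : ℕ, Nat.card G = 2 ^ n := by
  refine ⟨r + s, ?_⟩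
  have h1 : Nat.card A = Nat.card (A ⧸ B) * Nat.card B :=
    Subgroup.card_eq_card_quotient_mul_card_subgroup B
  have h2 : Nat.card B = 1 := by
    rw [hB]
    exact Subgroup.card_bot
  have h3 : Nat.card A * A.index = Nat.card G := Subgroup.card_mul_index A
  rw [← h3, h1, h2, hr, hA, mul_one, pow_add]

/-- **C1**. `p = 2`, `B ≠ 1`: a non-identity element of `B` has a conjugacy class of `2`-power
size. -/
theorem h54_case_two {G : Type u} [Group G] [Finite G] (A : Subgroup G) (B : Subgroup A)
    [B.Normal] (hB : IsCyclic B) (s r : ℕ) (hA : A.index = 2 ^ s)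
    (hr : Nat.card (A ⧸ B) = 2 ^ r) (hne : B ≠ ⊥) :
    ∃ x : G, x ≠ 1 ∧ ∃ k : ℕ, (Subgroup.centralizer ({x} : Set G)).index = 2 ^ k := by
  obtain ⟨b, hb⟩ := Subgroup.ne_bot_iff_exists_ne_one.mp hne
  refine ⟨((b : A) : G), ?_, ?_⟩
  · intro h
    apply hb
    apply Subtype.ext
    apply Subtype.ext
    simpa using h
  · have hle : B.map A.subtype ≤ Subgroup.centralizer ({((b : A) : G)} : Set G) := by
      rintro _ ⟨c, hc, rfl⟩
      rw [Subgroup.mem_centralizer_iff]
      intro y hy
      rw [Set.mem_singleton_iff] at hy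
      subst hy
      have hcomm : (⟨c, hc⟩ : B) * b = b * ⟨c, hc⟩ := mul_comm' _ _
      have h2 := congrArg (fun t : B => ((t : A) : G)) hcomm
      simpa using h2.symm
    have hdvd : (Subgroup.centralizer ({((b : A) : G)} : Set G)).index ∣ 2 ^ (r + s) := by
      have h1 := Subgroup.index_dvd_of_le hle
      rw [Subgroup.index_map_subtype, Subgroup.index_eq_card B, hr, hA, ← pow_add] at h1
      exact h1
    obtain ⟨k, -, hk⟩ := (Nat.dvd_prime_pow Nat.prime_two).mp hdvd
    exact ⟨k, hk⟩

/-- **C3b**. A group of even order with cyclic Sylow `2`-subgroups has a normal subgroup of odd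
order and `2`-power index (Burnside's transfer theorem, from Mathlib). -/
theorem h54_two_complement {G : Type u} [Group G] [Finite G]
    (hcyc : ∀ T : Sylow 2 G, IsCyclic T) (heven : Even (Nat.card G)) :
    ∃ K : Subgroup G, K.Normal ∧ K ≠ ⊤ ∧ Odd (Nat.card K) ∧ ∃ j : ℕ, K.index = 2 ^ j := by
  have : Fact (Nat.Prime 2) := ⟨Nat.prime_two⟩
  have hmin : (Nat.card G).minFac = 2 := (Nat.minFac_eq_two_iff _).mpr (even_iff_two_dvd.mp heven)
  obtain ⟨T⟩ : Nonempty (Sylow 2 G) := inferInstance
  have hT : IsCyclic T := hcyc T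
  have hcompl := IsCyclic.isComplement' hmin hT
  set K : Subgroup G := (MonoidHom.transferSylow T (hT.normalizer_le_centralizer hmin)).ker
    with hKdef
  have hidx : K.index = Nat.card T := hcompl.symm.index_eq_card
  have hcardK : Nat.card K = (T : Subgroup G).index := hcompl.index_eq_card.symm
  have hTcard : Nat.card T = 2 ^ (Nat.card G).factorization 2 := T.card_eq_multiplicity
  have h2T : 2 ∣ Nat.card T := by
    have : 2 ∣ Nat.card G := even_iff_two_dvd.mp heven
    exact T.dvd_card_of_dvd_card this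
  refine ⟨K, MonoidHom.normal_ker _, ?_, ?_, (Nat.card G).factorization 2, ?_⟩
  · intro htop
    rw [htop, Subgroup.index_top] at hidx
    rw [← hidx] at h2T
    exact absurd h2T (by norm_num)
  · rw [hcardK, ← Nat.not_even_iff_odd, even_iff_two_dvd]
    exact T.not_dvd_index
  · rw [hidx, hTcard]

end Cfsg.Agent.Lib.helper54.MetaIdx
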