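import Mathlib
import Cfsg.Agent.Lib.helper54.MetaIdxDefs
import Cfsg.Agent.Lib.helper76.KazGroup
import Cfsg.Agent.Lib.helper54.MetaIdxC15
import Cfsg.Agent.Lib.helper75.MI_QUOT
import Cfsg.Agent.Lib.helper71.MI_C2
import Cfsg.Agent.Lib.helper80.MI_C3a
import Cfsg.Agent.Lib.helper80.MI_C3c
import Cfsg.Agent.Lib.helper89.MI_C4

set_option autoImplicit false

/-!
# S4245: assembly (Kazarin glue and the induction)
-/

namespace Cfsg.Agent.Lib.helper54.MetaIdx

universe u

/-- A group of prime power order is solvable. -/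
theorem solvable_of_card_prime_pow {G : Type u} [Group G] [Finite G] (p : ℕ) (hp : p.Prime)
    (n : ℕ) (h : Nat.card G = p ^ n) : Group.IsSolvable G := by
  haveI : Fact p.Prime := ⟨hp⟩
  have hpg : IsPGroup p G := IsPGroup.of_card h
  haveI := hpg.isNilpotent
  infer_instance

/-- An extension of a solvable group by a solvable group is solvable. -/
theorem solvable_of_normal_of_quotient {G : Type u} [Group G] (N : Subgroup G) [N.Normal]
    (h1 : Group.IsSolvable N) (h2 : Group.IsSolvable (G ⧸ N)) : Group.IsSolvable G := by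
  refine Group.isSolvable_of_ker_le_range N.subtype (QuotientGroup.mk' N) ?_
  rw [QuotientGroup.ker_mk', Subgroup.range_subtype]

/-- Kazarin: an element with a conjugacy class of prime power size generates a nontrivial solvable
normal subgroup. -/
theorem exists_solvable_normal {G : Type u} [Group G] [Finite G] (q : ℕ) (hq : q.Prime) (x : G)
    (hx : x ≠ 1) (k : ℕ) (hk : (Subgroup.centralizer ({x} : Set G)).index = q ^ k) :
    ∃ N : Subgroup G, N.Normal ∧ N ≠ ⊥ ∧ Group.IsSolvable N := by
  refine ⟨Subgroup.normalClosure {x}, Subgroup.normalClosure_normal, ?_,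
    Cfsg.Agent.Lib.helper76.kazarin hq x k hk⟩
  intro h
  have hmem : x ∈ Subgroup.normalClosure ({x} : Set G) :=
    Subgroup.subset_normalClosure (Set.mem_singleton x)
  rw [h, Subgroup.mem_bot] at hmem
  exact hx hmem

/-- The induction. -/
theorem main_aux (p : ℕ) (hp : p.Prime) :
    ∀ (n : ℕ) (G : Type u) [Group G] [Finite G], Nat.card G = n → Q p G →
      Group.IsSolvable G := by
  intro n
  induction n using Nat.strong_induction_on with
  | _ n ih =>
  intro G _ _ hcard hQ
  have hx_case : ∀ q : ℕ, q.Prime →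
      (∃ x : G, x ≠ 1 ∧ ∃ k : ℕ, (Subgroup.centralizer ({x} : Set G)).index = q ^ k) →
      Group.IsSolvable G := by
    rintro q hq ⟨x, hx, k, hk⟩
    obtain ⟨N, hNn, hNbot, hNsolv⟩ := exists_solvable_normal q hq x hx k hk
    have := hNn
    have hQN : Q p (G ⧸ N) := Cfsg.Agent.Lib.helper75.MetaIdx.q_quot p hp N hQ
    have h1 : 1 < Nat.card N := N.one_lt_card_iff_ne_bot.mpr hNbot
    have h2 : Nat.card G = Nat.card (G ⧸ N) * Nat.card N :=
      Subgroup.card_eq_card_quotient_mul_card_subgroup N
    have h3 : 0 < Nat.card (G ⧸ N) := Nat.card_pos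
    have hlt : Nat.card (G ⧸ N) < n := by
      rw [← hcard, h2]
      exact lt_mul_of_one_lt_right h3 h1
    exact solvable_of_normal_of_quotient N hNsolv (ih _ hlt (G ⧸ N) rfl hQN)
  obtain ⟨A, B, hBn, hB, hAB, ⟨s, hA⟩, ⟨r, hr⟩⟩ := hQ
  have := hBn
  by_cases hp2 : p = 2
  · subst hp2
    by_cases hbot : B = ⊥
    · obtain ⟨m, hm⟩ := h54_case_two_bot A B s r hA hr hbot
      exact solvable_of_card_prime_pow 2 Nat.prime_two m hm
    · exact hx_case 2 Nat.prime_two (h54_case_two A B hB s r hA hr hbot)
  · by_cases heven : 2 ∣ Nat.card B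
    · exact hx_case p hp (Cfsg.Agent.Lib.helper71.mi_case_even p hp A B hB s hA heven)
    · have hodd : Odd (Nat.card B) := by
        rw [← Nat.not_even_iff_odd, even_iff_two_dvd]
        exact heven
      by_cases hGe : Even (Nat.card G)
      · have hcyc := Cfsg.Agent.Lib.helper80.mi_sylow_two_cyclic p hp hp2 A B hAB s hA hodd
        obtain ⟨K, hKn, hKtop, hKodd, j, hKj⟩ := h54_two_complement hcyc hGe
        have := hKn
        have hQK : Q p K := Cfsg.Agent.Lib.helper80.mi_q_of_complement p hp hp2 A B hB s r hA hr hodd K hKodd j hKj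
        have hlt : Nat.card K < n := by
          rw [← hcard]
          exact lt_of_le_of_ne (Subgroup.card_le_card_group K)
            (fun h => hKtop (Subgroup.eq_top_of_card_eq K h))
        have hK : Group.IsSolvable K := ih _ hlt K rfl hQK
        have hGK : Group.IsSolvable (G ⧸ K) :=
          solvable_of_card_prime_pow 2 Nat.prime_two j (by
            rw [← Subgroup.index_eq_card]; exact hKj)
        exact solvable_of_normal_of_quotient K hK hGK
      · have hGo : Odd (Nat.card G) := Nat.not_even_iff_odd.mp hGe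
        rcases case_odd_odd p hp A B hB s r hA hr hGo with h | ⟨m, hm⟩
        · exact hx_case p hp h
        · exact solvable_of_card_prime_pow p hp m hm

/-- S4245 in `Q` form. -/
theorem main {G : Type u} [Group G] [Finite G] (p : ℕ) (hp : p.Prime) (h : Q p G) :
    Group.IsSolvable G :=
  main_aux p hp _ G rfl h

end Cfsg.Agent.Lib.helper54.MetaIdx
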