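import Mathlib
import Cfsg.Agent.Lib.helper3.Class2
import Cfsg.Agent.Lib.helper3.PGroupFrattini
import Cfsg.Agent.Lib.helper54.CharP

/-!
For `p` odd, a `p'`-element normalizing a `p`-group `Q` and centralizing all elements of order
dividing `p` of `Q` centralizes `Q` (Gorenstein 5.3.10 / Huppert IV.5.12), in elementwise ambient
form (helper54).

* `powCommSubgroup p Q`: the subgroup generated by the `p`-th powers and the commutators of `Q`
  (the Frattini subgroup of a `p`-group `Q`), with `powCommSubgroup_le`, `powCommSubgroup_lt`,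
  `mem_normalizer_powCommSubgroup`, `conj_mem_powCommSubgroup`.
* `commute_of_commute_omega_odd`.
-/

set_option autoImplicit false

namespace Cfsg.Agent.Lib.helper54

open Cfsg.Agent.Lib.helper53
open scoped commutatorElement

/-- The subgroup generated by the `p`-th powers and the commutators of elements of `Q`. -/
def powCommSubgroup {G : Type*} [Group G] (p : ℕ) (Q : Subgroup G) : Subgroup G :=
  Subgroup.closure ({y | ∃ q ∈ Q, y = q ^ p} ∪ {y | ∃ a ∈ Q, ∃ b ∈ Q, y = ⁅a, b⁆})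

theorem powCommSubgroup_le {G : Type*} [Group G] (p : ℕ) (Q : Subgroup G) :
    powCommSubgroup p Q ≤ Q := by
  unfold powCommSubgroup
  rw [Subgroup.closure_le]
  rintro y (⟨q, hq, rfl⟩ | ⟨a, ha, b, hb, rfl⟩)
  · exact Q.pow_mem hq p
  · rw [commutatorElement_def]
    exact Q.mul_mem (Q.mul_mem (Q.mul_mem ha hb) (Q.inv_mem ha)) (Q.inv_mem hb)

theorem pow_mem_powCommSubgroup {G : Type*} [Group G] (p : ℕ) {Q : Subgroup G} {q : G}
    (hq : q ∈ Q) : q ^ p ∈ powCommSubgroup p Q :=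
  Subgroup.subset_closure (Or.inl ⟨q, hq, rfl⟩)

theorem commutator_mem_powCommSubgroup {G : Type*} [Group G] (p : ℕ) {Q : Subgroup G} {a b : G}
    (ha : a ∈ Q) (hb : b ∈ Q) : ⁅a, b⁆ ∈ powCommSubgroup p Q :=
  Subgroup.subset_closure (Or.inr ⟨a, ha, b, hb, rfl⟩)

/-- `powCommSubgroup p Q` is normalized by `Q`. -/
theorem conj_mem_powCommSubgroup {G : Type*} [Group G] (p : ℕ) {Q : Subgroup G} {q f : G}
    (hq : q ∈ Q) (hf : f ∈ powCommSubgroup p Q) : q * f * q⁻¹ ∈ powCommSubgroup p Q := by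
  have h1 : q * f * q⁻¹ = ⁅q, f⁆ * f := by rw [commutatorElement_def]; group
  rw [h1]
  exact Subgroup.mul_mem _ (commutator_mem_powCommSubgroup p hq (powCommSubgroup_le p Q hf)) hf

/-- For a nontrivial finite `p`-group `Q` the subgroup `powCommSubgroup p Q` is proper. -/
theorem powCommSubgroup_lt {G : Type*} [Group G] [Finite G] {p : ℕ} [Fact p.Prime]
    {Q : Subgroup G} (hQ : IsPGroup p Q) (hne : Q ≠ ⊥) : powCommSubgroup p Q < Q := by
  have hnt : Nontrivial ↥Q := (Subgroup.nontrivial_iff_ne_bot Q).mpr hne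
  obtain ⟨M, hM, -⟩ := (eq_top_or_exists_le_coatom (⊥ : Subgroup ↥Q)).resolve_left bot_ne_top
  have hle : powCommSubgroup p Q ≤ M.map Q.subtype := by
    unfold powCommSubgroup
    rw [Subgroup.closure_le]
    rintro y (⟨q, hq, rfl⟩ | ⟨a, ha, b, hb, rfl⟩)
    · exact ⟨(⟨q, hq⟩ : ↥Q) ^ p,
        Cfsg.Agent.Lib.helper3.pow_prime_mem_coatom hQ hM ⟨q, hq⟩, rfl⟩
    · refine ⟨⁅(⟨a, ha⟩ : ↥Q), ⟨b, hb⟩⁆, ?_, rfl⟩
      apply Cfsg.Agent.Lib.helper3.commutator_le_coatom hQ hM
      rw [commutator_def]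
      exact Subgroup.commutator_mem_commutator (Subgroup.mem_top _) (Subgroup.mem_top _)
  refine lt_of_le_of_lt hle ?_
  refine lt_of_le_of_ne (Subgroup.map_subtype_le _) ?_
  intro h
  apply hM.1
  rw [eq_top_iff]
  intro y _
  have h1 : (y : G) ∈ M.map Q.subtype := by rw [h]; exact y.2
  obtain ⟨m, hm, hmy⟩ := h1
  have h2 : m = y := Subtype.ext hmy
  rwa [← h2]

/-- An element normalizing `Q` normalizes `powCommSubgroup p Q`. -/
theorem mem_normalizer_powCommSubgroup {G : Type*} [Group G] [Finite G] (p : ℕ)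
    {Q : Subgroup G} {x : G} (hx : x ∈ Subgroup.normalizer (Q : Set G)) :
    x ∈ Subgroup.normalizer ((powCommSubgroup p Q : Subgroup G) : Set G) := by
  apply mem_normalizer_of_conj_le
  rw [Subgroup.map_le_iff_le_comap]
  have hconj : ∀ q ∈ Q, x * q * x⁻¹ ∈ Q := fun q hq => (Subgroup.mem_normalizer_iff.mp hx q).mp hq
  show powCommSubgroup p Q ≤ _
  unfold powCommSubgroup
  rw [Subgroup.closure_le]
  rintro y (⟨q, hq, rfl⟩ | ⟨a, ha, b, hb, rfl⟩)
  · rw [SetLike.mem_coe, Subgroup.mem_comap]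
    apply Subgroup.subset_closure
    left
    refine ⟨x * q * x⁻¹, hconj q hq, ?_⟩
    show x * q ^ p * x⁻¹ = (x * q * x⁻¹) ^ p
    rw [conj_pow]
  · rw [SetLike.mem_coe, Subgroup.mem_comap]
    apply Subgroup.subset_closure
    right
    refine ⟨x * a * x⁻¹, hconj a ha, x * b * x⁻¹, hconj b hb, ?_⟩
    show x * ⁅a, b⁆ * x⁻¹ = ⁅x * a * x⁻¹, x * b * x⁻¹⁆
    simp only [commutatorElement_def]
    group

/-- For `p` odd: a `p'`-element `x` normalizing the `p`-group `Q` and commuting with every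
element of `Q` of order dividing `p` centralizes `Q`. -/
theorem commute_of_commute_omega_odd {G : Type*} [Group G] [Finite G] {p : ℕ} [Fact p.Prime]
    (hp2 : p ≠ 2) (x : G) (hx : (orderOf x).Coprime p) (Q : Subgroup G) (hQ : IsPGroup p Q)
    (hxQ : x ∈ Subgroup.normalizer (Q : Set G))
    (hom : ∀ q ∈ Q, q ^ p = 1 → x * q = q * x) : ∀ q ∈ Q, x * q = q * x := by
  have hpp : p.Prime := Fact.out
  induction Q using WellFoundedLT.induction with
  | ind Q ih =>
    have hconj : ∀ q ∈ Q, x * q * x⁻¹ ∈ Q :=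
      fun q hq => (Subgroup.mem_normalizer_iff.mp hxQ q).mp hq
    have hcmem : ∀ q ∈ Q, q⁻¹ * (x * q * x⁻¹) ∈ Q :=
      fun q hq => Q.mul_mem (Q.inv_mem hq) (hconj q hq)
    by_cases hbot : Q = ⊥
    · intro q hq
      rw [hbot, Subgroup.mem_bot] at hq
      rw [hq, mul_one, one_mul]
    by_cases hQ₁ : Subgroup.closure {y | ∃ q ∈ Q, y = q⁻¹ * (x * q * x⁻¹)} = Q
    · -- main case: `Q = [Q, x]`
      have hΦlt : powCommSubgroup p Q < Q := powCommSubgroup_lt hQ hbot
      have hΦc : ∀ f ∈ powCommSubgroup p Q, x * f = f * x :=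
        ih (powCommSubgroup p Q) hΦlt (hQ.to_le hΦlt.le) (mem_normalizer_powCommSubgroup p hxQ)
          (fun q hq => hom q (hΦlt.le hq))
      have hcent : ∀ f ∈ powCommSubgroup p Q, ∀ q ∈ Q, q * f = f * q := by
        intro f hf
        have h1 : Subgroup.closure {y | ∃ q ∈ Q, y = q⁻¹ * (x * q * x⁻¹)} ≤
            Subgroup.centralizer ({f} : Set G) := by
          rw [Subgroup.closure_le]
          rintro _ ⟨q, hq, rfl⟩
          rw [SetLike.mem_coe, Subgroup.mem_centralizer_iff]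
          intro h hh
          rw [Set.mem_singleton_iff] at hh
          subst hh
          have hf' : q * h * q⁻¹ ∈ powCommSubgroup p Q := conj_mem_powCommSubgroup p hq hf
          have h2 := hΦc h hf
          have h3 := hΦc _ hf'
          have h4 : x⁻¹ * h * x = h := by
            calc x⁻¹ * h * x = x⁻¹ * (h * x) := by group
              _ = x⁻¹ * (x * h) := by rw [h2]
              _ = h := by group
          have h5 : x * (q * h * q⁻¹) * x⁻¹ = q * h * q⁻¹ := by
            rw [h3]; group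
          have key : q⁻¹ * (x * q * x⁻¹) * h * (q⁻¹ * (x * q * x⁻¹))⁻¹ = h := by
            calc q⁻¹ * (x * q * x⁻¹) * h * (q⁻¹ * (x * q * x⁻¹))⁻¹
                = q⁻¹ * x * q * (x⁻¹ * h * x) * q⁻¹ * x⁻¹ * q := by group
              _ = q⁻¹ * x * q * h * q⁻¹ * x⁻¹ * q := by rw [h4]
              _ = q⁻¹ * (x * (q * h * q⁻¹) * x⁻¹) * q := by group
              _ = q⁻¹ * (q * h * q⁻¹) * q := by rw [h5]
              _ = h := by group
          calc h * (q⁻¹ * (x * q * x⁻¹))
              = q⁻¹ * (x * q * x⁻¹) * h * (q⁻¹ * (x * q * x⁻¹))⁻¹ * (q⁻¹ * (x * q * x⁻¹)) := by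
                rw [key]
            _ = q⁻¹ * (x * q * x⁻¹) * h := by group
        intro q hq
        have h2 : q ∈ Subgroup.centralizer ({f} : Set G) := h1 (by rw [hQ₁]; exact hq)
        exact (Subgroup.mem_centralizer_iff.mp h2 f rfl).symm
      have hcc : Cfsg.Agent.Lib.helper3.CommCentral ↥Q := by
        intro a b z
        apply Subtype.ext
        have hmem : ((⁅a, b⁆ : ↥Q) : G) ∈ powCommSubgroup p Q := by
          have h1 : ((⁅a, b⁆ : ↥Q) : G) = ⁅(a : G), (b : G)⁆ := by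
            simp [commutatorElement_def]
          rw [h1]
          exact commutator_mem_powCommSubgroup p a.2 b.2
        have h2 := hcent _ hmem (z : G) z.2
        rw [Subgroup.coe_mul, Subgroup.coe_mul]
        exact h2.symm
      apply commute_of_stabilizes Q hQ x hx
      intro q hq
      have hc := hcmem q hq
      refine ⟨q⁻¹ * (x * q * x⁻¹), hc, by group, ?_⟩
      apply hom _ hc
      -- the `p`-th power of `c = q⁻¹ (x q x⁻¹)` is trivial
      have hcomm_p : ⁅(⟨q⁻¹ * (x * q * x⁻¹), hc⟩ : ↥Q), (⟨q, hq⟩ : ↥Q)⁆ ^ p = 1 := by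
        rw [← Cfsg.Agent.Lib.helper3.commutator_pow_left_class2 hcc]
        rw [commutatorElement_eq_one_iff_commute]
        apply Subtype.ext
        have h1 : (q⁻¹ * (x * q * x⁻¹)) ^ p ∈ powCommSubgroup p Q := pow_mem_powCommSubgroup p hc
        have h2 := hcent _ h1 q hq
        rw [Subgroup.coe_mul, Subgroup.coe_mul, Subgroup.coe_pow]
        exact h2.symm
      have h3 := Cfsg.Agent.Lib.helper3.mul_pow_prime_class2 hcc hpp hp2 (⟨q, hq⟩ : ↥Q)
        ⟨q⁻¹ * (x * q * x⁻¹), hc⟩ hcomm_p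
      have h4 : (q * (q⁻¹ * (x * q * x⁻¹))) ^ p = q ^ p * (q⁻¹ * (x * q * x⁻¹)) ^ p := by
        have h5 := congrArg Subtype.val h3
        simpa using h5
      have h6 : q * (q⁻¹ * (x * q * x⁻¹)) = x * q * x⁻¹ := by group
      rw [h6, conj_pow] at h4
      have h7 : x * q ^ p * x⁻¹ = q ^ p := by
        rw [hΦc _ (pow_mem_powCommSubgroup p hq)]; group
      rw [h7] at h4
      have h8 : q ^ p * 1 = q ^ p * (q⁻¹ * (x * q * x⁻¹)) ^ p := by rw [mul_one]; exact h4
      exact (mul_left_cancel h8).symm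
    · -- `[Q, x] < Q`
      have hQ₁le : Subgroup.closure {y | ∃ q ∈ Q, y = q⁻¹ * (x * q * x⁻¹)} ≤ Q := by
        rw [Subgroup.closure_le]
        rintro _ ⟨q, hq, rfl⟩
        exact hcmem q hq
      have hlt : Subgroup.closure {y | ∃ q ∈ Q, y = q⁻¹ * (x * q * x⁻¹)} < Q :=
        lt_of_le_of_ne hQ₁le hQ₁
      have hxQ₁ : x ∈ Subgroup.normalizer
          ((Subgroup.closure {y | ∃ q ∈ Q, y = q⁻¹ * (x * q * x⁻¹)} : Subgroup G) : Set G) := by
        apply mem_normalizer_of_conj_le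
        rw [Subgroup.map_le_iff_le_comap, Subgroup.closure_le]
        rintro _ ⟨q, hq, rfl⟩
        rw [SetLike.mem_coe, Subgroup.mem_comap]
        apply Subgroup.subset_closure
        refine ⟨x * q * x⁻¹, hconj q hq, ?_⟩
        show x * (q⁻¹ * (x * q * x⁻¹)) * x⁻¹ = (x * q * x⁻¹)⁻¹ * (x * (x * q * x⁻¹) * x⁻¹)
        group
      have h1 := ih _ hlt (hQ.to_le hQ₁le) hxQ₁ (fun q hq => hom q (hQ₁le hq))
      apply commute_of_stabilizes Q hQ x hx
      intro q hq
      exact ⟨q⁻¹ * (x * q * x⁻¹), hcmem q hq, by group,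
        h1 _ (Subgroup.subset_closure ⟨q, hq, rfl⟩)⟩

end Cfsg.Agent.Lib.helper54
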