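import Mathlib
import Cfsg.Prelude.Def_LocalEven
import Cfsg.Agent.Lib.helper53.SylowExtra
import Cfsg.Agent.Lib.helper65.Subnormal
import Cfsg.Agent.Lib.helper12.SylowNormal
import Cfsg.Agent.Lib.helper40.PResidual

/-!
Structure of `p`-minimal groups (a Sylow `p`-subgroup is not normal and lies in a unique maximal
subgroup).
-/

set_option autoImplicit false

namespace Cfsg.Agent.Lib.helper54

variable {P : Type*} [Group P] [Finite P] {p : ℕ} [Fact p.Prime]

/-- In a `p`-minimal group, a proper subgroup containing the Sylow subgroup `S` lies in the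
maximal subgroup `M` over `S`. -/
theorem pmin_le_of_ne_top (hP : Cfsg.IsPMinimal p P) (S : Sylow p P) {M : Subgroup P}
    (hM : IsCoatom M) (hSM : (S : Subgroup P) ≤ M) {X : Subgroup P}
    (hSX : (S : Subgroup P) ≤ X) (hX : X ≠ ⊤) : X ≤ M := by
  obtain ⟨M', hM', hXM'⟩ := (eq_top_or_exists_le_coatom X).resolve_left hX
  have h := (hP S).2.unique ⟨hM', hSX.trans hXM'⟩ ⟨hM, hSM⟩
  rw [← h]; exact hXM'

theorem pmin_pResidual_not_le (S : Sylow p P) {M : Subgroup P}
    (hM : IsCoatom M) (hSM : (S : Subgroup P) ≤ M) : ¬ Cfsg.pResidual p P ≤ M := by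
  intro h
  have h1 := Cfsg.Agent.Lib.helper53.pResidual_sup_sylow (p := p) S
  exact hM.1 (top_le_iff.mp (h1 ▸ sup_le h hSM))

/-- Every normal subgroup of a `p`-minimal group contains `O^p(P)` or lies in the core of `M`. -/
theorem pmin_normal_dichotomy (hP : Cfsg.IsPMinimal p P) (S : Sylow p P) {M : Subgroup P}
    (hM : IsCoatom M) (hSM : (S : Subgroup P) ≤ M) (N : Subgroup P) (hN : N.Normal) :
    Cfsg.pResidual p P ≤ N ∨ N ≤ M.normalCore := by
  by_cases hNM : N ≤ M
  · right
    exact (Subgroup.normal_le_normalCore (H := M) (N := N)).mpr hNM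
  · left
    have htop : N ⊔ (S : Subgroup P) = ⊤ := by
      by_contra hne
      exact hNM (le_sup_left.trans (pmin_le_of_ne_top hP S hM hSM le_sup_right hne))
    exact Cfsg.Agent.Lib.helper53.pResidual_le_of_sup_eq_top S.isPGroup' htop

/-- The Sylow subgroup of the core of `M` is normal in `P`. -/
theorem pmin_core_inf_le_pCore (hP : Cfsg.IsPMinimal p P) (S : Sylow p P) {M : Subgroup P}
    (hM : IsCoatom M) (hSM : (S : Subgroup P) ≤ M) [hF : M.normalCore.Normal] :
    (S : Subgroup P) ⊓ M.normalCore ≤ Cfsg.pCore p P := by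
  obtain ⟨Q, hQ⟩ := Cfsg.Agent.Lib.helper53.exists_sylow_eq_inf_normal S M.normalCore
  have hfr := Sylow.normalizer_sup_eq_top Q
  rw [hQ] at hfr
  have hSn : (S : Subgroup P) ≤
      Subgroup.normalizer (((S : Subgroup P) ⊓ M.normalCore : Subgroup P) : Set P) :=
    Cfsg.Agent.Lib.helper53.le_normalizer_inf_of_normal _ _
  have htop : Subgroup.normalizer (((S : Subgroup P) ⊓ M.normalCore : Subgroup P) : Set P) = ⊤ := by
    by_contra hne
    have h1 := pmin_le_of_ne_top hP S hM hSM hSn hne
    have h2 : (⊤ : Subgroup P) ≤ M := by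
      rw [← hfr]; exact sup_le h1 (Subgroup.normalCore_le M)
    exact hM.1 (top_le_iff.mp h2)
  refine Cfsg.Agent.Lib.helper53.le_pCore_of_normalizer_eq_top (fun g => ?_)
    (S.isPGroup'.to_le inf_le_left)
  rw [htop]; exact Subgroup.mem_top g

/-- `O^p(P) F / F` is minimal normal: normal subgroups between the core `F` of `M` and `O^p(P) F`. -/
theorem pmin_between (hP : Cfsg.IsPMinimal p P) (S : Sylow p P) {M : Subgroup P}
    (hM : IsCoatom M) (hSM : (S : Subgroup P) ≤ M) (N : Subgroup P) (hN : N.Normal)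
    (hFN : M.normalCore ≤ N) (hNR : N ≤ Cfsg.pResidual p P ⊔ M.normalCore) :
    N = M.normalCore ∨ N = Cfsg.pResidual p P ⊔ M.normalCore := by
  rcases pmin_normal_dichotomy hP S hM hSM N hN with h | h
  · right; exact le_antisymm hNR (sup_le h hFN)
  · left; exact le_antisymm h hFN

/-- Every subnormal subgroup of a `p`-minimal group inside `M` lies in the core of `M`. -/
theorem pmin_subnormal_le_core (hP : Cfsg.IsPMinimal p P) (S : Sylow p P) {M : Subgroup P}
    (hM : IsCoatom M) (hSM : (S : Subgroup P) ≤ M) [hF : M.normalCore.Normal]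
    (N : Subgroup P) (hN : N.IsSubnormal) (hNM : N ≤ M) : N ≤ M.normalCore := by
  have hRn : (Cfsg.pResidual p P).Normal := Cfsg.Agent.Lib.helper53.pResidual_normal p P
  set F := M.normalCore with hFdef
  set R := Cfsg.pResidual p P with hRdef
  set π := QuotientGroup.mk' F with hπ
  have hπs : Function.Surjective π := QuotientGroup.mk'_surjective F
  -- the image of `R` is a minimal normal subgroup of `P ⧸ F`
  have hmin : Cfsg.Agent.Lib.helper65.IsMinInv (⊤ : Subgroup (P ⧸ F)) (R.map π) := by
    refine ⟨?_, ?_, ?_⟩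
    · intro hbot
      have : R ≤ F := by
        intro r hr
        have : π r ∈ R.map π := Subgroup.mem_map_of_mem _ hr
        rw [hbot, Subgroup.mem_bot] at this
        exact (QuotientGroup.eq_one_iff r).mp this
      exact pmin_pResidual_not_le S hM hSM (this.trans (Subgroup.normalCore_le M))
    · have : (R.map π).Normal := Subgroup.Normal.map hRn π hπs
      rw [Subgroup.normalizer_eq_top]
    · intro N₁ hN₁ hN₁n
      have hN₁n' : N₁.Normal := Subgroup.normalizer_eq_top_iff.mp (top_le_iff.mp hN₁n)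
      have hcn : (N₁.comap π).Normal := Subgroup.Normal.comap hN₁n' π
      have hFle : F ≤ N₁.comap π := by
        intro x hx
        rw [Subgroup.mem_comap]
        have : π x = 1 := (QuotientGroup.eq_one_iff x).mpr hx
        rw [this]; exact N₁.one_mem
      have hle : N₁.comap π ≤ R ⊔ F := by
        intro x hx
        rw [Subgroup.mem_comap] at hx
        obtain ⟨r, hr, hrx⟩ := Subgroup.mem_map.mp (hN₁ hx)
        have h1 : r⁻¹ * x ∈ F := by
          rw [← QuotientGroup.eq_one_iff]
          change π (r⁻¹ * x) = 1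
          rw [map_mul, map_inv, hrx]; group
        have : x = r * (r⁻¹ * x) := by group
        rw [this]
        exact Subgroup.mul_mem _ (Subgroup.mem_sup_left hr) (Subgroup.mem_sup_right h1)
      have hmm : (N₁.comap π).map π = N₁ := Subgroup.map_comap_eq_self_of_surjective hπs N₁
      rcases pmin_between hP S hM hSM (N₁.comap π) hcn hFle hle with h | h
      · left
        rw [← hmm, h]
        rw [eq_bot_iff]
        rintro _ ⟨x, hx, rfl⟩
        rw [Subgroup.mem_bot]
        exact (QuotientGroup.eq_one_iff x).mpr hx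
      · right
        rw [← hmm, h, Subgroup.map_sup]
        have : F.map π = ⊥ := by
          rw [eq_bot_iff]
          rintro _ ⟨x, hx, rfl⟩
          rw [Subgroup.mem_bot]
          exact (QuotientGroup.eq_one_iff x).mpr hx
        rw [this, sup_bot_eq]
  have hsn : (N.map π).IsSubnormal := hN.map hπs
  have hnorm := Cfsg.Agent.Lib.helper65.minNormal_le_normalizer_of_subnormal hsn hmin
  -- `R` normalizes `X = N ⊔ F`
  have hX : N ⊔ F ≤ M := sup_le hNM (Subgroup.normalCore_le M)
  have hXmem : ∀ x : P, x ∈ N ⊔ F ↔ π x ∈ N.map π := by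
    intro x
    constructor
    · intro hx
      have : (N ⊔ F).map π = N.map π := by
        rw [Subgroup.map_sup]
        have : F.map π = ⊥ := by
          rw [eq_bot_iff]
          rintro _ ⟨x, hx, rfl⟩
          rw [Subgroup.mem_bot]
          exact (QuotientGroup.eq_one_iff x).mpr hx
        rw [this, sup_bot_eq]
      rw [← this]; exact Subgroup.mem_map_of_mem _ hx
    · intro hx
      obtain ⟨n, hn, hnx⟩ := Subgroup.mem_map.mp hx
      have h1 : n⁻¹ * x ∈ F := by
        rw [← QuotientGroup.eq_one_iff]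
        change π (n⁻¹ * x) = 1
        rw [map_mul, map_inv, hnx]; group
      have : x = n * (n⁻¹ * x) := by group
      rw [this]
      exact Subgroup.mul_mem _ (Subgroup.mem_sup_left hn) (Subgroup.mem_sup_right h1)
  have hRX : ∀ r ∈ R, ∀ x ∈ N ⊔ F, r * x * r⁻¹ ∈ N ⊔ F := by
    intro r hr x hx
    rw [hXmem] at hx ⊢
    have h1 : π r ∈ Subgroup.normalizer ((N.map π : Subgroup (P ⧸ F)) : Set (P ⧸ F)) :=
      hnorm (Subgroup.mem_map_of_mem _ hr)
    rw [map_mul, map_mul, map_inv]
    exact (Subgroup.mem_normalizer_iff.mp h1 (π x)).mp hx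
  -- the normal closure of `X` lies in `M`
  have hcl : Subgroup.normalClosure ((N ⊔ F : Subgroup P) : Set P) ≤ M := by
    rw [Subgroup.normalClosure, Subgroup.closure_le]
    intro y hy
    obtain ⟨x, hx, hxy⟩ := Group.mem_conjugatesOfSet_iff.mp hy
    obtain ⟨g, rfl⟩ := isConj_iff.mp hxy
    have hg : g ∈ ((S : Subgroup P) ⊔ R : Subgroup P) := by
      rw [sup_comm, Cfsg.Agent.Lib.helper53.pResidual_sup_sylow S]; exact Subgroup.mem_top g
    rw [← SetLike.mem_coe, Subgroup.mul_normal] at hg
    obtain ⟨s, hs, r, hr, rfl⟩ := Set.mem_mul.mp hg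
    have h1 : r * x * r⁻¹ ∈ M := hX (hRX r hr x hx)
    have h2 : s * r * x * (s * r)⁻¹ = s * (r * x * r⁻¹) * s⁻¹ := by group
    rw [SetLike.mem_coe, h2]
    exact M.mul_mem (M.mul_mem (hSM hs) h1) (M.inv_mem (hSM hs))
  have h3 : Subgroup.normalClosure ((N ⊔ F : Subgroup P) : Set P) ≤ M.normalCore :=
    (Subgroup.normal_le_normalCore).mpr hcl
  exact (le_sup_left.trans Subgroup.le_normalClosure).trans h3

/-- If `O^p(P)` has a normal Sylow `p`-subgroup, then the order of the `p`-minimal group `P` has
at most two prime divisors. -/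
theorem pmin_two_primes (hP : Cfsg.IsPMinimal p P) (S : Sylow p P) {M : Subgroup P}
    (hM : IsCoatom M) (hSM : (S : Subgroup P) ≤ M)
    (hT : ∀ T : Sylow p ↥(Cfsg.pResidual p P), (T : Subgroup ↥(Cfsg.pResidual p P)).Normal) :
    (Nat.card P).primeFactors.card ≤ 2 := by
  by_contra hcard
  have hidx : M.index = 1 := by
    rw [Nat.eq_one_iff_not_exists_prime_dvd]
    intro q hq hqM
    haveI : Fact q.Prime := ⟨hq⟩
    by_cases hqp : q = p
    · subst hqp
      exact S.not_dvd_index (dvd_trans hqM (Subgroup.index_dvd_of_le hSM))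
    · set R := Cfsg.pResidual p P with hRdef
      haveI hRn : R.Normal := Cfsg.Agent.Lib.helper53.pResidual_normal p P
      obtain ⟨Tp⟩ := (inferInstance : Nonempty (Sylow p R))
      have hTpn := hT Tp
      haveI : (Tp : Subgroup R).Characteristic := Sylow.characteristic_of_normal Tp hTpn
      set Q₀ : Subgroup P := (Tp : Subgroup R).map R.subtype with hQ₀
      haveI hQ₀n : Q₀.Normal := ConjAct.normal_of_characteristic_of_normal
      have hQ₀p : IsPGroup p Q₀ := Tp.isPGroup'.map R.subtype
      have hQ₀S : Q₀ ≤ S :=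
        (Cfsg.Agent.Lib.helper53.le_pCore hQ₀n hQ₀p).trans
          (Cfsg.Agent.Lib.helper53.pCore_le_sylow S)
      obtain ⟨Tq⟩ := (inferInstance : Nonempty (Sylow q R))
      set T₀ : Subgroup P := (Tq : Subgroup R).map R.subtype with hT₀
      have hT₀q : IsPGroup q T₀ := Tq.isPGroup'.map R.subtype
      have hfr : Subgroup.normalizer (T₀ : Set P) ⊔ R = ⊤ := Sylow.normalizer_sup_eq_top Tq
      have hT₀idx : ¬ q ∣ T₀.index := by
        rw [hT₀, Subgroup.index_map_subtype]
        obtain ⟨j, hj⟩ := Cfsg.Agent.Lib.helper40.pResidual_index (p := p) (N := P)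
        intro hdvd
        rcases (Nat.Prime.dvd_mul hq).mp hdvd with h | h
        · exact Tq.not_dvd_index h
        · rw [hj] at h
          exact hqp ((Nat.prime_dvd_prime_iff_eq hq Fact.out).mp (hq.dvd_of_dvd_pow h))
      set K := Q₀ ⊔ T₀ with hK
      have hconjQ₀ : ∀ g : P, Q₀.map (MulAut.conj g).toMonoidHom = Q₀ := fun g =>
        Cfsg.Agent.Lib.helper53.conj_eq_self_iff.mpr
          (by rw [Subgroup.normalizer_eq_top]; exact Subgroup.mem_top g)
      have hNK : Subgroup.normalizer (T₀ : Set P) ≤ Subgroup.normalizer (K : Set P) := by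
        intro g hg
        rw [← Cfsg.Agent.Lib.helper53.conj_eq_self_iff] at hg ⊢
        rw [hK, Subgroup.map_sup, hg, hconjQ₀]
      have hNKtop : Subgroup.normalizer (K : Set P) ⊔ R = ⊤ :=
        top_le_iff.mp (hfr ▸ sup_le_sup_right hNK R)
      have hpidx : ¬ p ∣ (Subgroup.normalizer (K : Set P)).index := by
        rw [Cfsg.Agent.Lib.helper53.index_eq_relIndex_of_sup_eq_top (D := R)
          (M := Subgroup.normalizer (K : Set P)) (by rw [sup_comm]; exact hNKtop)]
        intro hdvd
        have h1 : (Subgroup.normalizer (K : Set P)).relIndex R ∣ Q₀.relIndex R :=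
          Subgroup.relIndex_dvd_of_le_left R (le_sup_left.trans Subgroup.le_normalizer)
        have h2 : Q₀.relIndex R = (Tp : Subgroup R).index := by
          rw [Subgroup.relIndex, hQ₀]
          congr 1
          exact Subgroup.comap_map_eq_self_of_injective R.subtype_injective _
        exact Tp.not_dvd_index (h2 ▸ dvd_trans hdvd h1)
      obtain ⟨g, hg⟩ := Cfsg.Agent.Lib.helper53.exists_conj_sylow_le_of_not_dvd_index S hpidx
      set K₁ := K.map (MulAut.conj g⁻¹).toMonoidHom with hK₁
      set T₁ := T₀.map (MulAut.conj g⁻¹).toMonoidHom with hT₁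
      have hT₁q : IsPGroup q T₁ := hT₀q.map _
      have hSK₁ : (S : Subgroup P) ≤ Subgroup.normalizer (K₁ : Set P) := by
        rw [hK₁, Cfsg.Agent.Lib.helper53.normalizer_conj, Cfsg.Agent.Lib.helper53.le_conj_iff,
          inv_inv]
        exact hg
      have hK₁eq : K₁ = Q₀ ⊔ T₁ := by
        rw [hK₁, hK, Subgroup.map_sup, hconjQ₀]
      have hT₁idx : ¬ q ∣ T₁.index := by
        rw [hT₁]
        have := Subgroup.index_map_equiv T₀ (MulAut.conj g⁻¹)
        rw [show ((MulAut.conj g⁻¹ : P ≃* P) : P →* P) = (MulAut.conj g⁻¹).toMonoidHom from rfl]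
          at this
        rw [this]; exact hT₀idx
      by_cases hXtop : (S : Subgroup P) ⊔ K₁ = ⊤
      · refine hcard ?_
        haveI hK₁n : K₁.Normal := by
          rw [← Subgroup.normalizer_eq_top_iff]
          exact top_le_iff.mp (hXtop ▸ sup_le hSK₁ Subgroup.le_normalizer)
        have h1 : K₁.index ∣ Nat.card (S : Subgroup P) := by
          have := Subgroup.relIndex_sup_right (H := (S : Subgroup P)) (K := K₁)
          rw [hXtop, Subgroup.relIndex_top_right] at this
          rw [this]; exact Subgroup.relIndex_dvd_card _ _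
        have h2 : Nat.card K₁ ∣ Nat.card Q₀ * Nat.card T₁ := by
          rw [hK₁eq]
          have := Cfsg.Agent.Lib.helper12.card_mul_relIndex (H := Q₀) (L := Q₀ ⊔ T₁) le_sup_left
          rw [← this, Subgroup.relIndex_sup_left]
          exact Nat.mul_dvd_mul_left _ (Subgroup.relIndex_dvd_card _ _)
        have h3 : Nat.card P ∣ Nat.card Q₀ * Nat.card T₁ * Nat.card (S : Subgroup P) := by
          rw [← Subgroup.card_mul_index K₁]; exact Nat.mul_dvd_mul h2 h1
        obtain ⟨a, ha⟩ := IsPGroup.iff_card.mp S.isPGroup'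
        obtain ⟨b, hb⟩ := IsPGroup.iff_card.mp hQ₀p
        obtain ⟨c, hc⟩ := IsPGroup.iff_card.mp hT₁q
        rw [ha, hb, hc] at h3
        have hsub : (Nat.card P).primeFactors ⊆ {p, q} := by
          intro r hr
          have hrp := Nat.prime_of_mem_primeFactors hr
          have hrd := (Nat.dvd_of_mem_primeFactors hr).trans h3
          rw [Finset.mem_insert, Finset.mem_singleton]
          rcases (Nat.Prime.dvd_mul hrp).mp hrd with h | h
          · rcases (Nat.Prime.dvd_mul hrp).mp h with h | h
            · left; exact (Nat.prime_dvd_prime_iff_eq hrp Fact.out).mp (hrp.dvd_of_dvd_pow h)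
            · right; exact (Nat.prime_dvd_prime_iff_eq hrp hq).mp (hrp.dvd_of_dvd_pow h)
          · left; exact (Nat.prime_dvd_prime_iff_eq hrp Fact.out).mp (hrp.dvd_of_dvd_pow h)
        exact (Finset.card_le_card hsub).trans Finset.card_le_two
      · have hXM := pmin_le_of_ne_top hP S hM hSM le_sup_left hXtop
        have hT₁M : T₁ ≤ M := by
          refine le_trans ?_ hXM
          rw [hK₁eq]
          exact le_sup_right.trans le_sup_right
        exact hT₁idx (dvd_trans hqM (Subgroup.index_dvd_of_le hT₁M))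
  exact hM.1 (Subgroup.index_eq_one.mp hidx)

end Cfsg.Agent.Lib.helper54
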