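import Mathlib
import Cfsg.Prelude.Def_LocalEven
import Cfsg.Prelude.Def_Local
import Cfsg.Agent.Lib.helper54.PMin
import Cfsg.Agent.Lib.helper28.Components
import Cfsg.Agent.Lib.helper28.Layer
import Cfsg.Agent.Lib.helper28.Fitting
import Cfsg.Agent.Lib.helper52.QSResidual
import Cfsg.Agent.Lib.helper27.Radical
import Cfsg.Agent.Lib.helper65.Subnormal
import Cfsg.Agent.Lib.helper53.Conj

/-!
`p`-minimal groups with `O_p = 1` and a component: `O^p(P) = F*(P) = E(P)`.
-/

set_option autoImplicit false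

namespace Cfsg.Agent.Lib.helper54

/-- `p`-minimality can be checked on a single Sylow `p`-subgroup. -/
theorem isPMinimal_of_sylow {Y : Type*} [Group Y] [Finite Y] {p : ℕ} [Fact p.Prime]
    (T₀ : Sylow p Y) (h1 : ¬ (T₀ : Subgroup Y).Normal)
    (h2 : ∃! M : Subgroup Y, IsCoatom M ∧ (T₀ : Subgroup Y) ≤ M) : Cfsg.IsPMinimal p Y := by
  intro T
  obtain ⟨g, hg⟩ := MulAction.exists_smul_eq Y T₀ T
  set e : Subgroup Y ≃o Subgroup Y := (MulAut.conj g).mapSubgroup with he
  have hT : (T : Subgroup Y) = e (T₀ : Subgroup Y) := by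
    rw [← hg]; rfl
  constructor
  · intro hn
    apply h1
    haveI := hn
    have h3 : g⁻¹ • T = T := Sylow.smul_eq_of_normal
    have h4 : T₀ = T := by
      rw [← h3, ← hg, inv_smul_smul]
    rw [h4]; exact hn
  · obtain ⟨M₀, ⟨hM₀c, hM₀T⟩, huniq⟩ := h2
    refine ⟨e M₀, ⟨(OrderIso.isCoatom_iff e M₀).mpr hM₀c, ?_⟩, ?_⟩
    · rw [hT]; exact e.monotone hM₀T
    · rintro M' ⟨hM'c, hTM'⟩
      have h5 : e.symm M' = M₀ := by
        refine huniq _ ⟨(OrderIso.isCoatom_iff e.symm M').mpr hM'c, ?_⟩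
        have := e.symm.monotone hTM'
        rw [hT, OrderIso.symm_apply_apply] at this
        exact this
      rw [← h5, OrderIso.apply_symm_apply]

variable {P : Type*} [Group P] [Finite P] {p : ℕ} [Fact p.Prime]

/-- With `O_p(P) = 1`, the core of `M` is a `p'`-group. -/
theorem pmin_core_coprime (hP : Cfsg.IsPMinimal p P) (hOp : Cfsg.pCore p P = ⊥) (S : Sylow p P)
    {M : Subgroup P} (hM : IsCoatom M) (hSM : (S : Subgroup P) ≤ M) :
    (Nat.card M.normalCore).Coprime p := by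
  haveI : M.normalCore.Normal := Subgroup.normalCore_normal M
  obtain ⟨Q, hQ⟩ := Cfsg.Agent.Lib.helper53.exists_sylow_eq_inf_normal S M.normalCore
  have h1 : (S : Subgroup P) ⊓ M.normalCore = ⊥ := by
    rw [eq_bot_iff, ← hOp]; exact pmin_core_inf_le_pCore hP S hM hSM
  rw [h1] at hQ
  have hQbot : (Q : Subgroup M.normalCore) = ⊥ := by
    rw [eq_bot_iff]; intro x hx
    have : (x : P) ∈ (Q : Subgroup M.normalCore).map M.normalCore.subtype := ⟨x, hx, rfl⟩
    rw [hQ, Subgroup.mem_bot] at this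
    rw [Subgroup.mem_bot]; exact Subtype.ext this
  have h2 := Q.not_dvd_index
  rw [hQbot, Subgroup.index_bot] at h2
  exact ((Nat.Prime.coprime_iff_not_dvd Fact.out).mpr h2).symm

/-- With `O_p(P) = 1`, every Sylow subgroup of the core of `M` is normal in `P`. -/
theorem pmin_core_sylow_normal (hP : Cfsg.IsPMinimal p P) (hOp : Cfsg.pCore p P = ⊥)
    (S : Sylow p P) {M : Subgroup P} (hM : IsCoatom M) (hSM : (S : Subgroup P) ≤ M) {q : ℕ}
    [Fact q.Prime] (Q : Sylow q M.normalCore) :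
    ((Q : Subgroup M.normalCore).map M.normalCore.subtype).Normal := by
  haveI hFn : M.normalCore.Normal := Subgroup.normalCore_normal M
  have hfr : Subgroup.normalizer
      (((Q : Subgroup M.normalCore).map M.normalCore.subtype : Subgroup P) : Set P) ⊔
      M.normalCore = ⊤ := Sylow.normalizer_sup_eq_top Q
  set N := Subgroup.normalizer
      (((Q : Subgroup M.normalCore).map M.normalCore.subtype : Subgroup P) : Set P) with hN
  have hpidx : ¬ p ∣ N.index := by
    rw [Cfsg.Agent.Lib.helper53.index_eq_relIndex_of_sup_eq_top (D := M.normalCore) (M := N)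
      (by rw [sup_comm]; exact hfr)]
    intro hdvd
    have h1 : N.relIndex M.normalCore ∣ Nat.card M.normalCore := Subgroup.relIndex_dvd_card _ _
    have hc := pmin_core_coprime hP hOp S hM hSM
    exact (Nat.Prime.coprime_iff_not_dvd Fact.out).mp hc.symm (dvd_trans hdvd h1)
  obtain ⟨g, hg⟩ := Cfsg.Agent.Lib.helper53.exists_conj_sylow_le_of_not_dvd_index S hpidx
  set N₁ := N.map (MulAut.conj g⁻¹).toMonoidHom with hN₁
  have hSN₁ : (S : Subgroup P) ≤ N₁ := by
    rw [hN₁, Cfsg.Agent.Lib.helper53.le_conj_iff, inv_inv]; exact hg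
  have hFc : M.normalCore.map (MulAut.conj g⁻¹).toMonoidHom = M.normalCore :=
    Cfsg.Agent.Lib.helper53.conj_eq_self_iff.mpr
      (by rw [Subgroup.normalizer_eq_top]; exact Subgroup.mem_top _)
  have hN₁F : N₁ ⊔ M.normalCore = ⊤ := by
    calc N₁ ⊔ M.normalCore
        = N.map (MulAut.conj g⁻¹).toMonoidHom ⊔ M.normalCore.map (MulAut.conj g⁻¹).toMonoidHom := by
          rw [hFc]
      _ = (N ⊔ M.normalCore).map (MulAut.conj g⁻¹).toMonoidHom := (Subgroup.map_sup _ _ _).symm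
      _ = ⊤ := by
          rw [hfr]; exact Subgroup.map_top_of_surjective _ (MulAut.conj g⁻¹).surjective
  have hN₁top : N₁ = ⊤ := by
    by_contra hne
    have h1 := pmin_le_of_ne_top hP S hM hSM hSN₁ hne
    have h2 : (⊤ : Subgroup P) ≤ M := by
      rw [← hN₁F]; exact sup_le h1 (Subgroup.normalCore_le M)
    exact hM.1 (top_le_iff.mp h2)
  have hNtop : N = ⊤ := by
    rw [eq_top_iff]
    intro x _
    have hx : (MulAut.conj g⁻¹).toMonoidHom x ∈ N₁ := by rw [hN₁top]; exact Subgroup.mem_top _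
    obtain ⟨n, hn, hnx⟩ := Subgroup.mem_map.mp hx
    have : n = x := (MulAut.conj g⁻¹).injective hnx
    rw [← this]; exact hn
  exact Subgroup.normalizer_eq_top_iff.mp hNtop

/-- With `O_p(P) = 1`, the core of `M` is nilpotent. -/
theorem pmin_core_isNilpotent (hP : Cfsg.IsPMinimal p P) (hOp : Cfsg.pCore p P = ⊥)
    (S : Sylow p P) {M : Subgroup P} (hM : IsCoatom M) (hSM : (S : Subgroup P) ≤ M) :
    Group.IsNilpotent M.normalCore := by
  apply ((Group.isNilpotent_of_finite_tfae (G := M.normalCore)).out 0 3).mpr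
  intro q hq Q
  haveI := hq
  have h := pmin_core_sylow_normal hP hOp S hM hSM Q
  have h2 := h.subgroupOf M.normalCore
  have h3 : ((Q : Subgroup M.normalCore).map M.normalCore.subtype).subgroupOf M.normalCore
      = (Q : Subgroup M.normalCore) := by
    ext x
    rw [Subgroup.mem_subgroupOf]
    constructor
    · rintro ⟨y, hy, hyx⟩
      have : y = x := Subtype.ext hyx
      rw [← this]; exact hy
    · intro hx; exact ⟨x, hx, rfl⟩
  rw [h3] at h2; exact h2

/-- With `O_p(P) = 1`, no component lies in `M`. -/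
theorem pmin_component_not_le (hP : Cfsg.IsPMinimal p P) (hOp : Cfsg.pCore p P = ⊥)
    (S : Sylow p P) {M : Subgroup P} (hM : IsCoatom M) (hSM : (S : Subgroup P) ≤ M)
    {K : Subgroup P} (hK : Cfsg.IsComponent K) : ¬ K ≤ M := by
  intro hKM
  haveI : M.normalCore.Normal := Subgroup.normalCore_normal M
  have hKF := pmin_subnormal_le_core hP S hM hSM K hK.1 hKM
  haveI := pmin_core_isNilpotent hP hOp S hM hSM
  have hsol : Group.IsSolvable M.normalCore := inferInstance
  have : Group.IsSolvable K :=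
    Group.isSolvable_of_isSolvable_injective (Subgroup.inclusion_injective hKF)
  exact (Cfsg.Agent.Lib.helper28.isComponent_qs hK).not_isSolvable this

/-- Structure of a `p`-minimal group with `O_p(P) = 1` having a component `K`:
`O^p(P) = E(P)`, `F(P) ≤ E(P)` and `E(P)` is generated by the `S`-conjugates of `K`. -/
theorem pmin_layer_structure (hP : Cfsg.IsPMinimal p P) (hOp : Cfsg.pCore p P = ⊥)
    (S : Sylow p P) {K : Subgroup P} (hK : Cfsg.IsComponent K) :
    Cfsg.pResidual p P = Cfsg.layer P ∧ Cfsg.fittingSubgroup P ≤ Cfsg.layer P ∧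
      Cfsg.layer P = ⨆ s : ↥(S : Subgroup P), K.map (MulAut.conj (s : P)).toMonoidHom := by
  obtain ⟨M, ⟨hM, hSM⟩, -⟩ := (hP S).2
  have hKM := pmin_component_not_le hP hOp S hM hSM hK
  have hRE : Cfsg.pResidual p P ≤ Cfsg.layer P :=
    (pmin_normal_dichotomy hP S hM hSM (Cfsg.layer P) inferInstance).resolve_right
      (fun h => hKM ((Cfsg.Agent.Lib.helper28.le_layer hK).trans
        (h.trans (Subgroup.normalCore_le M))))
  have hER : Cfsg.layer P ≤ Cfsg.pResidual p P := by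
    unfold Cfsg.layer
    exact sSup_le (fun L hL => Cfsg.Agent.Lib.helper52.le_pResidual_of_isPerfect
      (Cfsg.Agent.Lib.helper28.isComponent_qs hL).1)
  have hREeq := le_antisymm hRE hER
  have hFit : Cfsg.fittingSubgroup P ≤ M.normalCore := by
    refine (pmin_normal_dichotomy hP S hM hSM (Cfsg.fittingSubgroup P) inferInstance).resolve_left
      (fun h => ?_)
    have hKFit : K ≤ Cfsg.fittingSubgroup P :=
      (Cfsg.Agent.Lib.helper28.le_layer hK).trans (hER.trans h)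
    haveI := Cfsg.Agent.Lib.helper28.fittingSubgroup_isNilpotent P
    have hsol : Group.IsSolvable (Cfsg.fittingSubgroup P) := inferInstance
    have : Group.IsSolvable K :=
      Group.isSolvable_of_isSolvable_injective (Subgroup.inclusion_injective hKFit)
    exact (Cfsg.Agent.Lib.helper28.isComponent_qs hK).not_isSolvable this
  have hFitc : (Nat.card (Cfsg.fittingSubgroup P)).Coprime p :=
    Nat.Coprime.coprime_dvd_left (Subgroup.card_dvd_of_le hFit)
      (pmin_core_coprime hP hOp S hM hSM)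
  have hFitR : Cfsg.fittingSubgroup P ≤ Cfsg.pResidual p P :=
    Cfsg.Agent.Lib.helper52.le_pResidual_of_coprime_card hFitc
  refine ⟨hREeq, hFitR.trans hRE, ?_⟩
  set E₀ := ⨆ s : ↥(S : Subgroup P), K.map (MulAut.conj (s : P)).toMonoidHom with hE₀
  have hE₀E : E₀ ≤ Cfsg.layer P := iSup_le (fun s =>
    Cfsg.Agent.Lib.helper28.le_layer
      (Cfsg.Agent.Lib.helper28.isComponent_map_equiv (MulAut.conj (s : P)) hK))
  have hSn : (S : Subgroup P) ≤ Subgroup.normalizer (E₀ : Set P) :=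
    Cfsg.Agent.Lib.helper65.le_normalizer_iSup_conjSub (S : Subgroup P) K
  have hEn : Cfsg.layer P ≤ Subgroup.normalizer (E₀ : Set P) :=
    Cfsg.Agent.Lib.helper65.le_normalizer_iSup (fun s =>
      Cfsg.Agent.Lib.helper28.layer_le_normalizer_of_isComponent
        (Cfsg.Agent.Lib.helper28.isComponent_map_equiv (MulAut.conj (s : P)) hK))
  have hE₀n : E₀.Normal := by
    rw [← Subgroup.normalizer_eq_top_iff, eq_top_iff,
      ← Cfsg.Agent.Lib.helper53.pResidual_sup_sylow S]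
    exact sup_le (hRE.trans hEn) hSn
  have hRE₀ : Cfsg.pResidual p P ≤ E₀ :=
    (pmin_normal_dichotomy hP S hM hSM E₀ hE₀n).resolve_right (fun h => hKM
      ((Cfsg.Agent.Lib.helper65.le_iSup_conjSub (S : Subgroup P) K).trans
        (h.trans (Subgroup.normalCore_le M))))
  exact le_antisymm (hER.trans hRE₀) hE₀E

open scoped commutatorElement in
/-- A subgroup of `K N_S(K)` containing `N_S(K)` but not `K` lies in `M`. -/
theorem pmin_key (hP : Cfsg.IsPMinimal p P)
    (S : Sylow p P) {M : Subgroup P} (hM : IsCoatom M) (hSM : (S : Subgroup P) ≤ M)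
    {K : Subgroup P} (hK : Cfsg.IsComponent K) {H : Subgroup P}
    (hHY : H ≤ K ⊔ ((S : Subgroup P) ⊓ Subgroup.normalizer (K : Set P)))
    (hSH : (S : Subgroup P) ⊓ Subgroup.normalizer (K : Set P) ≤ H) (hKH : ¬ K ≤ H) : H ≤ M := by
  set S₁ := (S : Subgroup P) ⊓ Subgroup.normalizer (K : Set P) with hS₁
  set H₀ := H ⊓ K with hH₀
  set D := ⨆ s : ↥(S : Subgroup P), Cfsg.Agent.Lib.helper65.conjSub (s : P) H₀ with hD
  have hSD : (S : Subgroup P) ≤ Subgroup.normalizer (D : Set P) :=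
    Cfsg.Agent.Lib.helper65.le_normalizer_iSup_conjSub (S : Subgroup P) H₀
  have hH₀D : H₀ ≤ D := Cfsg.Agent.Lib.helper65.le_iSup_conjSub (S : Subgroup P) H₀
  -- `D ≤ H₀ ⊔ C(K)`
  have hDle : D ≤ H₀ ⊔ Subgroup.centralizer (K : Set P) := by
    refine iSup_le (fun s => ?_)
    by_cases hs : (s : P) ∈ Subgroup.normalizer (K : Set P)
    · refine le_trans ?_ le_sup_left
      intro x hx
      rw [Cfsg.Agent.Lib.helper65.mem_conjSub] at hx
      have hsS₁ : (s : P) ∈ S₁ := ⟨s.2, hs⟩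
      have hsH : (s : P) ∈ H := hSH hsS₁
      have hx' : x = (s : P) * ((s : P)⁻¹ * x * (s : P)) * (s : P)⁻¹ := by group
      rw [hx']
      refine ⟨H.mul_mem (H.mul_mem hsH hx.1) (H.inv_mem hsH), ?_⟩
      exact (Subgroup.mem_normalizer_iff.mp hs _).mp hx.2
    · refine le_trans ?_ le_sup_right
      have hKs : Cfsg.IsComponent (K.map (MulAut.conj (s : P)).toMonoidHom) :=
        Cfsg.Agent.Lib.helper28.isComponent_map_equiv (MulAut.conj (s : P)) hK
      have hne : K.map (MulAut.conj (s : P)).toMonoidHom ≠ K := fun h =>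
        hs (Cfsg.Agent.Lib.helper53.conj_eq_self_iff.mp h)
      have hcomm := Cfsg.Agent.Lib.helper28.isComponent_commute hKs hK hne
      have h1 : K.map (MulAut.conj (s : P)).toMonoidHom ≤ Subgroup.centralizer (K : Set P) :=
        Subgroup.commutator_eq_bot_iff_le_centralizer.mp hcomm
      exact le_trans (Cfsg.Agent.Lib.helper65.conjSub_mono inf_le_right) h1
  have hH₀M : H₀ ≤ M := by
    have hne : D ⊔ (S : Subgroup P) ≠ ⊤ := by
      intro htop
      haveI hDn : D.Normal := by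
        rw [← Subgroup.normalizer_eq_top_iff, eq_top_iff, ← htop]
        exact sup_le Subgroup.le_normalizer hSD
      have hRD : Cfsg.pResidual p P ≤ D :=
        Cfsg.Agent.Lib.helper53.pResidual_le_of_sup_eq_top S.isPGroup' htop
      have hKR : K ≤ Cfsg.pResidual p P :=
        Cfsg.Agent.Lib.helper52.le_pResidual_of_isPerfect
          (Cfsg.Agent.Lib.helper28.isComponent_qs hK).1
      have hKD : K ≤ H₀ ⊔ Subgroup.centralizer (K : Set P) := hKR.trans (hRD.trans hDle)
      -- `H₀` normalizes `C(K)`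
      have hnc : H₀ ≤ Subgroup.normalizer ((Subgroup.centralizer (K : Set P) : Subgroup P) : Set P) := by
        intro h hh
        apply Cfsg.Agent.Lib.helper53.mem_normalizer_of_conj_le
        rintro _ ⟨c, hc, rfl⟩
        rw [Subgroup.mem_centralizer_iff]
        intro k hk
        have hc' := Subgroup.mem_centralizer_iff.mp hc (h⁻¹ * k * h)
          (K.mul_mem (K.mul_mem (K.inv_mem hh.2) hk) hh.2)
        change k * (h * c * h⁻¹) = h * c * h⁻¹ * k
        calc k * (h * c * h⁻¹) = h * ((h⁻¹ * k * h) * c) * h⁻¹ := by group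
          _ = h * (c * (h⁻¹ * k * h)) * h⁻¹ := by rw [hc']
          _ = h * c * h⁻¹ * k := by group
      have hdec : ∀ k ∈ K, ∃ h ∈ H₀, ∃ c ∈ Subgroup.centralizer (K : Set P), h * c = k :=
        fun k hk => Cfsg.Agent.Lib.helper28.exists_mul_of_mem_sup_of_le_normalizer hnc (hKD hk)
      have hKH₀ : K ≤ H₀ := by
        have hperf := Cfsg.Agent.Lib.helper28.isComponent_isPerfect hK
        rw [← hperf, Subgroup.commutator_le]
        intro k₁ hk₁ k₂ hk₂
        obtain ⟨h₁, hh₁, c₁, hc₁, rfl⟩ := hdec k₁ hk₁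
        obtain ⟨h₂, hh₂, c₂, hc₂, rfl⟩ := hdec k₂ hk₂
        have e1 : c₁ * (h₂ * c₂) = (h₂ * c₂) * c₁ :=
          (Subgroup.mem_centralizer_iff.mp hc₁ _ hk₂).symm
        have e2 : c₂ * h₁⁻¹ = h₁⁻¹ * c₂ :=
          (Subgroup.mem_centralizer_iff.mp hc₂ _ (K.inv_mem hh₁.2)).symm
        have e3 : ⁅h₁ * c₁, h₂ * c₂⁆ = ⁅h₁, h₂⁆ := by
          rw [commutatorElement_def, commutatorElement_def]
          calc h₁ * c₁ * (h₂ * c₂) * (h₁ * c₁)⁻¹ * (h₂ * c₂)⁻¹
              = h₁ * (c₁ * (h₂ * c₂)) * c₁⁻¹ * h₁⁻¹ * c₂⁻¹ * h₂⁻¹ := by group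
            _ = h₁ * ((h₂ * c₂) * c₁) * c₁⁻¹ * h₁⁻¹ * c₂⁻¹ * h₂⁻¹ := by rw [e1]
            _ = h₁ * h₂ * (c₂ * h₁⁻¹) * c₂⁻¹ * h₂⁻¹ := by group
            _ = h₁ * h₂ * (h₁⁻¹ * c₂) * c₂⁻¹ * h₂⁻¹ := by rw [e2]
            _ = h₁ * h₂ * h₁⁻¹ * h₂⁻¹ := by group
        rw [e3, commutatorElement_def]
        exact H₀.mul_mem (H₀.mul_mem (H₀.mul_mem hh₁ hh₂) (H₀.inv_mem hh₁)) (H₀.inv_mem hh₂)
      exact hKH (hKH₀.trans inf_le_left)
    exact hH₀D.trans (le_sup_left.trans (pmin_le_of_ne_top hP S hM hSM le_sup_right hne))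
  intro x hx
  have hx' : x ∈ S₁ ⊔ K := by rw [sup_comm]; exact hHY hx
  obtain ⟨s, hs, k, hk, rfl⟩ :=
    Cfsg.Agent.Lib.helper28.exists_mul_of_mem_sup_of_le_normalizer (inf_le_right : S₁ ≤ _) hx'
  have hkH : k ∈ H := by
    have : k = s⁻¹ * (s * k) := by group
    rw [this]; exact H.mul_mem (H.inv_mem (hSH hs)) hx
  exact M.mul_mem (hSM hs.1) (hH₀M ⟨hkH, hk⟩)

/-- In a `p`-minimal group with `O_p(P) = 1`, the subgroup `K N_S(K)` is `p`-minimal for every
component `K`. -/
theorem pmin_component_isPMinimal (hP : Cfsg.IsPMinimal p P) (hOp : Cfsg.pCore p P = ⊥)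
    (S : Sylow p P) {K : Subgroup P} (hK : Cfsg.IsComponent K) :
    Cfsg.IsPMinimal p ↥(K ⊔ ((S : Subgroup P) ⊓ Subgroup.normalizer (K : Set P))) := by
  obtain ⟨M, ⟨hM, hSM⟩, -⟩ := (hP S).2
  have hKM := pmin_component_not_le hP hOp S hM hSM hK
  set S₁ := (S : Subgroup P) ⊓ Subgroup.normalizer (K : Set P) with hS₁
  set Y := K ⊔ S₁ with hY
  have hKY : K ≤ Y := le_sup_left
  have hS₁Y : S₁ ≤ Y := le_sup_right
  have hS₁p : IsPGroup p (S₁.subgroupOf Y) :=
    (S.isPGroup'.to_le (inf_le_left : S₁ ≤ S)).comap_subtype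
  obtain ⟨T₀, hT₀⟩ := hS₁p.exists_le_sylow
  have key : ∀ M₁ : Subgroup Y, (T₀ : Subgroup Y) ≤ M₁ → M₁ ≠ ⊤ → M₁ ≤ M.subgroupOf Y := by
    intro M₁ hTM₁ hne
    have hHY : M₁.map Y.subtype ≤ Y := by rintro _ ⟨x, -, rfl⟩; exact x.2
    have hSH : S₁ ≤ M₁.map Y.subtype := by
      intro s hs
      exact ⟨⟨s, hS₁Y hs⟩, hTM₁ (hT₀ (Subgroup.mem_subgroupOf.mpr hs)), rfl⟩
    have hKH : ¬ K ≤ M₁.map Y.subtype := by
      intro hKH
      apply hne
      rw [eq_top_iff]
      intro y _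
      have h1 : (y : P) ∈ M₁.map Y.subtype := (sup_le hKH hSH) y.2
      obtain ⟨z, hz, hzy⟩ := h1
      have h2 : z = y := Subtype.ext hzy
      rw [← h2]; exact hz
    have h1 := pmin_key hP S hM hSM hK hHY hSH hKH
    intro x hx
    rw [Subgroup.mem_subgroupOf]
    exact h1 ⟨x, hx, rfl⟩
  have hMY : M.subgroupOf Y ≠ ⊤ := by
    intro h
    apply hKM
    intro k hk
    have h1 : (⟨k, hKY hk⟩ : Y) ∈ M.subgroupOf Y := by rw [h]; exact Subgroup.mem_top _
    exact Subgroup.mem_subgroupOf.mp h1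
  have hnn : ¬ (T₀ : Subgroup Y).Normal := by
    intro hn
    -- `S₁` centralizes `K`
    have hcen : ∀ s ∈ S₁, ∀ k ∈ K, s * k = k * s := by
      intro s hs k hk
      set Q := K ⊓ (T₀ : Subgroup Y).map Y.subtype with hQ
      have hQp : IsPGroup p Q :=
        (T₀.isPGroup'.map Y.subtype).to_le inf_le_right
      have hQn : (Q.subgroupOf K).Normal := by
        refine ⟨fun x hx k' => ?_⟩
        rw [Subgroup.mem_subgroupOf] at hx ⊢
        refine ⟨K.mul_mem (K.mul_mem k'.2 x.2) (K.inv_mem k'.2), ?_⟩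
        obtain ⟨t, ht, htx⟩ := hx.2
        refine ⟨⟨(k' : P), hKY k'.2⟩ * t * ⟨(k' : P), hKY k'.2⟩⁻¹, hn.conj_mem t ht _, ?_⟩
        have htx' : (t : P) = (x : P) := htx
        change (k' : P) * (t : P) * (k' : P)⁻¹ = (k' : P) * (x : P) * (k' : P)⁻¹
        rw [htx']
      have hQsn : Q.IsSubnormal :=
        Subgroup.IsSubnormal.trans inf_le_left hQn.isSubnormal hK.1
      have hQbot : Q ≤ ⊥ := by
        rw [← hOp]
        exact Cfsg.Agent.Lib.helper27.subnormal_pGroup_le_pCore p Q hQsn hQp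
      have hsT : s ∈ (T₀ : Subgroup Y).map Y.subtype :=
        ⟨⟨s, hS₁Y hs⟩, hT₀ (Subgroup.mem_subgroupOf.mpr hs), rfl⟩
      have hc : k * s * k⁻¹ * s⁻¹ ∈ Q := by
        constructor
        · have h1 : s * k⁻¹ * s⁻¹ ∈ K :=
            (Subgroup.mem_normalizer_iff.mp hs.2 _).mp (K.inv_mem hk)
          have h2 : k * s * k⁻¹ * s⁻¹ = k * (s * k⁻¹ * s⁻¹) := by group
          rw [h2]; exact K.mul_mem hk h1
        · obtain ⟨t, ht, hts⟩ := hsT
          refine Subgroup.mul_mem _ ?_ (Subgroup.inv_mem _ ⟨t, ht, hts⟩)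
          refine ⟨⟨k, hKY hk⟩ * t * ⟨k, hKY hk⟩⁻¹, hn.conj_mem t ht _, ?_⟩
          have hts' : (t : P) = s := hts
          change k * (t : P) * k⁻¹ = k * s * k⁻¹
          rw [hts']
      have hc1 : k * s * k⁻¹ * s⁻¹ = 1 := Subgroup.mem_bot.mp (hQbot hc)
      calc s * k = (k * s * k⁻¹ * s⁻¹)⁻¹ * (k * s) := by group
        _ = k * s := by rw [hc1]; group
    have hall : (K : Set P) ⊆ (M : Set P) ∪ (Subgroup.centralizer (K : Set P) : Subgroup P) := by
      intro k hk
      by_cases hKH : K ≤ Subgroup.zpowers k ⊔ S₁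
      · right
        have hle : Subgroup.zpowers k ⊔ S₁ ≤ Subgroup.centralizer ({k} : Set P) := by
          refine sup_le ?_ ?_
          · rw [Subgroup.zpowers_le]
            exact Subgroup.mem_centralizer_singleton_iff.mpr rfl
          · intro s hs
            exact Subgroup.mem_centralizer_singleton_iff.mpr (hcen s hs k hk)
        rw [SetLike.mem_coe, Subgroup.mem_centralizer_iff]
        intro k' hk'
        exact Subgroup.mem_centralizer_singleton_iff.mp (hle (hKH hk'))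
      · left
        have hHY : Subgroup.zpowers k ⊔ S₁ ≤ K ⊔ S₁ :=
          sup_le_sup_right (Subgroup.zpowers_le.mpr hk) S₁
        have h1 := pmin_key hP S hM hSM hK hHY le_sup_right hKH
        exact h1 (Subgroup.mem_sup_left (Subgroup.mem_zpowers k))
    rcases SubgroupClass.subset_union.mp hall with h | h
    · exact hKM h
    · have h1 : ⁅K, K⁆ = ⊥ := Subgroup.commutator_eq_bot_iff_le_centralizer.mpr h
      rw [Cfsg.Agent.Lib.helper28.isComponent_isPerfect hK] at h1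
      exact Cfsg.Agent.Lib.helper28.isComponent_ne_bot hK h1
  apply isPMinimal_of_sylow T₀ hnn
  have hT₀ne : (T₀ : Subgroup Y) ≠ ⊤ := fun h => hnn (by rw [h]; infer_instance)
  obtain ⟨M₁, hM₁, hTM₁⟩ := (eq_top_or_exists_le_coatom (T₀ : Subgroup Y)).resolve_left hT₀ne
  have huniq : ∀ M₂ : Subgroup Y, IsCoatom M₂ ∧ (T₀ : Subgroup Y) ≤ M₂ → M₂ = M.subgroupOf Y := by
    rintro M₂ ⟨hM₂, hTM₂⟩
    have h1 := key M₂ hTM₂ hM₂.1
    exact ((hM₂.le_iff.mp h1).resolve_left hMY).symm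
  exact ⟨M₁, ⟨hM₁, hTM₁⟩, fun M₂ h => (huniq M₂ h).trans (huniq M₁ ⟨hM₁, hTM₁⟩).symm⟩

end Cfsg.Agent.Lib.helper54
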