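import Mathlib
import Cfsg.Agent.Lib.helper68.HallPet
import Cfsg.Agent.Lib.helper65.PearlPow

/-!
S5238 (rest, block G, steps (5)+(6)), helper54: the power structure `F4` of a `p`-group with a
uniserial element `x` of order `p`, from `F3`, the uniserial action of `x` and the surjectivity
of `g ↦ com x g` on the lower central series.  Base case: helper65's `pearl_pow`; inductive
step: helper68's Hall–Petrescu formula inside the subgroup type `↥(gam G i)`.
-/

set_option autoImplicit false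

namespace Cfsg.Agent.Lib.helper54

open Cfsg.Agent.Lib.helper68 Cfsg.Agent.Lib.helper65.PearlPow

variable {G : Type*} [Group G]

/-- `γ_{k+1}(γ_i(G)) ≤ γ_{(k+1) i}(G)`. -/
theorem h54_lcs_gam_le (i : ℕ) (k : ℕ) :
    (gam G i).lowerCentralSeries k ≤ gam G ((k + 1) * i) := by
  induction k with
  | zero =>
    rw [Subgroup.lowerCentralSeries_zero, zero_add, one_mul]
  | succ k ih =>
    rw [Subgroup.lowerCentralSeries_succ]
    have h1 : ⁅(gam G i).lowerCentralSeries k, gam G i⁆ ≤ ⁅gam G ((k + 1) * i), gam G i⁆ :=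
      Subgroup.commutator_mono ih le_rfl
    have h2 := gam_comm_le (H := G) ((k + 1) * i) i
    have e : (k + 1) * i + i = (k + 1 + 1) * i := by ring
    rw [e] at h2
    exact h1.trans h2

/-- Elements of `γ_k` of the group `↥(γ_i(G))` lie in `γ_{k i}(G)`. -/
theorem h54_mem_gam_sub {i : ℕ} (k : ℕ) (hk : 1 ≤ k) (a : ↥(gam G i))
    (ha : a ∈ gam (↥(gam G i)) k) : (a : G) ∈ gam G (k * i) := by
  have h1 : (a : G) ∈
      ((⊤ : Subgroup ↥(gam G i)).lowerCentralSeries (k - 1)).map (gam G i).subtype :=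
    Subgroup.mem_map_of_mem _ ha
  rw [Subgroup.map_lowerCentralSeries] at h1
  have e : (⊤ : Subgroup ↥(gam G i)).map (gam G i).subtype = gam G i := by
    rw [← MonoidHom.range_eq_map, Subgroup.range_subtype]
  rw [e] at h1
  have h2 := h54_lcs_gam_le (G := G) i (k - 1) h1
  have e2 : (k - 1 + 1) * i = k * i := by rw [Nat.sub_add_cancel hk]
  rw [e2] at h2
  exact h2

/-- Hall–Petrescu inside `γ_i(G)`, `i ≥ 2`, `p` odd, modulo `γ_{i+p+1}(G)`, given `F3`. -/
theorem h54_hp_sub (p : ℕ) [hp : Fact p.Prime] (hp2 : p ≠ 2) (N : ℕ) (hN : gam G N = ⊥)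
    (i : ℕ) (hi : 2 ≤ i)
    (hF3 : ∀ j, 2 ≤ j → ∀ m ∈ gam G j, m ^ p ∈ gam G (j + p - 1))
    (u v : G) (hu : u ∈ gam G i) (hv : v ∈ gam G i) :
    ∃ z ∈ gam G (i + p + 1), (u * v) ^ p = u ^ p * v ^ p * z := by
  have hp3 : 3 ≤ p := by
    have := hp.out.two_le
    omega
  have e : (⊤ : Subgroup ↥(gam G i)).map (gam G i).subtype = gam G i := by
    rw [← MonoidHom.range_eq_map, Subgroup.range_subtype]
  have hc : (⊤ : Subgroup ↥(gam G i)).lowerCentralSeries N = ⊥ := by
    have h1 : ((⊤ : Subgroup ↥(gam G i)).lowerCentralSeries N).map (gam G i).subtype = ⊥ := by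
      rw [Subgroup.map_lowerCentralSeries, e]
      have h2 := h54_lcs_gam_le (G := G) i N
      have h3 : gam G ((N + 1) * i) ≤ gam G N := gam_antitone (by nlinarith)
      rw [hN] at h3
      exact le_bot_iff.1 (h2.trans h3)
    exact (Subgroup.map_eq_bot_iff_of_injective _ (gam G i).subtype_injective).1 h1
  have hM : ∀ k, 2 ≤ k → k ≤ N → ∀ a ∈ gam (↥(gam G i)) k,
      a ^ (p.choose k) ∈ (gam G (i + p + 1)).subgroupOf (gam G i) := by
    intro k hk _ a ha
    have ha' : (a : G) ∈ gam G (k * i) := h54_mem_gam_sub k (by omega) a ha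
    rw [Subgroup.mem_subgroupOf, Subgroup.coe_pow]
    by_cases hkp : k < p
    · obtain ⟨t, ht⟩ := hp.out.dvd_choose_self (by omega) hkp
      rw [ht, pow_mul]
      have h1 : (a : G) ∈ gam G (2 * i) := gam_antitone (Nat.mul_le_mul_right i hk) ha'
      have h2 := hF3 (2 * i) (by omega) _ h1
      have h3 : (a : G) ^ p ∈ gam G (i + p + 1) := gam_antitone (by omega) h2
      exact Subgroup.pow_mem _ h3 t
    · have hle : i + p + 1 ≤ k * i := by
        have a1 : p * i ≤ k * i := Nat.mul_le_mul_right i (by omega)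
        have a2 : p * 2 ≤ p * i := Nat.mul_le_mul_left p hi
        have a3 : 3 * i ≤ p * i := Nat.mul_le_mul_right i hp3
        omega
      have h1 : (a : G) ∈ gam G (i + p + 1) := gam_antitone hle ha'
      exact Subgroup.pow_mem _ h1 _
  obtain ⟨z, hz, hzeq⟩ := hall_petrescu_mem N hc ((gam G (i + p + 1)).subgroupOf (gam G i)) p hM
    ⟨u, hu⟩ ⟨v, hv⟩
  refine ⟨(z : G), Subgroup.mem_subgroupOf.1 hz, ?_⟩
  have := congrArg (fun t : ↥(gam G i) => (t : G)) hzeq
  simpa using this

/-- **F4, inductive step** (step (6)): `F4` at `i` from `F3`, the uniserial action of `x` at `i`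
and `F4` at `i + 1`. -/
theorem h54_pearl_f4_step (p : ℕ) [hp : Fact p.Prime] (hp2 : p ≠ 2) (N : ℕ) (hN : gam G N = ⊥)
    (x : G) (i : ℕ) (hi : 2 ≤ i)
    (hF3 : ∀ j, 2 ≤ j → ∀ m ∈ gam G j, m ^ p ∈ gam G (j + p - 1))
    (huni : ∀ m ∈ gam G i, m ∉ gam G (i + 1) → com m x ∉ gam G (i + 2))
    (hnext : ∀ m ∈ gam G (i + 1), m ∉ gam G (i + 2) → m ^ p ∉ gam G (i + p + 1))
    (m : G) (hm : m ∈ gam G i) (hm' : m ∉ gam G (i + 1)) :
    m ^ p ∈ gam G (i + p - 1) ∧ m ^ p ∉ gam G (i + p) := by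
  have hx1 : x ∈ gam G 1 := by
    unfold gam
    simp
  refine ⟨hF3 i hi m hm, fun hcon => ?_⟩
  have hb : com m x ∈ gam G (i + 1) := com_mem hm hx1
  have hb2 : com m x ∉ gam G (i + 2) := huni m hm hm'
  have hbK : com m x ∈ gam G i := gam_antitone (by omega) hb
  obtain ⟨z, hz, hzeq⟩ := h54_hp_sub p hp2 N hN i hi hF3 m (com m x) hm hbK
  have e1 : m * com m x = x⁻¹ * m * x := by
    unfold com
    group
  have e2 : (x⁻¹ * m * x) ^ p = x⁻¹ * m ^ p * x := by
    have := conj_pow (a := x⁻¹) (b := m) (i := p)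
    rw [inv_inv] at this
    exact this
  have e3 : com (m ^ p) x = (com m x) ^ p * z := by
    have s1 : com (m ^ p) x = (m ^ p)⁻¹ * (x⁻¹ * m ^ p * x) := by
      unfold com
      group
    rw [s1, ← e2, ← e1, hzeq]
    group
  have h4 : com (m ^ p) x ∈ gam G (i + p + 1) := com_mem hcon hx1
  rw [e3] at h4
  have h5 : (com m x) ^ p ∈ gam G (i + p + 1) := by
    have := Subgroup.mul_mem _ h4 (Subgroup.inv_mem _ hz)
    rwa [mul_inv_cancel_right] at this
  exact hnext _ hb hb2 h5

/-- **F4** (steps (5)+(6)): for `2 ≤ i ≤ n - p`, the `p`-th power of an element of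
`γ_i ∖ γ_{i+1}` lies in `γ_{i+p-1} ∖ γ_{i+p}`. -/
theorem h54_pearl_f4 (p : ℕ) [hp : Fact p.Prime] (hp2 : p ≠ 2) (n : ℕ) (hn : gam G n = ⊥)
    (x : G) (hx : x ^ p = 1)
    (hF3 : ∀ j, 2 ≤ j → ∀ m ∈ gam G j, m ^ p ∈ gam G (j + p - 1))
    (huni : ∀ i, 2 ≤ i → i + 2 ≤ n → ∀ m ∈ gam G i, m ∉ gam G (i + 1) →
      com m x ∉ gam G (i + 2))
    (hsurj : ∀ w, 1 ≤ w → w + 1 ≤ n → ∀ m ∈ gam G (w + 1), ∃ g ∈ gam G w, m = com x g) :
    ∀ i, 2 ≤ i → i + p ≤ n → ∀ m ∈ gam G i, m ∉ gam G (i + 1) →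
      m ^ p ∈ gam G (i + p - 1) ∧ m ^ p ∉ gam G (i + p) := by
  have hp3 : 3 ≤ p := by
    have := hp.out.two_le
    omega
  have hx1 : x ∈ gam G 1 := by
    unfold gam
    simp
  have key : ∀ d i, 2 ≤ i → i + p + d = n → ∀ m ∈ gam G i, m ∉ gam G (i + 1) →
      m ^ p ∈ gam G (i + p - 1) ∧ m ^ p ∉ gam G (i + p) := by
    intro d
    induction d with
    | zero =>
      intro i hi hin m hm hm'
      have hin' : i + p = n := by omega
      obtain ⟨g, hg, hmg⟩ := hsurj (i - 1) (by omega) (by omega) m (by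
        have : i - 1 + 1 = i := by omega
        rw [this]
        exact hm)
      have hnil : gam G (i - 1 + 1 + p) = ⊥ := by
        have : i - 1 + 1 + p = n := by omega
        rw [this]
        exact hn
      have hexp : ∀ y ∈ gam G (i - 1 + 2), y ^ p = 1 := by
        intro y hy
        have h1 := hF3 (i - 1 + 2) (by omega) y hy
        have : i - 1 + 2 + p - 1 = n := by omega
        rw [this, hn] at h1
        exact Subgroup.mem_bot.1 h1
      have hpp := pearl_pow p hp.out (i - 1) (by omega) x g hx hg hnil hexp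
      rw [← hmg] at hpp
      have hyk : ∀ k, k ≤ p - 1 →
          yk x m k ∈ gam G (i + k) ∧ yk x m k ∉ gam G (i + k + 1) := by
        intro k
        induction k with
        | zero =>
          intro _
          exact ⟨hm, hm'⟩
        | succ k ih =>
          intro hk
          obtain ⟨h1, h2⟩ := ih (by omega)
          have h3 : com (yk x m k) x ∈ gam G (i + k + 1) := com_mem h1 hx1
          have h4 : com (yk x m k) x ∉ gam G (i + k + 2) :=
            huni (i + k) (by omega) (by omega) _ h1 h2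
          exact ⟨h3, h4⟩
      obtain ⟨h1, h2⟩ := hyk (p - 1) le_rfl
      have e : m ^ p = (yk x m (p - 1))⁻¹ := eq_inv_of_mul_eq_one_left hpp
      rw [e]
      constructor
      · have : i + (p - 1) = i + p - 1 := by omega
        rw [← this]
        exact Subgroup.inv_mem _ h1
      · intro h3
        have : i + (p - 1) + 1 = i + p := by omega
        rw [this] at h2
        exact h2 ((Subgroup.inv_mem_iff _).1 h3)
    | succ d ih =>
      intro i hi hin m hm hm'
      have hnext : ∀ m ∈ gam G (i + 1), m ∉ gam G (i + 2) → m ^ p ∉ gam G (i + p + 1) := by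
        intro m' hm1 hm2
        have := (ih (i + 1) (by omega) (by omega) m' hm1 hm2).2
        have e : i + 1 + p = i + p + 1 := by omega
        rw [e] at this
        exact this
      exact h54_pearl_f4_step p hp2 n hn x i hi hF3 (huni i hi (by omega)) hnext m hm hm'
  intro i hi hin m hm hm'
  exact key (n - p - i) i hi (by omega) m hm hm'

end Cfsg.Agent.Lib.helper54
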