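import Mathlib
import Cfsg.Agent.Lib.helper68.HallPet
import Cfsg.Agent.Lib.helper65.PearlPow
import Cfsg.Agent.Lib.helper54.PearlF4

/-! S5238G pieces K6 (`pg_F4_base`) and K7 (`pg_F4_step`), racer copies (helper54): the cores,
with the statements of K1 (only `gam G n = ⊥`), K3, K4, K5 as hypotheses; both are instances of
`Cfsg.Agent.Lib.helper54.h54_pearl_f4` / `h54_pearl_f4_step`. -/

set_option autoImplicit false

namespace Cfsg.Agent.Lib.helper65.PearlG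

open Cfsg.Agent.Lib.helper68 Cfsg.Agent.Lib.helper65.PearlPow

variable {G : Type*} [Group G]

/-- Core of K6: the conclusion of `pg_F4_base` from `gam G n = ⊥`, K3, K4, K5. -/
theorem h54_pg_F4_base_core (p : ℕ) [Fact p.Prime] (hp2 : p ≠ 2) (n : ℕ) (hbot : gam G n = ⊥)
    (x : G) (hx : x ^ p = 1)
    (hsurj : ∀ w, 1 ≤ w → w + 1 ≤ n → ∀ m ∈ gam G (w + 1), ∃ g ∈ gam G w, m = com x g)
    (huni : ∀ i, 2 ≤ i → i + 2 ≤ n → ∀ m ∈ gam G i, m ∉ gam G (i + 1) →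
      com m x ∉ gam G (i + 2))
    (hF3 : ∀ j, 2 ≤ j → ∀ m ∈ gam G j, m ^ p ∈ gam G (j + p - 1))
    (hn : p + 2 ≤ n) (m : G) (hm : m ∈ gam G (n - p)) (hm' : m ∉ gam G (n - p + 1)) :
    m ^ p ≠ 1 := by
  intro h1
  have h2 := (Cfsg.Agent.Lib.helper54.h54_pearl_f4 p hp2 n hbot x hx hF3 huni hsurj (n - p)
    (by omega) (by omega) m hm hm').2
  apply h2
  rw [h1]
  exact Subgroup.one_mem _

/-- Core of K7: the conclusion of `pg_F4_step` from `gam G N = ⊥`, K4 at `i`, K5. -/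
theorem h54_pg_F4_step_core (p : ℕ) [Fact p.Prime] (hp2 : p ≠ 2) (N : ℕ) (hbot : gam G N = ⊥)
    (x : G) (i : ℕ) (hi : 2 ≤ i)
    (huni : ∀ m ∈ gam G i, m ∉ gam G (i + 1) → com m x ∉ gam G (i + 2))
    (hF3 : ∀ j, 2 ≤ j → ∀ m ∈ gam G j, m ^ p ∈ gam G (j + p - 1))
    (ih : ∀ m' ∈ gam G (i + 1), m' ∉ gam G (i + 2) → m' ^ p ∉ gam G (i + p + 1))
    (m : G) (hm : m ∈ gam G i) (hm' : m ∉ gam G (i + 1)) : m ^ p ∉ gam G (i + p) :=
  (Cfsg.Agent.Lib.helper54.h54_pearl_f4_step p hp2 N hbot x i hi hF3 huni ih m hm hm').2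

end Cfsg.Agent.Lib.helper65.PearlG
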