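import Mathlib
import Cfsg.Agent.Lib.helper68.HallPet
import Cfsg.Agent.Lib.helper65.PearlPow

/-! S5238G (architect helper33), leaf F4B (helper54). -/

set_option autoImplicit false

namespace Cfsg.Agent.Lib.helper33.PearlG

open Cfsg.Agent.Lib.helper68 Cfsg.Agent.Lib.helper65.PearlPow

variable {G : Type*} [Group G] [Finite G]

/-- F4B. Base of F4 (uses `pearl_pow` with `w = n - p - 1`). -/
theorem f4_base (p : ℕ) [Fact p.Prime] (n : ℕ) (hn : p + 2 ≤ n) (x : G) (hx : x ^ p = 1)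
    (honto : ∀ w, 1 ≤ w → ∀ m ∈ gam G (w + 1), ∃ h ∈ gam G w, com x h = m)
    (hF3 : ∀ j, 2 ≤ j → ∀ y ∈ gam G j, y ^ p ∈ gam G (j + p - 1))
    (hbot : gam G n = ⊥)
    (hyk : ∀ i, 2 ≤ i → ∀ m ∈ gam G i, m ∉ gam G (i + 1) → ∀ k, i + k + 1 ≤ n →
      yk x m k ∉ gam G (i + k + 1))
    (m : G) (hm : m ∈ gam G (n - p)) (hm' : m ∉ gam G (n - p + 1)) : m ^ p ∉ gam G n := by
  have hp : p.Prime := Fact.out
  have hp2 := hp.two_le
  obtain ⟨g, hg, hgm⟩ := honto (n - p - 1) (by omega) m (by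
    have : n - p - 1 + 1 = n - p := by omega
    rw [this]
    exact hm)
  have hnil : gam G (n - p - 1 + 1 + p) = ⊥ := by
    have : n - p - 1 + 1 + p = n := by omega
    rw [this]
    exact hbot
  have hexp : ∀ y ∈ gam G (n - p - 1 + 2), y ^ p = 1 := by
    intro y hy
    have h1 := hF3 (n - p - 1 + 2) (by omega) y hy
    have : n - p - 1 + 2 + p - 1 = n := by omega
    rw [this, hbot] at h1
    exact Subgroup.mem_bot.1 h1
  have hpp := pearl_pow p hp (n - p - 1) (by omega) x g hx hg hnil hexp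
  rw [hgm] at hpp
  have h2 := hyk (n - p) (by omega) m hm hm' (p - 1) (by omega)
  have e2 : n - p + (p - 1) + 1 = n := by omega
  rw [e2] at h2
  intro h3
  apply h2
  have e : yk x m (p - 1) = (m ^ p)⁻¹ := eq_inv_of_mul_eq_one_right hpp
  rw [e]
  exact Subgroup.inv_mem _ h3

end Cfsg.Agent.Lib.helper33.PearlG
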