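import Mathlib
import Cfsg.Agent.Lib.helper68.HallPet
import Cfsg.Agent.Lib.helper65.PearlPow

/-! S5238G (architect helper33), leaf YK (helper54). -/

set_option autoImplicit false

namespace Cfsg.Agent.Lib.helper33.PearlG

open Cfsg.Agent.Lib.helper68 Cfsg.Agent.Lib.helper65.PearlPow

variable {G : Type*} [Group G] [Finite G]

/-- YK. -/
theorem yk_notMem (n : ℕ) (x : G)
    (huni : ∀ i, 2 ≤ i → i + 2 ≤ n → ∀ m ∈ gam G i, m ∉ gam G (i + 1) →
      com m x ∉ gam G (i + 2))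
    (i : ℕ) (hi : 2 ≤ i) (m : G) (hm : m ∈ gam G i) (hm' : m ∉ gam G (i + 1)) (k : ℕ)
    (hk : i + k + 1 ≤ n) : yk x m k ∈ gam G (i + k) ∧ yk x m k ∉ gam G (i + k + 1) := by
  have hx1 : x ∈ gam G 1 := by
    unfold gam
    simp
  induction k with
  | zero => exact ⟨hm, hm'⟩
  | succ k ih =>
    obtain ⟨h1, h2⟩ := ih (by omega)
    have h3 : com (yk x m k) x ∈ gam G (i + k + 1) := com_mem h1 hx1
    have h4 : com (yk x m k) x ∉ gam G (i + k + 2) :=
      huni (i + k) (by omega) (by omega) _ h1 h2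
    exact ⟨h3, h4⟩

end Cfsg.Agent.Lib.helper33.PearlG
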