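import Mathlib
import Cfsg.Agent.Lib.helper68.HallPet
import Cfsg.Agent.Lib.helper65.PearlDefs
import Cfsg.Agent.Lib.helper65.PearlBasic

/-! S5238L piece Q (racer copy, helper54): the core of `q_claim`, with the statements of the
pieces D1 (`rel_dl`), I1 (`rel_dl_mul_const`), S (`s_claim`), U (`u_claim`) as hypotheses. -/

set_option autoImplicit false

namespace Cfsg.Agent.Lib.helper65.PearlPow

open Cfsg.Agent.Lib.helper68

variable {H : Type*} [Group H]

/-- Core of Q: induction on `k`, from D1, I1, S, U given as hypotheses. -/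
theorem h54_q_claim_core
    (hD1 : ∀ (u v : ℕ) (s s' : ℕ → H), PolySeq v s → Rel u s s' → Rel (u + 1) (dl s) (dl s'))
    (hI1 : ∀ (v j : ℕ) (s : ℕ → H) (y : H), PolySeq v s → y ∈ gam H j →
      Rel (v + 1 + j) (dl s) (dl (fun n => s n * y)))
    (x g : H) {w : ℕ} (hw : 1 ≤ w) (hg : g ∈ gam H w)
    (hS : ∀ j : ℕ, Rel (w + j + 2) ((ph x)^[j] (dl (tt x g))) (dl ((ph x)^[j] (tt x g))))
    (hU : ∀ j : ℕ, Rel (w + j + 2) (fun n => (ph x)^[j + 1] (tt x g) n * yk x (com x g) j)
      ((ph x)^[j] (dl (tt x g))))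
    (k : ℕ) :
    Rel (w + k + 2) (fun n => (ph x)^[k + 1] (tt x g) n * yk x (com x g) k)
      (dl^[k + 1] (tt x g)) := by
  induction k with
  | zero =>
    apply rel_of_eq
    have h := dl_tt x g
    show (fun n => (ph x)^[1] (tt x g) n * yk x (com x g) 0) = dl^[1] (tt x g)
    rw [Function.iterate_one, Function.iterate_one, h]
    rfl
  | succ k ih =>
    -- polynomiality of `P_{k+1} * y_k`
    have hP : PolySeq (w + (k + 1)) ((ph x)^[k + 1] (tt x g)) :=
      polyseq_ph_iter x (tt_polyseq x g hg) (k + 1)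
    have hy : yk x (com x g) k ∈ gam H (w + 1 + k) := yk_mem x g hg k
    have hPy : PolySeq (w + (k + 1)) (fun n => (ph x)^[k + 1] (tt x g) n * yk x (com x g) k) :=
      PolySeq.mul hP (PolySeq.mono (by omega) (polyseq_const hy))
    -- D1 on the induction hypothesis
    have h1 : Rel (w + k + 2 + 1) (dl (fun n => (ph x)^[k + 1] (tt x g) n * yk x (com x g) k))
        (dl (dl^[k + 1] (tt x g))) := hD1 _ _ _ _ hPy ih
    -- I1
    have h2 : Rel (w + (k + 1) + 1 + (w + 1 + k)) (dl ((ph x)^[k + 1] (tt x g)))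
        (dl (fun n => (ph x)^[k + 1] (tt x g) n * yk x (com x g) k)) := hI1 _ _ _ _ hP hy
    -- S and U at `k + 1`
    have h3 := hS (k + 1)
    have h4 := hU (k + 1)
    have e : dl^[k + 1 + 1] (tt x g) = dl (dl^[k + 1] (tt x g)) :=
      Function.iterate_succ_apply' dl (k + 1) (tt x g)
    rw [e]
    have h1' : Rel (w + (k + 1) + 2) (dl (fun n => (ph x)^[k + 1] (tt x g) n * yk x (com x g) k))
        (dl (dl^[k + 1] (tt x g))) := rel_mono (by omega) h1
    have h2' : Rel (w + (k + 1) + 2) (dl ((ph x)^[k + 1] (tt x g)))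
        (dl (fun n => (ph x)^[k + 1] (tt x g) n * yk x (com x g) k)) := rel_mono (by omega) h2
    exact rel_trans (rel_trans (rel_trans h4 h3) h2') h1'

end Cfsg.Agent.Lib.helper65.PearlPow
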