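import Mathlib
import Cfsg.Agent.Lib.helper68.HallPet
import Cfsg.Agent.Lib.helper65.PearlDefs
import Cfsg.Agent.Lib.helper65.PearlBasic
import Cfsg.Agent.Lib.helper43.PearlD1
import Cfsg.Agent.Lib.helper43.PearlD2
import Cfsg.Agent.Lib.helper98.PearlI1
import Cfsg.Agent.Lib.helper33.PearlI2
import Cfsg.Agent.Lib.helper58.PearlI3
import Cfsg.Agent.Lib.helper97.PearlScore
import Cfsg.Agent.Lib.helper11.PearlUcore
import Cfsg.Agent.Lib.helper54.PearlQcore

/-! S5238L pieces S, U, Q (racer copies, helper54): the verbatim statements, closed from the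
landed leaves D1, D2, I1, I2, I3 and the landed hypothesis-cores of S (helper97), U (helper11)
and Q (helper54). -/

set_option autoImplicit false

namespace Cfsg.Agent.Lib.helper65.PearlPow

open Cfsg.Agent.Lib.helper68

variable {H : Type*} [Group H]

/-- S, verbatim statement (racer copy). -/
theorem h54_s_claim (x g : H) {w : ℕ} (hw : 1 ≤ w) (hg : g ∈ gam H w) (j : ℕ) :
    Rel (w + j + 2) ((ph x)^[j] (dl (tt x g))) (dl ((ph x)^[j] (tt x g))) :=
  h97_s_claim_core (fun x _ hs => h33_rel_dl_ph x hs) (fun x _ _ hs h => rel_ph x hs h)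
    x g hw hg j

/-- U, verbatim statement (racer copy). -/
theorem h54_u_claim (x g : H) {w : ℕ} (hw : 1 ≤ w) (hg : g ∈ gam H w) (j : ℕ) :
    Rel (w + j + 2) (fun n => (ph x)^[j + 1] (tt x g) n * yk x (com x g) j)
      ((ph x)^[j] (dl (tt x g))) :=
  h11_u_claim_core (fun _ _ x _ _ hs h => rel_ph x hs h)
    (fun _ _ x _ _ hs hy => rel_ph_mul_const x hs hy) x g hg j

/-- Q, verbatim statement (racer copy). -/
theorem h54_q_claim (x g : H) {w : ℕ} (hw : 1 ≤ w) (hg : g ∈ gam H w) (k : ℕ) :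
    Rel (w + k + 2) (fun n => (ph x)^[k + 1] (tt x g) n * yk x (com x g) k)
      (dl^[k + 1] (tt x g)) :=
  h54_q_claim_core (fun _ _ _ _ hs h => rel_dl hs h) (fun _ _ _ _ hs hy => rel_dl_mul_const hs hy)
    x g hw hg (h54_s_claim x g hw hg) (h54_u_claim x g hw hg) k

end Cfsg.Agent.Lib.helper65.PearlPow
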