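/-
S2930 (3u): X 3-minimal, F*(X) ≅ A_n (n ≥ 5)  ⟹  X = F*(X) and n ∈ {6, 9} ∪ {3^a + 1 : a ≥ 2}.
ASSEMBLY (helper54) from the twelve pieces proved by helper49 (A1-A3), helper4 (B1, B2),
helper77 (D1, D3, G3, G4), helper17 (D2, D5), helper72 (G2).
-/
import Mathlib
import Cfsg.Prelude.Def_LocalEven
import Cfsg.Agent.Lib.helper37.ThreeCyc
import Cfsg.Agent.Lib.helper28.Components
import Cfsg.Agent.Lib.helper52.McBride
import Cfsg.Agent.S2119
import Cfsg.Agent.Lib.helper49.S2930A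
import Cfsg.Agent.Lib.helper4.S2930B1
import Cfsg.Agent.Lib.helper77.S2930D1
import Cfsg.Agent.Lib.helper77.S2930D3
import Cfsg.Agent.Lib.helper77.S2930G3
import Cfsg.Agent.Lib.helper77.S2930G4
import Cfsg.Agent.Lib.helper17.S2930D2
import Cfsg.Agent.Lib.helper17.S2930D5
import Cfsg.Agent.Lib.helper72.S2930G2a

set_option autoImplicit false
open Cfsg Equiv Equiv.Perm

namespace Cfsg.Agent.Lib.helper54.S2930

open Cfsg.Agent.Lib.helper37

/-! ## Pieces (wrappers of the landed piece theorems) -/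

/-- PIECE A1. -/
theorem full_univ_top (n : ℕ) (M : Subgroup (Perm (Fin n)))
    (h : Full M (Finset.univ : Finset (Fin n))) : alternatingGroup (Fin n) ≤ M :=
  Cfsg.Agent.Lib.helper49.S2930.full_univ_top n M h

/-- PIECE A2. -/
theorem full_union_meet (n : ℕ) (M : Subgroup (Perm (Fin n))) (Γ₁ Γ₂ : Finset (Fin n))
    (h₁ : Full M Γ₁) (h₂ : Full M Γ₂) (c₁ : 3 ≤ Γ₁.card) (c₂ : 3 ≤ Γ₂.card)
    (hmeet : (Γ₁ ∩ Γ₂).Nonempty) : Full M (Γ₁ ∪ Γ₂) :=
  Cfsg.Agent.Lib.helper49.S2930.full_union_meet n M Γ₁ Γ₂ h₁ h₂ c₁ c₂ hmeet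

/-- PIECE A3. -/
theorem full_of_invariant (n : ℕ) (hn : 3 ≤ n) (P M : Subgroup (Perm (Fin n)))
    (hU : ∀ H : Subgroup (Perm (Fin n)), P ≤ H → ¬ alternatingGroup (Fin n) ≤ H →
      H ⊓ alternatingGroup (Fin n) ≤ M)
    (s : Finset (Fin n)) (hs : ∀ g ∈ P, ∀ x ∈ s, g x ∈ s) (hs0 : s.Nonempty) (hs1 : sᶜ.Nonempty) :
    Full M s ∧ Full M sᶜ :=
  Cfsg.Agent.Lib.helper49.S2930.full_of_invariant n hn P M hU s hs hs0 hs1

/-- PIECE B1. -/
theorem exists_fixed (n : ℕ) (P : Subgroup (Perm (Fin n))) (hP : IsPGroup 3 P) :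
    (n % 3 = 1 → ∃ α : Fin n, ∀ g ∈ P, g α = α) ∧
    (n % 3 = 2 → ∃ α β : Fin n, α ≠ β ∧ (∀ g ∈ P, g α = α) ∧ (∀ g ∈ P, g β = β)) :=
  Cfsg.Agent.Lib.helper4.S2930.exists_fixed n P hP

/-- PIECE B2. -/
theorem card_pow_of_transitive (n : ℕ) (P : Subgroup (Perm (Fin n))) (hP : IsPGroup 3 P)
    (s : Finset (Fin n)) (x : Fin n) (hx : x ∈ s)
    (htr : ∀ y ∈ s, ∃ g ∈ P, g x = y) (hinv : ∀ g ∈ P, g x ∈ s) : ∃ a : ℕ, s.card = 3 ^ a :=
  Cfsg.Agent.Lib.helper4.S2930.card_pow_of_transitive n P hP s x hx htr hinv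

/-- PIECE D1. -/
theorem exists_fpf_three_comm (n : ℕ) (hn : 3 ∣ n) (P : Subgroup (Perm (Fin n)))
    (hP : IsPGroup 3 P) :
    ∃ z : Perm (Fin n), (∀ x, z x ≠ x) ∧ z ^ 3 = 1 ∧ ∀ g ∈ P, g * z = z * g :=
  Cfsg.Agent.Lib.helper77.S2930.exists_fpf_three_comm n hn P hP

/-- PIECE D2. -/
theorem full_grow (n : ℕ) (hn : 12 ≤ n) (M : Subgroup (Perm (Fin n)))
    (z : Perm (Fin n)) (hz : ∀ x, z x ≠ x) (hz3 : z ^ 3 = 1)
    (hzM : ∀ g ∈ alternatingGroup (Fin n), g * z = z * g → g ∈ M)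
    (Γ : Finset (Fin n)) (hΓ : Full M Γ) (hc : 3 < Γ.card) : alternatingGroup (Fin n) ≤ M :=
  Cfsg.Agent.Lib.helper17.S2930.full_grow n hn M z hz hz3 hzM Γ hΓ hc

/-- PIECE D3. -/
theorem cent_not_alt (n : ℕ) (hn : 5 ≤ n) (z : Perm (Fin n)) (hz : ∀ x, z x ≠ x)
    (hz3 : z ^ 3 = 1) : ¬ alternatingGroup (Fin n) ≤ Subgroup.centralizer {z} :=
  Cfsg.Agent.Lib.helper77.S2930.cent_not_alt n hn z hz hz3

/-- PIECE D5. -/
theorem exists_block_subgroup (n : ℕ) (hn : 10 ≤ n) (P : Subgroup (Perm (Fin n)))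
    (hP : IsPGroup 3 P) (htr : ∀ x y : Fin n, ∃ g ∈ P, g x = y) :
    ∃ (H : Subgroup (Perm (Fin n))) (Γ : Finset (Fin n)), P ≤ H ∧
      ¬ alternatingGroup (Fin n) ≤ H ∧ 3 < Γ.card ∧ Full (H ⊓ alternatingGroup (Fin n)) Γ :=
  Cfsg.Agent.Lib.helper17.S2930.exists_block_subgroup n hn P hP htr

/-- PIECE G3. -/
theorem aut6_isThreeCycle (φ : ↥(alternatingGroup (Fin 6)) ≃* ↥(alternatingGroup (Fin 6)))
    (k : ℕ) (hφ : ∀ x, (⇑φ)^[3 ^ k] x = x) (x : ↥(alternatingGroup (Fin 6)))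
    (hx : IsThreeCycle (x : Perm (Fin 6))) :
    IsThreeCycle ((φ x : ↥(alternatingGroup (Fin 6))) : Perm (Fin 6)) :=
  Cfsg.Agent.Lib.helper77.S2930.aut6_isThreeCycle φ k hφ x hx

/-- PIECE G4. -/
theorem perm_eq_one_of_commute_alt (n : ℕ) (hn : 4 ≤ n) (τ : Perm (Fin n))
    (h : ∀ x ∈ alternatingGroup (Fin n), τ * x = x * τ) : τ = 1 :=
  Cfsg.Agent.Lib.helper77.S2930.perm_eq_one_of_commute_alt n hn τ h

/-- PIECE G2 (uses G3, G4 and `Cfsg.Agent.S2119.aut_isThreeCycle`,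
`Cfsg.Agent.S2119.exists_perm_of_preserves`). -/
theorem aut_three_inner (n : ℕ) (hn : 5 ≤ n)
    (φ : ↥(alternatingGroup (Fin n)) ≃* ↥(alternatingGroup (Fin n)))
    (k : ℕ) (hφ : ∀ x, (⇑φ)^[3 ^ k] x = x) :
    ∃ τ : ↥(alternatingGroup (Fin n)), ∀ x, φ x = τ * x * τ⁻¹ :=
  Cfsg.Agent.Lib.helper72.S2930.aut_three_inner_of (fun φ k hφ x hx => aut6_isThreeCycle φ k hφ x hx) n hn φ k hφ

/-! ## Assembly (helper54) -/

theorem exists_orbit (n : ℕ) (P : Subgroup (Perm (Fin n))) (x : Fin n) :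
    ∃ s : Finset (Fin n), x ∈ s ∧ (∀ g ∈ P, ∀ y ∈ s, g y ∈ s) ∧
      (∀ y ∈ s, ∃ g ∈ P, g x = y) := by
  classical
  refine ⟨Finset.univ.filter (fun y => ∃ g ∈ P, g x = y), ?_, ?_, ?_⟩
  · rw [Finset.mem_filter]
    exact ⟨Finset.mem_univ _, 1, P.one_mem, rfl⟩
  · intro g hg y hy
    rw [Finset.mem_filter] at hy ⊢
    obtain ⟨-, h, hh, rfl⟩ := hy
    exact ⟨Finset.mem_univ _, g * h, P.mul_mem hg hh, rfl⟩
  · intro y hy
    rw [Finset.mem_filter] at hy
    exact hy.2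

theorem one_fixed_false (n : ℕ) (hn : 5 ≤ n) (P M : Subgroup (Perm (Fin n)))
    (hM : ¬ alternatingGroup (Fin n) ≤ M)
    (hU : ∀ H : Subgroup (Perm (Fin n)), P ≤ H → ¬ alternatingGroup (Fin n) ≤ H →
      H ⊓ alternatingGroup (Fin n) ≤ M)
    (α : Fin n) (hα : ∀ g ∈ P, g α = α)
    (s : Finset (Fin n)) (hs : ∀ g ∈ P, ∀ x ∈ s, g x ∈ s) (hs0 : s.Nonempty) (hαs : α ∉ s)
    (hc : 3 ≤ sᶜ.card) : False := by
  classical
  have hα1 : (({α} : Finset (Fin n))ᶜ).Nonempty := by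
    obtain ⟨x, hx⟩ := hs0
    refine ⟨x, ?_⟩
    rw [Finset.mem_compl, Finset.mem_singleton]
    rintro rfl
    exact hαs hx
  have h1 := (full_of_invariant n (by omega) P M hU {α} (by
      intro g hg x hx
      rw [Finset.mem_singleton] at hx ⊢
      rw [hx]
      exact hα g hg) ⟨α, Finset.mem_singleton_self α⟩ hα1).2
  have h2 := (full_of_invariant n (by omega) P M hU s hs hs0 ⟨α, Finset.mem_compl.mpr hαs⟩).2
  have hcard1 : 3 ≤ (({α} : Finset (Fin n))ᶜ).card := by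
    rw [Finset.card_compl, Finset.card_singleton, Fintype.card_fin]
    omega
  have hmeet : ((({α} : Finset (Fin n))ᶜ) ∩ sᶜ).Nonempty := by
    obtain ⟨x, hx, hxα⟩ : ∃ x ∈ sᶜ, x ≠ α := by
      by_contra hcon
      push Not at hcon
      have h3 : sᶜ ⊆ {α} := fun x hx => Finset.mem_singleton.mpr (hcon x hx)
      have h4 := Finset.card_le_card h3
      rw [Finset.card_singleton] at h4
      omega
    refine ⟨x, Finset.mem_inter.mpr ⟨?_, hx⟩⟩
    rw [Finset.mem_compl, Finset.mem_singleton]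
    exact hxα
  have h3 := full_union_meet n M _ _ h1 h2 hcard1 hc hmeet
  have h4 : (({α} : Finset (Fin n))ᶜ) ∪ sᶜ = Finset.univ := by
    ext x
    simp only [Finset.mem_union, Finset.mem_compl, Finset.mem_singleton, Finset.mem_univ,
      iff_true]
    by_cases hx : x = α
    · right
      rw [hx]
      exact hαs
    · left
      exact hx
  rw [h4] at h3
  exact hM (full_univ_top n M h3)

theorem two_fixed_false (n : ℕ) (hn : 5 ≤ n) (P M : Subgroup (Perm (Fin n)))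
    (hM : ¬ alternatingGroup (Fin n) ≤ M)
    (hU : ∀ H : Subgroup (Perm (Fin n)), P ≤ H → ¬ alternatingGroup (Fin n) ≤ H →
      H ⊓ alternatingGroup (Fin n) ≤ M)
    (α β : Fin n) (hαβ : α ≠ β) (hα : ∀ g ∈ P, g α = α) (hβ : ∀ g ∈ P, g β = β) : False := by
  classical
  apply one_fixed_false n hn P M hM hU α hα {β}
  · intro g hg x hx
    rw [Finset.mem_singleton] at hx ⊢
    rw [hx]
    exact hβ g hg
  · exact ⟨β, Finset.mem_singleton_self β⟩
  · rw [Finset.mem_singleton]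
    exact hαβ
  · rw [Finset.card_compl, Finset.card_singleton, Fintype.card_fin]
    omega

theorem alt_core (n : ℕ) (hn : 5 ≤ n) (P M : Subgroup (Perm (Fin n))) (hP : IsPGroup 3 P)
    (hM : ¬ alternatingGroup (Fin n) ≤ M)
    (hU : ∀ H : Subgroup (Perm (Fin n)), P ≤ H → ¬ alternatingGroup (Fin n) ≤ H →
      H ⊓ alternatingGroup (Fin n) ≤ M) :
    n = 6 ∨ n = 9 ∨ ∃ a : ℕ, 2 ≤ a ∧ n = 3 ^ a + 1 := by
  classical
  have hinv : ∀ (f : Perm (Fin n)) (t : Fin n), f⁻¹ (f t) = t := fun f t => by simp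
  obtain ⟨hf1, hf2⟩ := exists_fixed n P hP
  have hmod : n % 3 = 0 ∨ n % 3 = 1 ∨ n % 3 = 2 := by omega
  rcases hmod with h0 | h1 | h2
  · by_cases h6 : n = 6
    · exact Or.inl h6
    by_cases h9 : n = 9
    · exact Or.inr (Or.inl h9)
    exfalso
    have h12 : 12 ≤ n := by omega
    obtain ⟨z, hz, hz3, hzP⟩ := exists_fpf_three_comm n (Nat.dvd_of_mod_eq_zero h0) P hP
    have hPz : P ≤ Subgroup.centralizer {z} := by
      intro g hg
      rw [Subgroup.mem_centralizer_iff]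
      intro h hh
      rw [Set.mem_singleton_iff] at hh
      rw [hh]
      exact (hzP g hg).symm
    have hzM : ∀ g ∈ alternatingGroup (Fin n), g * z = z * g → g ∈ M := by
      intro g hg hgz
      apply hU _ hPz (cent_not_alt n hn z hz hz3)
      refine Subgroup.mem_inf.mpr ⟨?_, hg⟩
      rw [Subgroup.mem_centralizer_iff]
      intro h hh
      rw [Set.mem_singleton_iff] at hh
      rw [hh]
      exact hgz.symm
    obtain ⟨Γ, hΓ, hΓc⟩ : ∃ Γ : Finset (Fin n), Full M Γ ∧ 3 < Γ.card := by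
      obtain ⟨s, hxs, hsinv, hstr⟩ := exists_orbit n P (⟨0, by omega⟩ : Fin n)
      by_cases hsu : s = Finset.univ
      · have htr : ∀ x y : Fin n, ∃ g ∈ P, g x = y := by
          intro x y
          obtain ⟨g1, hg1, h1⟩ := hstr x (by rw [hsu]; exact Finset.mem_univ x)
          obtain ⟨g2, hg2, h2⟩ := hstr y (by rw [hsu]; exact Finset.mem_univ y)
          refine ⟨g2 * g1⁻¹, P.mul_mem hg2 (P.inv_mem hg1), ?_⟩
          rw [Perm.mul_apply, ← h1, hinv, h2]
        obtain ⟨H, Γ, hPH, hH, hΓc, hΓ⟩ := exists_block_subgroup n (by omega) P hP htr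
        refine ⟨Γ, ?_, hΓc⟩
        intro a b c ha hb hc hab hac hbc
        exact hU H hPH hH (hΓ a b c ha hb hc hab hac hbc)
      · have hsc : sᶜ.Nonempty := by
          rw [Finset.nonempty_iff_ne_empty]
          intro h
          exact hsu ((Finset.compl_eq_empty_iff s).mp h)
        obtain ⟨hF1, hF2⟩ := full_of_invariant n (by omega) P M hU s hsinv ⟨_, hxs⟩ hsc
        have hcard : s.card + sᶜ.card = n := by
          rw [Finset.card_add_card_compl, Fintype.card_fin]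
        by_cases h : 3 < s.card
        · exact ⟨s, hF1, h⟩
        · exact ⟨sᶜ, hF2, by omega⟩
    exact hM (full_grow n h12 M z hz hz3 hzM Γ hΓ hΓc)
  · obtain ⟨α, hα⟩ := hf1 h1
    obtain ⟨x, hxα⟩ : ∃ x : Fin n, x ≠ α := by
      by_cases h : α = ⟨0, by omega⟩
      · refine ⟨⟨1, by omega⟩, ?_⟩
        rw [h]
        simp [Fin.ext_iff]
      · exact ⟨⟨0, by omega⟩, fun h' => h h'.symm⟩
    obtain ⟨s, hxs, hsinv, hstr⟩ := exists_orbit n P x
    have hαs : α ∉ s := by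
      intro h
      obtain ⟨g, hg, hgx⟩ := hstr α h
      apply hxα
      have h3 := hα g⁻¹ (P.inv_mem hg)
      rw [← hgx, hinv] at h3
      exact h3.trans hgx
    have hcard : s.card + sᶜ.card = n := by
      rw [Finset.card_add_card_compl, Fintype.card_fin]
    have hαc : α ∈ sᶜ := Finset.mem_compl.mpr hαs
    by_cases hc : 3 ≤ sᶜ.card
    · exact (one_fixed_false n hn P M hM hU α hα s hsinv ⟨x, hxs⟩ hαs hc).elim
    · by_cases hc1 : sᶜ.card = 1
      · obtain ⟨a, ha⟩ := card_pow_of_transitive n P hP s x hxs hstr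
          (fun g hg => hsinv g hg x hxs)
        right; right
        refine ⟨a, ?_, by omega⟩
        by_contra h
        have h' : a = 0 ∨ a = 1 := by omega
        rcases h' with rfl | rfl
        · rw [pow_zero] at ha
          omega
        · rw [pow_one] at ha
          omega
      · exfalso
        have hpos : 0 < sᶜ.card := Finset.card_pos.mpr ⟨α, hαc⟩
        have hc2 : sᶜ.card = 2 := by omega
        obtain ⟨β, hβ, hβα⟩ : ∃ β ∈ sᶜ, β ≠ α := by
          by_contra hcon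
          push Not at hcon
          have h3 : sᶜ ⊆ {α} := fun x hx => Finset.mem_singleton.mpr (hcon x hx)
          have h4 := Finset.card_le_card h3
          rw [Finset.card_singleton] at h4
          omega
        have hsc : sᶜ = {α, β} := by
          symm
          apply Finset.eq_of_subset_of_card_le
          · intro y hy
            rw [Finset.mem_insert, Finset.mem_singleton] at hy
            rcases hy with rfl | rfl
            · exact hαc
            · exact hβ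
          · rw [hc2, Finset.card_pair hβα.symm]
        have hβfix : ∀ g ∈ P, g β = β := by
          intro g hg
          have h3 : g β ∈ sᶜ := by
            rw [Finset.mem_compl]
            intro h4
            have h5 := hsinv g⁻¹ (P.inv_mem hg) _ h4
            rw [hinv] at h5
            exact (Finset.mem_compl.mp hβ) h5
          rw [hsc, Finset.mem_insert, Finset.mem_singleton] at h3
          rcases h3 with h3 | h3
          · exfalso
            apply hβα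
            have h5 := hα g⁻¹ (P.inv_mem hg)
            rw [← h3, hinv] at h5
            exact h5.trans h3
          · exact h3
        exact two_fixed_false n hn P M hM hU α β hβα.symm hα hβfix
  · obtain ⟨α, β, hαβ, hα, hβ⟩ := hf2 h2
    exact (two_fixed_false n hn P M hM hU α β hαβ hα hβ).elim

theorem alt_min (n : ℕ) (hn : 5 ≤ n) (h : Cfsg.IsPMinimal 3 ↥(alternatingGroup (Fin n))) :
    n = 6 ∨ n = 9 ∨ ∃ a : ℕ, 2 ≤ a ∧ n = 3 ^ a + 1 := by
  have : Fact (Nat.Prime 3) := ⟨Nat.prime_three⟩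
  obtain ⟨S⟩ : Nonempty (Sylow 3 ↥(alternatingGroup (Fin n))) := inferInstance
  obtain ⟨-, M0, ⟨hM0, hSM0⟩, huniq⟩ := h S
  apply alt_core n hn ((S : Subgroup ↥(alternatingGroup (Fin n))).map
    (alternatingGroup (Fin n)).subtype) (M0.map (alternatingGroup (Fin n)).subtype)
  · exact S.2.map _
  · intro hle
    apply hM0.1
    rw [eq_top_iff]
    intro x _
    obtain ⟨y, hy, hyx⟩ := hle x.2
    have h1 : y = x := Subtype.ext hyx
    rw [← h1]
    exact hy
  · intro H hPH hH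
    have hH' : H.comap (alternatingGroup (Fin n)).subtype ≠ ⊤ := by
      intro htop
      apply hH
      intro x hx
      have h1 : (⟨x, hx⟩ : ↥(alternatingGroup (Fin n))) ∈
          H.comap (alternatingGroup (Fin n)).subtype := by
        rw [htop]
        trivial
      exact h1
    have hS' : (S : Subgroup ↥(alternatingGroup (Fin n))) ≤
        H.comap (alternatingGroup (Fin n)).subtype := by
      intro y hy
      exact hPH ⟨y, hy, rfl⟩
    obtain ⟨M1, hM1, hle⟩ := (eq_top_or_exists_le_coatom _).resolve_left hH'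
    have hM1eq : M1 = M0 := huniq M1 ⟨hM1, hS'.trans hle⟩
    intro x hx
    obtain ⟨hxH, hxA⟩ := Subgroup.mem_inf.mp hx
    refine ⟨⟨x, hxA⟩, ?_, rfl⟩
    rw [← hM1eq]
    exact hle hxH

theorem eq_top_of_inner {X : Type*} [Group X] [Finite X] (hX : Cfsg.IsPMinimal 3 X)
    (E : Subgroup X) [hEn : E.Normal] (hC : Subgroup.centralizer (E : Set X) ≤ E)
    (hinn : ∀ y : X, (∃ k : ℕ, y ^ 3 ^ k = 1) →
      ∃ e ∈ E, ∀ x ∈ E, y * x * y⁻¹ = e * x * e⁻¹) :
    E = ⊤ := by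
  have : Fact (Nat.Prime 3) := ⟨Nat.prime_three⟩
  obtain ⟨S⟩ : Nonempty (Sylow 3 X) := inferInstance
  obtain ⟨hnn, M0, ⟨hM0, hSM0⟩, huniq⟩ := hX S
  have hSE : (S : Subgroup X) ≤ E := by
    intro y hy
    obtain ⟨k, hk⟩ := S.2 ⟨y, hy⟩
    have hyk : y ^ 3 ^ k = 1 := by
      have := congrArg Subtype.val hk
      simpa using this
    obtain ⟨e, he, hconj⟩ := hinn y ⟨k, hyk⟩
    have h1 : e⁻¹ * y ∈ Subgroup.centralizer (E : Set X) := by
      rw [Subgroup.mem_centralizer_iff]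
      intro x hx
      have h2 := hconj x hx
      calc x * (e⁻¹ * y) = e⁻¹ * (e * x * e⁻¹) * y := by group
        _ = e⁻¹ * (y * x * y⁻¹) * y := by rw [h2]
        _ = e⁻¹ * y * x := by group
    have h2 := hC h1
    have h3 : y = e * (e⁻¹ * y) := by group
    rw [h3]
    exact E.mul_mem he h2
  by_contra hne
  obtain ⟨M1, hM1, hle⟩ := (eq_top_or_exists_le_coatom E).resolve_left hne
  have hM1eq : M1 = M0 := huniq M1 ⟨hM1, hSE.trans hle⟩
  have hN : Subgroup.normalizer ((S : Subgroup X) : Set X) ≠ ⊤ := by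
    intro h
    exact hnn (Subgroup.normalizer_eq_top_iff.mp h)
  obtain ⟨M2, hM2, hle2⟩ := (eq_top_or_exists_le_coatom _).resolve_left hN
  have hM2eq : M2 = M0 := huniq M2 ⟨hM2, Subgroup.le_normalizer.trans hle2⟩
  have hfr : Subgroup.normalizer ((S : Subgroup X) : Set X) ⊔ E = ⊤ :=
    Sylow.normalizer_sup_eq_top' S hSE
  apply hM0.1
  rw [eq_top_iff, ← hfr]
  exact sup_le (hM2eq ▸ hle2) (hM1eq ▸ hle)

theorem s2930 {X : Type*} [Group X] [Finite X] (hX : Cfsg.IsPMinimal 3 X) (n : ℕ) (hn : 5 ≤ n)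
    (hF : Nonempty (↥(Cfsg.generalizedFittingSubgroup X) ≃* ↥(alternatingGroup (Fin n)))) :
    Cfsg.generalizedFittingSubgroup X = ⊤ ∧
      (n = 6 ∨ n = 9 ∨ ∃ a : ℕ, 2 ≤ a ∧ n = 3 ^ a + 1) := by
  obtain ⟨e⟩ := hF
  have hnorm : (Cfsg.generalizedFittingSubgroup X).Normal :=
    Cfsg.Agent.Lib.helper28.generalizedFittingSubgroup_normal X
  have hE : Cfsg.generalizedFittingSubgroup X = ⊤ := by
    apply eq_top_of_inner hX _
      (Cfsg.Agent.Lib.helper28.centralizer_generalizedFittingSubgroup_le X)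
    rintro y ⟨k, hk⟩
    let ψ : ↥(Cfsg.generalizedFittingSubgroup X) ≃* ↥(Cfsg.generalizedFittingSubgroup X) :=
      MulAut.conjNormal y
    let φ : ↥(alternatingGroup (Fin n)) ≃* ↥(alternatingGroup (Fin n)) :=
      e.symm.trans (ψ.trans e)
    have hψ : ∀ (m : ℕ) (x : ↥(Cfsg.generalizedFittingSubgroup X)),
        (((⇑ψ)^[m] x : ↥(Cfsg.generalizedFittingSubgroup X)) : X) = y ^ m * x * (y ^ m)⁻¹ := by
      intro m
      induction m with
      | zero => intro x; simp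
      | succ m ih =>
        intro x
        rw [Function.iterate_succ_apply', MulAut.conjNormal_apply, ih, pow_succ']
        group
    have hφm : ∀ (m : ℕ) (x : ↥(alternatingGroup (Fin n))),
        (⇑φ)^[m] x = e ((⇑ψ)^[m] (e.symm x)) := by
      intro m
      induction m with
      | zero => intro x; simp
      | succ m ih =>
        intro x
        rw [Function.iterate_succ_apply', ih, Function.iterate_succ_apply']
        simp [φ]
    have hφ : ∀ x, (⇑φ)^[3 ^ k] x = x := by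
      intro x
      rw [hφm]
      have h1 : (⇑ψ)^[3 ^ k] (e.symm x) = e.symm x := by
        apply Subtype.ext
        rw [hψ, hk]
        simp
      rw [h1]
      simp
    obtain ⟨τ, hτ⟩ := aut_three_inner n hn φ k hφ
    refine ⟨((e.symm τ : ↥(Cfsg.generalizedFittingSubgroup X)) : X), (e.symm τ).2, ?_⟩
    intro x hx
    have h1 := hτ (e ⟨x, hx⟩)
    have h2 : φ (e ⟨x, hx⟩) = e (ψ ⟨x, hx⟩) := by simp [φ]
    rw [h2] at h1
    have h3 : ψ ⟨x, hx⟩ = e.symm τ * ⟨x, hx⟩ * (e.symm τ)⁻¹ := by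
      apply e.injective
      rw [h1]
      simp
    have h4 := congrArg Subtype.val h3
    rw [MulAut.conjNormal_apply] at h4
    simpa using h4
  refine ⟨hE, ?_⟩
  have e' : X ≃* ↥(alternatingGroup (Fin n)) :=
    (Subgroup.topEquiv.symm.trans (MulEquiv.subgroupCongr hE.symm)).trans e
  exact alt_min n hn (Cfsg.Agent.Lib.helper52.isPMinimal_of_mulEquiv e' hX)

end Cfsg.Agent.Lib.helper54.S2930
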