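import Mathlib

/-!
# S6000, piece BTV (racer copy, helper54): the pure group-theoretic core

`R` a subgroup whose commutators lie in `{1, z}` (`z` a central involution), `y` normalizing
`R` such that every `d s = s⁻¹ * (y * s * y⁻¹)` is an involution or `1`, and is `1` as soon as it
centralizes `R`.  If `y` has odd order then `y` centralizes `R`.
-/

set_option autoImplicit false

namespace Cfsg.Agent.Lib.helper54

/-- group core of BTV for `4 ∘ 2^(1+4)` -/
theorem h54_btv_group60 {G : Type*} [Group G] (R : Subgroup G) (z : G)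
    (hzc : ∀ g : G, z * g = g * z) (hz2 : z * z = 1) (hz1 : z ≠ 1)
    (hcomm : ∀ s ∈ R, ∀ t ∈ R, s * t = t * s ∨ s * t = z * (t * s))
    (y : G) (hy : ∀ s ∈ R, y * s * y⁻¹ ∈ R)
    (hA : ∀ s ∈ R, (s⁻¹ * (y * s * y⁻¹)) * (s⁻¹ * (y * s * y⁻¹)) = 1 ∧
      ((∀ t ∈ R, (s⁻¹ * (y * s * y⁻¹)) * t = t * (s⁻¹ * (y * s * y⁻¹))) →
        s⁻¹ * (y * s * y⁻¹) = 1))
    (k : ℕ) (hk : Odd k) (hyk : y ^ k = 1) : ∀ s ∈ R, y * s = s * y := by
  have hdR : ∀ s ∈ R, s⁻¹ * (y * s * y⁻¹) ∈ R := fun s hs => R.mul_mem (R.inv_mem hs) (hy s hs)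
  -- multiplicativity up to sign
  have hmul : ∀ s ∈ R, ∀ t ∈ R,
      (s * t)⁻¹ * (y * (s * t) * y⁻¹) = (s⁻¹ * (y * s * y⁻¹)) * (t⁻¹ * (y * t * y⁻¹)) ∨
      (s * t)⁻¹ * (y * (s * t) * y⁻¹) = z * ((s⁻¹ * (y * s * y⁻¹)) * (t⁻¹ * (y * t * y⁻¹))) := by
    intro s hs t ht
    have h0 : (s * t)⁻¹ * (y * (s * t) * y⁻¹) =
        t⁻¹ * ((s⁻¹ * (y * s * y⁻¹)) * t) * (t⁻¹ * (y * t * y⁻¹)) := by group
    rcases hcomm _ (hdR s hs) t ht with h | h
    · left
      rw [h0, h]; group
    · right
      rw [h0, h]
      have hz' : t⁻¹ * (z * (t * (s⁻¹ * (y * s * y⁻¹)))) = z * (s⁻¹ * (y * s * y⁻¹)) := by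
        rw [← mul_assoc t⁻¹ z, ← hzc t⁻¹]; group
      rw [hz']; group
  -- the values `d s` commute pairwise
  have hdcomm : ∀ s ∈ R, ∀ t ∈ R,
      (s⁻¹ * (y * s * y⁻¹)) * (t⁻¹ * (y * t * y⁻¹)) =
        (t⁻¹ * (y * t * y⁻¹)) * (s⁻¹ * (y * s * y⁻¹)) := by
    intro s hs t ht
    set a := s⁻¹ * (y * s * y⁻¹) with ha
    set b := t⁻¹ * (y * t * y⁻¹) with hb
    have ha2 : a * a = 1 := (hA s hs).1
    have hb2 : b * b = 1 := (hA t ht).1
    rcases hcomm a (hdR s hs) b (hdR t ht) with h | h
    · exact h
    · exfalso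
      have hba : b * a = z * (a * b) := by
        rw [h, ← mul_assoc z z, hz2, one_mul]
      have hsq : (a * b) * (a * b) = z := by
        calc (a * b) * (a * b) = a * (b * a) * b := by group
          _ = a * (z * (a * b)) * b := by rw [hba]
          _ = z * ((a * a) * (b * b)) := by
              rw [← mul_assoc a z, ← hzc a]; group
          _ = z := by rw [ha2, hb2, mul_one, mul_one]
      have hst := (hA (s * t) (R.mul_mem hs ht)).1
      rcases hmul s hs t ht with h' | h'
      · rw [h'] at hst
        rw [← ha, ← hb] at hst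
        exact hz1 (hsq.symm.trans hst)
      · rw [h'] at hst
        rw [← ha, ← hb] at hst
        have : z * (a * b) * (z * (a * b)) = z := by
          calc z * (a * b) * (z * (a * b)) = z * ((a * b) * z) * (a * b) := by group
            _ = z * (z * (a * b)) * (a * b) := by rw [← hzc (a * b)]
            _ = (z * z) * ((a * b) * (a * b)) := by group
            _ = z := by rw [hz2, hsq, one_mul]
        exact hz1 (this.symm.trans hst)
  -- `d (d s) = 1`
  have hdd : ∀ s ∈ R, y * (s⁻¹ * (y * s * y⁻¹)) * y⁻¹ = s⁻¹ * (y * s * y⁻¹) := by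
    intro s hs
    set a := s⁻¹ * (y * s * y⁻¹) with ha
    have haR : a ∈ R := hdR s hs
    have hcen : ∀ b ∈ R, (a⁻¹ * (y * a * y⁻¹)) * b = b * (a⁻¹ * (y * a * y⁻¹)) := by
      intro b hb
      set da := a⁻¹ * (y * a * y⁻¹) with hda
      set db := b⁻¹ * (y * b * y⁻¹) with hdb
      -- `a` commutes with `db`, `da` commutes with `db`
      have h1 : a * db = db * a := hdcomm s hs b hb
      have h2 : da * db = db * da := hdcomm a haR b hb
      have hya : y * a * y⁻¹ = a * da := by rw [hda]; group
      have hyb : y * b * y⁻¹ = b * db := by rw [hdb]; group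
      rcases hcomm a haR b hb with h | h
      · -- `a b = b a`
        have h3 : (y * a * y⁻¹) * (y * b * y⁻¹) = (y * b * y⁻¹) * (y * a * y⁻¹) := by
          have e1 : (y * a * y⁻¹) * (y * b * y⁻¹) = y * (a * b) * y⁻¹ := by group
          have e2 : (y * b * y⁻¹) * (y * a * y⁻¹) = y * (b * a) * y⁻¹ := by group
          rw [e1, e2, h]
        rw [hya, hyb] at h3
        -- a da b db = b db a da = b a db da = a b da db
        have h4 : b * db * (a * da) = a * b * (da * db) := by
          calc b * db * (a * da) = b * (db * a) * da := by group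
            _ = b * (a * db) * da := by rw [h1]
            _ = (b * a) * (db * da) := by group
            _ = (a * b) * (da * db) := by rw [h, h2]
        have h5 : a * da * (b * db) = a * b * (da * db) := h3.trans h4
        have h6 : a * (da * b) * db = a * (b * da) * db := by
          calc a * (da * b) * db = a * da * (b * db) := by group
            _ = a * b * (da * db) := h5
            _ = a * (b * da) * db := by group
        exact mul_left_cancel (mul_right_cancel h6)
      · -- `a b = z b a`
        have h3 : (y * a * y⁻¹) * (y * b * y⁻¹) = z * ((y * b * y⁻¹) * (y * a * y⁻¹)) := by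
          have e1 : (y * a * y⁻¹) * (y * b * y⁻¹) = y * (a * b) * y⁻¹ := by group
          have e2 : z * ((y * b * y⁻¹) * (y * a * y⁻¹)) = y * (z * (b * a)) * y⁻¹ := by
            have : z * ((y * b * y⁻¹) * (y * a * y⁻¹)) = (z * y) * (b * a) * y⁻¹ := by group
            rw [this, hzc y]; group
          rw [e1, e2, h]
        rw [hya, hyb] at h3
        have h4 : z * (b * db * (a * da)) = a * b * (da * db) := by
          calc z * (b * db * (a * da)) = z * (b * (db * a) * da) := by group
            _ = z * (b * (a * db) * da) := by rw [h1]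
            _ = (z * (b * a)) * (db * da) := by group
            _ = (a * b) * (da * db) := by rw [← h, h2]
        have h5 : a * da * (b * db) = a * b * (da * db) := h3.trans h4
        have h6 : a * (da * b) * db = a * (b * da) * db := by
          calc a * (da * b) * db = a * da * (b * db) := by group
            _ = a * b * (da * db) := h5
            _ = a * (b * da) * db := by group
        exact mul_left_cancel (mul_right_cancel h6)
    have h1 := (hA a haR).2 hcen
    have := congrArg (fun g => a * g) h1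
    simpa using this
  -- `y²` centralizes `R`
  have hsq : ∀ s ∈ R, y * (y * s * y⁻¹) * y⁻¹ = s := by
    intro s hs
    set c := s⁻¹ * (y * s * y⁻¹) with hc
    have hc2 : c * c = 1 := (hA s hs).1
    have hys : y * s * y⁻¹ = s * c := by rw [hc]; group
    have hyc : y * c * y⁻¹ = c := hdd s hs
    calc y * (y * s * y⁻¹) * y⁻¹ = y * (s * c) * y⁻¹ := by rw [hys]
      _ = (y * s * y⁻¹) * (y * c * y⁻¹) := by group
      _ = s * c * c := by rw [hys, hyc]
      _ = s := by rw [mul_assoc, hc2, mul_one]
  intro s hs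
  have hcomm2 : Commute (y * y) s := by
    have := hsq s hs
    have h' : y * y * s = s * (y * y) := by
      have h'' : y * (y * s * y⁻¹) * y⁻¹ * (y * y) = s * (y * y) := by rw [this]
      rw [← h'']; group
    exact h'
  obtain ⟨m, rfl⟩ := hk
  have hinv : y⁻¹ = (y * y) ^ m := by
    have : (y * y) ^ m * y = 1 := by
      rw [← pow_two, ← pow_mul, ← pow_succ]; exact hyk
    exact (eq_inv_of_mul_eq_one_left this).symm ▸ rfl
  have h3 : Commute (y⁻¹) s := by
    rw [hinv]; exact hcomm2.pow_left m
  have h4 : Commute y s := by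
    have := h3.inv_left
    simpa using this
  exact h4

end Cfsg.Agent.Lib.helper54
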