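import Mathlib
import Cfsg.Agent.Lib.helper89.S60Defs
import Cfsg.Agent.Lib.helper54.S60BTVcore

/-!
# S6000, piece BTV (racer copy, helper54): a transvection-like element of odd order
normalizing `R` centralizes `R`
-/

set_option autoImplicit false

namespace Cfsg.Agent.Lib.helper89.S60

open Matrix Cfsg Cfsg.Geo

/-- two linear functionals on a four-dimensional space have a common nonzero kernel vector -/
theorem h54_s60_common_ker {F : Type*} [Field F] (w w' : Fin 4 → F) :
    ∃ x : Fin 4 → F, x ≠ 0 ∧ w ⬝ᵥ x = 0 ∧ w' ⬝ᵥ x = 0 := by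
  classical
  let M : Matrix (Fin 4) (Fin 4) F := Matrix.of (fun i j =>
    if i = 0 then w j else if i = 1 then w' j else 0)
  have hdet : M.det = 0 := by
    apply Matrix.det_eq_zero_of_row_eq_zero (2 : Fin 4)
    intro j
    simp [M]
  obtain ⟨x, hx0, hx⟩ := (Matrix.exists_mulVec_eq_zero_iff (M := M)).mpr hdet
  refine ⟨x, hx0, ?_, ?_⟩
  · have := congrFun hx 0
    simpa [M, Matrix.mulVec, dotProduct] using this
  · have := congrFun hx 1
    simpa [M, Matrix.mulVec, dotProduct] using this

/-- a vector with `-x = x` is zero (`2 ≠ 0`) -/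
theorem h54_s60_neg_fix {F : Type*} [Field F] (h2 : (2 : F) ≠ 0) (x : Fin 4 → F) (hx : -x = x) :
    x = 0 := by
  funext i
  have := congrFun hx i
  simp only [Pi.neg_apply] at this
  have h : (2 : F) * x i = 0 := by linear_combination -this
  rcases mul_eq_zero.mp h with h | h
  · exact absurd h h2
  · simpa using h

/-- BTV (racer copy), verbatim statement of `s60_transv_central`. -/
theorem h54_s60_transv_central {F : Type*} [Field F] [Fintype F] (h2 : (2 : F) ≠ 0) (R : Subgroup (GL (Fin 4) F)) (w : F) (hG : Good R w)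
    (y : GL (Fin 4) F) (hy : y ∈ subgroupNormalizer R) (k : ℕ) (hk : Odd k) (hyk : y ^ k = 1)
    (u v : Fin 4 → F) (hyu : (y : Matrix (Fin 4) (Fin 4) F) = 1 + Matrix.vecMulVec u v) :
    ∀ s ∈ R, y * s = s * y := by
  classical
  have hz : (((-1 : GL (Fin 4) F)) : Matrix (Fin 4) (Fin 4) F) = -1 := by
    rw [Units.val_neg, Units.val_one]
  have hzc : ∀ g : GL (Fin 4) F, (-1 : GL (Fin 4) F) * g = g * (-1 : GL (Fin 4) F) := by
    intro g
    apply Units.ext
    rw [Units.val_mul, Units.val_mul, hz]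
    simp
  have hz2 : (-1 : GL (Fin 4) F) * (-1 : GL (Fin 4) F) = 1 := by
    apply Units.ext
    rw [Units.val_mul, hz]
    simp
  have hz1 : (-1 : GL (Fin 4) F) ≠ 1 := by
    intro h
    have h' : (((-1 : GL (Fin 4) F)) : Matrix (Fin 4) (Fin 4) F) = 1 := by rw [h]; rfl
    rw [hz] at h'
    have := congrFun (congrFun h' 0) 0
    simp only [Matrix.neg_apply, Matrix.one_apply_eq] at this
    apply h2
    linear_combination -this
  have hy' : ∀ s ∈ R, y * s * y⁻¹ ∈ R := fun s hs =>
    (Subgroup.mem_set_normalizer_iff.mp hy s).mp hs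
  have hcomm : ∀ s ∈ R, ∀ t ∈ R, s * t = t * s ∨ s * t = (-1 : GL (Fin 4) F) * (t * s) := by
    intro s hs t ht
    rcases hG.comm s hs t ht with h | h
    · left
      apply Units.ext
      rw [Units.val_mul, Units.val_mul]; exact h
    · right
      apply Units.ext
      rw [Units.val_mul, Units.val_mul, Units.val_mul, hz, h]
      simp
  have hA : ∀ s ∈ R, (s⁻¹ * (y * s * y⁻¹)) * (s⁻¹ * (y * s * y⁻¹)) = 1 ∧
      ((∀ t ∈ R, (s⁻¹ * (y * s * y⁻¹)) * t = t * (s⁻¹ * (y * s * y⁻¹))) →
        s⁻¹ * (y * s * y⁻¹) = 1) := by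
    intro s hs
    have hdR : s⁻¹ * (y * s * y⁻¹) ∈ R := R.mul_mem (R.inv_mem hs) (hy' s hs)
    obtain ⟨x, hx0, hx1, hx2⟩ :=
      h54_s60_common_ker v (v ᵥ* (s : Matrix (Fin 4) (Fin 4) F))
    -- Y S = S' Y
    have hYS : (y : Matrix (Fin 4) (Fin 4) F) * (s : Matrix (Fin 4) (Fin 4) F) =
        ((y * s * y⁻¹ : GL (Fin 4) F) : Matrix (Fin 4) (Fin 4) F) * (y : Matrix (Fin 4) (Fin 4) F) := by
      rw [← Units.val_mul, ← Units.val_mul]
      congr 1
      group
    have hSx : (s : Matrix (Fin 4) (Fin 4) F) *ᵥ x =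
        ((y * s * y⁻¹ : GL (Fin 4) F) : Matrix (Fin 4) (Fin 4) F) *ᵥ x := by
      have h := congrArg (fun A => A *ᵥ x) hYS
      rw [hyu, Matrix.add_mul, Matrix.mul_add, Matrix.one_mul, Matrix.mul_one,
        Matrix.add_mulVec, Matrix.add_mulVec, ← Matrix.mulVec_mulVec, ← Matrix.mulVec_mulVec,
        Matrix.vecMulVec_mulVec, Matrix.vecMulVec_mulVec, Matrix.dotProduct_mulVec, hx1, hx2] at h
      simpa using h
    have hDx : ((s⁻¹ * (y * s * y⁻¹) : GL (Fin 4) F) : Matrix (Fin 4) (Fin 4) F) *ᵥ x = x := by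
      rw [Units.val_mul, ← Matrix.mulVec_mulVec, ← hSx, Matrix.mulVec_mulVec, ← Units.val_mul,
        inv_mul_cancel]
      simp
    constructor
    · rcases hG.sq _ hdR with h | h
      · apply Units.ext
        rw [Units.val_mul]; exact h
      · exfalso
        have h' := congrArg (fun A => A *ᵥ x) h
        rw [← Matrix.mulVec_mulVec, hDx, hDx, Matrix.neg_mulVec, Matrix.one_mulVec] at h'
        exact hx0 (h54_s60_neg_fix h2 x h'.symm)
    · intro hcen
      obtain ⟨c, hc⟩ := hG.schur ((s⁻¹ * (y * s * y⁻¹) : GL (Fin 4) F) : Matrix (Fin 4) (Fin 4) F)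
        (fun t ht => by
          have h' := congrArg (fun g : GL (Fin 4) F => (g : Matrix (Fin 4) (Fin 4) F)) (hcen t ht)
          simpa only [Units.val_mul] using h')
      rw [hc] at hDx
      have hcx : c • x = x := by
        rw [Matrix.smul_mulVec, Matrix.one_mulVec] at hDx
        exact hDx
      have hc1 : c = 1 := by
        by_contra hne
        apply hx0
        funext i
        have := congrFun hcx i
        simp only [Pi.smul_apply, smul_eq_mul] at this
        have h3 : (c - 1) * x i = 0 := by linear_combination this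
        rcases mul_eq_zero.mp h3 with h4 | h4
        · exact absurd (sub_eq_zero.mp h4) hne
        · simpa using h4
      apply Units.ext
      rw [hc, hc1, one_smul]
      rfl
  exact Cfsg.Agent.Lib.helper54.h54_btv_group60 R (-1) hzc hz2 hz1 hcomm y hy' hA k hk hyk

end Cfsg.Agent.Lib.helper89.S60
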