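import Mathlib
import Cfsg.Prelude.Def_LinearParabolics
import Cfsg.Agent.Lib.helper45.SVDefs

/-!
# S2425 piece COMB (racer copy by helper54): permutations `κ` with `κ i ≤ i + 1` and block-end sets

Induction on `n`, peeling position `0` with `Equiv.Perm.decomposeFin`: both sides satisfy
`X (n + 2) Φ = X (n + 1) (Φ ∘ S) - X (n + 1) (Φ ∘ T)`.
-/

set_option autoImplicit false
open scoped MatrixGroups

namespace Cfsg.Agent.Lib.helper45.SV

/-- prepend a block of size one -/
def h54_S {n : ℕ} (μ : Fin n → ℕ) : Fin (n + 1) → ℕ := Fin.cons 1 μ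

/-- extend the first block by one position at the front -/
def h54_T {n : ℕ} (μ : Fin n → ℕ) : Fin (n + 1) → ℕ :=
  Fin.cons 0 (fun i => μ i + if μ i = i.val + 1 then 1 else 0)

/-- the shift embedding -/
def h54_succ (n : ℕ) : Fin n ↪ Fin (n + 1) := ⟨Fin.succ, Fin.succ_injective n⟩

/-- add a new first block of size one -/
def h54_A {n : ℕ} (D : Finset (Fin n)) : Finset (Fin (n + 1)) := insert 0 (D.map (h54_succ n))

/-- extend the first block -/
def h54_B {n : ℕ} (D : Finset (Fin n)) : Finset (Fin (n + 1)) := D.map (h54_succ n)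

theorem h54_zero_mem_A {n : ℕ} (D : Finset (Fin n)) : (0 : Fin (n + 1)) ∈ h54_A D :=
  Finset.mem_insert_self _ _

theorem h54_succ_mem_A {n : ℕ} (D : Finset (Fin n)) (i : Fin n) : i.succ ∈ h54_A D ↔ i ∈ D := by
  unfold h54_A
  rw [Finset.mem_insert, Finset.mem_map]
  constructor
  · rintro (h | ⟨j, hj, hji⟩)
    · exact absurd h (Fin.succ_ne_zero i)
    · have : j = i := Fin.succ_injective n hji
      rw [← this]; exact hj
  · intro h
    exact Or.inr ⟨i, h, rfl⟩

theorem h54_zero_not_mem_B {n : ℕ} (D : Finset (Fin n)) : (0 : Fin (n + 1)) ∉ h54_B D := by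
  unfold h54_B
  rw [Finset.mem_map]
  rintro ⟨j, _, hj⟩
  exact Fin.succ_ne_zero j hj

theorem h54_succ_mem_B {n : ℕ} (D : Finset (Fin n)) (i : Fin n) : i.succ ∈ h54_B D ↔ i ∈ D := by
  unfold h54_B
  rw [Finset.mem_map]
  constructor
  · rintro ⟨j, hj, hji⟩
    have : j = i := Fin.succ_injective n hji
    rw [← this]; exact hj
  · intro h
    exact ⟨i, h, rfl⟩

theorem h54_topOf_le {n : ℕ} (D : Finset (Fin n)) (i : Fin n) (k : ℕ) :
    topOf D i ≤ k ↔ ∀ d ∈ D, d < i → d.val + 1 ≤ k := by
  unfold topOf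
  rw [Finset.sup_le_iff]
  constructor
  · intro h d hd hdi
    exact h (d.val + 1) (Finset.mem_image.mpr ⟨d, Finset.mem_filter.mpr ⟨hd, hdi⟩, rfl⟩)
  · intro h b hb
    obtain ⟨d, hd, rfl⟩ := Finset.mem_image.mp hb
    exact h d (Finset.mem_filter.mp hd).1 (Finset.mem_filter.mp hd).2

theorem h54_topOf_le_self {n : ℕ} (D : Finset (Fin n)) (i : Fin n) : topOf D i ≤ i.val :=
  (h54_topOf_le D i i.val).mpr (fun d _ h => by
    have := Fin.lt_def.mp h
    omega)

theorem h54_topOf_zero {n : ℕ} (D : Finset (Fin (n + 1))) : topOf D 0 = 0 :=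
  Nat.le_zero.mp ((h54_topOf_le D 0 0).mpr (fun d _ h => absurd h (Fin.not_lt_zero d)))

theorem h54_topOf_A {n : ℕ} (D : Finset (Fin n)) (i : Fin n) :
    topOf (h54_A D) i.succ = topOf D i + 1 := by
  have ht := (h54_topOf_le D i (topOf D i)).mp le_rfl
  have hX := (h54_topOf_le (h54_A D) i.succ (topOf (h54_A D) i.succ)).mp le_rfl
  apply le_antisymm
  · refine (h54_topOf_le (h54_A D) i.succ _).mpr ?_
    intro d
    refine Fin.cases ?_ (fun d' => ?_) d
    · intro _ _
      simp
    · intro hd hlt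
      have hd' : d' ∈ D := (h54_succ_mem_A D d').mp hd
      have hlt' : d' < i := Fin.succ_lt_succ_iff.mp hlt
      have := ht d' hd' hlt'
      simp only [Fin.val_succ]
      omega
  · have h1 : 1 ≤ topOf (h54_A D) i.succ := by
      have := hX 0 (h54_zero_mem_A D) (Fin.succ_pos i)
      simpa using this
    have h2 : topOf D i ≤ topOf (h54_A D) i.succ - 1 := by
      refine (h54_topOf_le D i _).mpr ?_
      intro d' hd' hlt'
      have := hX d'.succ ((h54_succ_mem_A D d').mpr hd') (Fin.succ_lt_succ_iff.mpr hlt')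
      simp only [Fin.val_succ] at this
      omega
    omega

theorem h54_topOf_B {n : ℕ} (D : Finset (Fin n)) (i : Fin n) :
    topOf (h54_B D) i.succ = if topOf D i = 0 then 0 else topOf D i + 1 := by
  have ht := (h54_topOf_le D i (topOf D i)).mp le_rfl
  have hX := (h54_topOf_le (h54_B D) i.succ (topOf (h54_B D) i.succ)).mp le_rfl
  have hXle : ∀ k, (∀ d' ∈ D, d' < i → d'.val + 2 ≤ k) → topOf (h54_B D) i.succ ≤ k := by
    intro k hk
    refine (h54_topOf_le (h54_B D) i.succ k).mpr ?_
    intro d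
    refine Fin.cases ?_ (fun d' => ?_) d
    · intro h0 _
      exact absurd h0 (h54_zero_not_mem_B D)
    · intro hd hlt
      have := hk d' ((h54_succ_mem_B D d').mp hd) (Fin.succ_lt_succ_iff.mp hlt)
      simp only [Fin.val_succ]
      omega
  by_cases h0 : topOf D i = 0
  · rw [if_pos h0]
    refine Nat.le_zero.mp (hXle 0 ?_)
    intro d' hd' hlt'
    have := ht d' hd' hlt'
    omega
  · rw [if_neg h0]
    apply le_antisymm
    · refine hXle _ ?_
      intro d' hd' hlt'
      have := ht d' hd' hlt'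
      omega
    · have h2 : topOf D i ≤ topOf (h54_B D) i.succ - 1 := by
        refine (h54_topOf_le D i _).mpr ?_
        intro d' hd' hlt'
        have := hX d'.succ ((h54_succ_mem_B D d').mpr hd') (Fin.succ_lt_succ_iff.mpr hlt')
        simp only [Fin.val_succ] at this
        omega
      omega

theorem h54_compOf_A {n : ℕ} (D : Finset (Fin n)) : compOf (h54_A D) = h54_S (compOf D) := by
  funext j
  refine Fin.cases ?_ (fun i => ?_) j
  · unfold compOf h54_S
    rw [if_pos (h54_zero_mem_A D), h54_topOf_zero]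
    simp
  · have ht := h54_topOf_le_self D i
    unfold compOf h54_S
    rw [Fin.cons_succ, h54_topOf_A]
    by_cases hi : i ∈ D
    · rw [if_pos ((h54_succ_mem_A D i).mpr hi), if_pos hi]
      simp only [Fin.val_succ]
      omega
    · rw [if_neg (fun h => hi ((h54_succ_mem_A D i).mp h)), if_neg hi]

theorem h54_compOf_B {n : ℕ} (D : Finset (Fin n)) : compOf (h54_B D) = h54_T (compOf D) := by
  funext j
  refine Fin.cases ?_ (fun i => ?_) j
  · unfold compOf h54_T
    rw [if_neg (h54_zero_not_mem_B D)]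
    simp
  · have ht := h54_topOf_le_self D i
    unfold compOf h54_T
    rw [Fin.cons_succ, h54_topOf_B]
    beta_reduce
    by_cases hi : i ∈ D
    · rw [if_pos ((h54_succ_mem_B D i).mpr hi), if_pos hi]
      simp only [Fin.val_succ]
      split_ifs <;> omega
    · rw [if_neg (fun h => hi ((h54_succ_mem_B D i).mp h)), if_neg hi]
      simp

/-- the block-end side -/
noncomputable def h54_R {n : ℕ} (Φ : (Fin n → ℕ) → ℂ) : ℂ :=
  ∑ D ∈ endSets n, (-1 : ℂ) ^ (n - D.card) * Φ (compOf D)

theorem h54_mem_endSets {n : ℕ} (D : Finset (Fin n)) :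
    D ∈ endSets n ↔ ∀ i : Fin n, i.val + 1 = n → i ∈ D := by
  simp only [endSets, Finset.mem_filter, Finset.mem_univ, true_and]

theorem h54_endSets_succ (m : ℕ) :
    endSets (m + 1 + 1) = (endSets (m + 1)).image h54_A ∪ (endSets (m + 1)).image h54_B := by
  ext D
  rw [Finset.mem_union, Finset.mem_image, Finset.mem_image, h54_mem_endSets]
  constructor
  · intro hD
    have hD' : (Finset.univ.filter (fun i : Fin (m + 1) => i.succ ∈ D)) ∈ endSets (m + 1) := by
      rw [h54_mem_endSets]
      intro i hi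
      rw [Finset.mem_filter]
      exact ⟨Finset.mem_univ _, hD i.succ (by simp only [Fin.val_succ]; omega)⟩
    by_cases h0 : (0 : Fin (m + 1 + 1)) ∈ D
    · left
      refine ⟨_, hD', ?_⟩
      ext j
      refine Fin.cases ?_ (fun i => ?_) j
      · exact ⟨fun _ => h0, fun _ => h54_zero_mem_A _⟩
      · rw [h54_succ_mem_A, Finset.mem_filter]
        simp
    · right
      refine ⟨_, hD', ?_⟩
      ext j
      refine Fin.cases ?_ (fun i => ?_) j
      · exact ⟨fun h => absurd h (h54_zero_not_mem_B _), fun h => absurd h h0⟩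
      · rw [h54_succ_mem_B, Finset.mem_filter]
        simp
  · rintro (⟨D', hD', rfl⟩ | ⟨D', hD', rfl⟩)
    · intro j
      refine Fin.cases ?_ (fun i => ?_) j
      · intro h
        simp at h
      · intro h
        rw [h54_succ_mem_A]
        exact (h54_mem_endSets D').mp hD' i (by simp only [Fin.val_succ] at h; omega)
    · intro j
      refine Fin.cases ?_ (fun i => ?_) j
      · intro h
        simp at h
      · intro h
        rw [h54_succ_mem_B]
        exact (h54_mem_endSets D').mp hD' i (by simp only [Fin.val_succ] at h; omega)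

theorem h54_A_inj {n : ℕ} : Function.Injective (h54_A (n := n)) := by
  intro D₁ D₂ h
  ext i
  rw [← h54_succ_mem_A D₁ i, ← h54_succ_mem_A D₂ i, h]

theorem h54_B_inj {n : ℕ} : Function.Injective (h54_B (n := n)) := by
  intro D₁ D₂ h
  ext i
  rw [← h54_succ_mem_B D₁ i, ← h54_succ_mem_B D₂ i, h]

theorem h54_card_A {n : ℕ} (D : Finset (Fin n)) : (h54_A D).card = D.card + 1 := by
  have h0 := h54_zero_not_mem_B D
  unfold h54_B at h0
  unfold h54_A
  rw [Finset.card_insert_of_notMem h0, Finset.card_map]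

theorem h54_card_B {n : ℕ} (D : Finset (Fin n)) : (h54_B D).card = D.card := by
  unfold h54_B
  rw [Finset.card_map]

theorem h54_R_rec {m : ℕ} (Φ : (Fin (m + 1 + 1) → ℕ) → ℂ) :
    h54_R Φ = h54_R (fun μ => Φ (h54_S μ)) - h54_R (fun μ => Φ (h54_T μ)) := by
  unfold h54_R
  have hdisj : Disjoint ((endSets (m + 1)).image h54_A) ((endSets (m + 1)).image h54_B) := by
    rw [Finset.disjoint_left]
    intro D hA hB
    obtain ⟨D₁, -, rfl⟩ := Finset.mem_image.mp hA
    obtain ⟨D₂, -, h⟩ := Finset.mem_image.mp hB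
    have h0 := h54_zero_mem_A D₁
    rw [← h] at h0
    exact h54_zero_not_mem_B D₂ h0
  rw [h54_endSets_succ, Finset.sum_union hdisj,
    Finset.sum_image (fun x _ y _ h => h54_A_inj h),
    Finset.sum_image (fun x _ y _ h => h54_B_inj h), sub_eq_add_neg, ← Finset.sum_neg_distrib]
  congr 1
  · refine Finset.sum_congr rfl fun D _ => ?_
    rw [h54_card_A, h54_compOf_A, Nat.add_sub_add_right]
  · refine Finset.sum_congr rfl fun D _ => ?_
    have hle : D.card ≤ m + 1 := by
      have := Finset.card_le_univ D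
      rwa [Fintype.card_fin] at this
    rw [h54_card_B, h54_compOf_B]
    have e : m + 1 + 1 - D.card = (m + 1 - D.card) + 1 := by omega
    rw [e, pow_succ]
    ring

/-- the summand on the permutation side -/
noncomputable def h54_L {n : ℕ} (Φ : (Fin n → ℕ) → ℂ) (κ : Equiv.Perm (Fin n)) : ℂ :=
  if ∀ i : Fin n, (κ i).val ≤ 1 + i.val then
    ((Equiv.Perm.sign κ : ℤ) : ℂ) * Φ (fun i => 1 + i.val - (κ i).val) else 0

theorem h54_L_zero {n : ℕ} (Φ : (Fin (n + 1) → ℕ) → ℂ) (e : Equiv.Perm (Fin n)) :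
    h54_L Φ (Equiv.Perm.decomposeFin.symm (0, e)) = h54_L (fun μ => Φ (h54_S μ)) e := by
  have hκ0 : Equiv.Perm.decomposeFin.symm ((0 : Fin (n + 1)), e) 0 = 0 :=
    Equiv.Perm.decomposeFin_symm_apply_zero 0 e
  have hκs : ∀ i : Fin n,
      Equiv.Perm.decomposeFin.symm ((0 : Fin (n + 1)), e) i.succ = (e i).succ := by
    intro i
    rw [Equiv.Perm.decomposeFin_symm_apply_succ, Equiv.swap_self]
    rfl
  have hcond : (∀ i : Fin (n + 1),
      (Equiv.Perm.decomposeFin.symm ((0 : Fin (n + 1)), e) i).val ≤ 1 + i.val) ↔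
      (∀ i : Fin n, (e i).val ≤ 1 + i.val) := by
    rw [Fin.forall_fin_succ, hκ0]
    constructor
    · rintro ⟨-, h⟩ i
      have := h i
      rw [hκs] at this
      simp only [Fin.val_succ] at this
      omega
    · intro h
      refine ⟨by simp, fun i => ?_⟩
      rw [hκs]
      have := h i
      simp only [Fin.val_succ]
      omega
  have hfun : (fun i : Fin (n + 1) =>
      1 + i.val - (Equiv.Perm.decomposeFin.symm ((0 : Fin (n + 1)), e) i).val) =
      h54_S (fun i : Fin n => 1 + i.val - (e i).val) := by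
    funext i
    refine Fin.cases ?_ (fun i => ?_) i
    · rw [hκ0]
      simp [h54_S]
    · rw [hκs]
      simp only [h54_S, Fin.cons_succ, Fin.val_succ]
      omega
  have hsign : Equiv.Perm.sign (Equiv.Perm.decomposeFin.symm ((0 : Fin (n + 1)), e)) =
      Equiv.Perm.sign e := by
    rw [Equiv.Perm.decomposeFin.symm_sign]
    simp
  unfold h54_L
  by_cases h : ∀ i : Fin n, (e i).val ≤ 1 + i.val
  · rw [if_pos h, if_pos (hcond.mpr h), hfun, hsign]
  · rw [if_neg h, if_neg (fun h' => h (hcond.mp h'))]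

theorem h54_L_one {n : ℕ} (Φ : (Fin (n + 1 + 1) → ℕ) → ℂ) (e : Equiv.Perm (Fin (n + 1))) :
    h54_L Φ (Equiv.Perm.decomposeFin.symm (1, e)) = - h54_L (fun μ => Φ (h54_T μ)) e := by
  have hκ0 : Equiv.Perm.decomposeFin.symm ((1 : Fin (n + 1 + 1)), e) 0 = 1 :=
    Equiv.Perm.decomposeFin_symm_apply_zero 1 e
  have hκs : ∀ i : Fin (n + 1),
      (Equiv.Perm.decomposeFin.symm ((1 : Fin (n + 1 + 1)), e) i.succ).val =
      if (e i).val = 0 then 0 else (e i).val + 1 := by
    intro i
    rw [Equiv.Perm.decomposeFin_symm_apply_succ]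
    by_cases h : (e i).val = 0
    · have h1 : (e i).succ = 1 := Fin.ext (by simp [h])
      rw [h1, Equiv.swap_apply_right, if_pos h]
      rfl
    · have h1 : (e i).succ ≠ 1 := by
        intro h1
        have := congrArg Fin.val h1
        rw [Fin.val_succ, Fin.val_one] at this
        omega
      rw [Equiv.swap_apply_of_ne_of_ne (Fin.succ_ne_zero _) h1, if_neg h]
      simp
  have hcond : (∀ i : Fin (n + 1 + 1),
      (Equiv.Perm.decomposeFin.symm ((1 : Fin (n + 1 + 1)), e) i).val ≤ 1 + i.val) ↔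
      (∀ i : Fin (n + 1), (e i).val ≤ 1 + i.val) := by
    rw [Fin.forall_fin_succ, hκ0]
    constructor
    · rintro ⟨-, h⟩ i
      have := h i
      rw [hκs] at this
      simp only [Fin.val_succ] at this
      split_ifs at this <;> omega
    · intro h
      refine ⟨by simp, fun i => ?_⟩
      rw [hκs]
      have := h i
      simp only [Fin.val_succ]
      split_ifs <;> omega
  have hfun : (fun i : Fin (n + 1 + 1) =>
      1 + i.val - (Equiv.Perm.decomposeFin.symm ((1 : Fin (n + 1 + 1)), e) i).val) =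
      h54_T (fun i : Fin (n + 1) => 1 + i.val - (e i).val) := by
    funext i
    refine Fin.cases ?_ (fun i => ?_) i
    · rw [hκ0]
      simp [h54_T]
    · rw [hκs]
      simp only [h54_T, Fin.cons_succ, Fin.val_succ]
      split_ifs <;> omega
  have hsign : Equiv.Perm.sign (Equiv.Perm.decomposeFin.symm ((1 : Fin (n + 1 + 1)), e)) =
      - Equiv.Perm.sign e := by
    rw [Equiv.Perm.decomposeFin.symm_sign]
    simp
  unfold h54_L
  by_cases h : ∀ i : Fin (n + 1), (e i).val ≤ 1 + i.val
  · rw [if_pos h, if_pos (hcond.mpr h), hfun, hsign]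
    push_cast
    ring
  · rw [if_neg h, if_neg (fun h' => h (hcond.mp h')), neg_zero]

theorem h54_L_ge {n : ℕ} (Φ : (Fin (n + 1 + 1) → ℕ) → ℂ) (p : Fin n)
    (e : Equiv.Perm (Fin (n + 1))) :
    h54_L Φ (Equiv.Perm.decomposeFin.symm (p.succ.succ, e)) = 0 := by
  unfold h54_L
  rw [if_neg]
  intro h
  have := h 0
  rw [Equiv.Perm.decomposeFin_symm_apply_zero] at this
  simp only [Fin.val_succ, Fin.val_zero] at this
  omega

theorem h54_L_rec {n : ℕ} (Φ : (Fin (n + 1 + 1) → ℕ) → ℂ) :
    ∑ κ : Equiv.Perm (Fin (n + 1 + 1)), h54_L Φ κ =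
      ∑ e : Equiv.Perm (Fin (n + 1)), h54_L (fun μ => Φ (h54_S μ)) e -
        ∑ e : Equiv.Perm (Fin (n + 1)), h54_L (fun μ => Φ (h54_T μ)) e := by
  rw [← Equiv.sum_comp (Equiv.Perm.decomposeFin.symm), Fintype.sum_prod_type, Fin.sum_univ_succ,
    Fin.sum_univ_succ]
  rw [Finset.sum_congr rfl (fun e _ => h54_L_zero Φ e)]
  have h1 : ∑ e : Equiv.Perm (Fin (n + 1)),
      h54_L Φ (Equiv.Perm.decomposeFin.symm ((0 : Fin (n + 1)).succ, e)) =
      - ∑ e : Equiv.Perm (Fin (n + 1)), h54_L (fun μ => Φ (h54_T μ)) e := by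
    rw [← Finset.sum_neg_distrib]
    refine Finset.sum_congr rfl (fun e _ => ?_)
    rw [Fin.succ_zero_eq_one]
    exact h54_L_one Φ e
  have h2 : ∑ p : Fin n, ∑ e : Equiv.Perm (Fin (n + 1)),
      h54_L Φ (Equiv.Perm.decomposeFin.symm (p.succ.succ, e)) = 0 :=
    Finset.sum_eq_zero (fun p _ => Finset.sum_eq_zero (fun e _ => h54_L_ge Φ p e))
  rw [h1, h2]
  ring

theorem h54_comb_key : ∀ (n : ℕ) (Φ : (Fin n → ℕ) → ℂ),
    ∑ κ : Equiv.Perm (Fin n), h54_L Φ κ = h54_R Φ := by
  intro n
  induction n with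
  | zero =>
    intro Φ
    have hE : endSets 0 = {∅} := by
      ext D
      rw [h54_mem_endSets, Finset.mem_singleton]
      exact ⟨fun _ => Finset.eq_empty_of_isEmpty D, fun _ i => i.elim0⟩
    unfold h54_R
    rw [hE, Finset.sum_singleton, Fintype.sum_unique]
    unfold h54_L
    rw [if_pos (fun i => i.elim0)]
    have hs : Equiv.Perm.sign (default : Equiv.Perm (Fin 0)) = 1 := by
      rw [Subsingleton.elim (default : Equiv.Perm (Fin 0)) 1, Equiv.Perm.sign_one]
    rw [hs]
    have hf : (fun i : Fin 0 => 1 + i.val - ((default : Equiv.Perm (Fin 0)) i).val) =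
        compOf (∅ : Finset (Fin 0)) := by
      funext i
      exact i.elim0
    rw [hf]
    simp
  | succ n ih =>
    intro Φ
    cases n with
    | zero =>
      have hE : endSets (0 + 1) = {h54_A (∅ : Finset (Fin 0))} := by
        ext D
        rw [h54_mem_endSets, Finset.mem_singleton]
        constructor
        · intro h
          ext j
          refine Fin.cases ?_ (fun i => i.elim0) j
          exact ⟨fun _ => h54_zero_mem_A _, fun _ => h 0 rfl⟩
        · rintro rfl j
          refine Fin.cases ?_ (fun i => i.elim0) j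
          intro _
          exact h54_zero_mem_A _
      have hsub : Subsingleton (Fin (0 + 1)) := inferInstanceAs (Subsingleton (Fin 1))
      have hU : (Finset.univ : Finset (Equiv.Perm (Fin (0 + 1)))) = {1} := by
        ext κ
        simp only [Finset.mem_univ, Finset.mem_singleton, true_iff]
        exact Subsingleton.elim _ _
      unfold h54_R
      rw [hE, Finset.sum_singleton, hU, Finset.sum_singleton, h54_card_A, h54_compOf_A]
      unfold h54_L
      rw [if_pos (fun i => by simp), Equiv.Perm.sign_one]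
      have hf : (fun i : Fin (0 + 1) => 1 + i.val - ((1 : Equiv.Perm (Fin (0 + 1))) i).val) =
          h54_S (compOf (∅ : Finset (Fin 0))) := by
        funext i
        refine Fin.cases ?_ (fun i => i.elim0) i
        simp [h54_S]
      rw [hf]
      simp
    | succ m =>
      rw [h54_L_rec, h54_R_rec, ih, ih]

/-- COMB (L), racer copy. -/
theorem h54_comb_perm {n : ℕ} (Φ : (Fin n → ℕ) → ℂ) :
    (∑ κ : Equiv.Perm (Fin n), if ∀ i : Fin n, (κ i).val ≤ 1 + i.val then
        ((Equiv.Perm.sign κ : ℤ) : ℂ) * Φ (fun i => 1 + i.val - (κ i).val) else 0) =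
    ∑ D ∈ endSets n, (-1 : ℂ) ^ (n - D.card) * Φ (compOf D) :=
  h54_comb_key n Φ

end Cfsg.Agent.Lib.helper45.SV
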