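import Mathlib
import Cfsg.Agent.Lib.helper54.SchmidtSL

/-!
# A `p`-group with a minimally acting coprime automorphism is of Schmidt type

`AutMin p q P α`: `P` is a `p`-group, `α` an automorphism with `α ^ q = 1`, `α ≠ 1`, `q ≠ p`
prime, such that `α` fixes every proper `α`-invariant subgroup pointwise.  This is the situation
of the normal Sylow subgroup of a minimal non-nilpotent group.  Main result: `AutMin.sl`.
-/

set_option autoImplicit false
set_option linter.style.haveILetI false

namespace Cfsg.Agent.Lib.helper54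

open scoped commutatorElement

/-- A `p`-group with an automorphism of prime order `q ≠ p` fixing every proper invariant
subgroup pointwise. -/
structure AutMin (p q : ℕ) (P : Type*) [Group P] (α : MulAut P) : Prop where
  hq : q.Prime
  hqp : q ≠ p
  hP : IsPGroup p P
  hαq : α ^ q = 1
  hα1 : α ≠ 1
  hmin : ∀ H : Subgroup P, H ≠ ⊤ → (∀ x ∈ H, α x ∈ H) → ∀ x ∈ H, α x = x

namespace AutMin

variable {P : Type*} [Group P] [Finite P] {p q : ℕ} [hp : Fact p.Prime] {α : MulAut P}

/-- An element of `p`-power order with `n ^ q = 1` is trivial. -/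
theorem eq_one_of_pow (h : AutMin p q P α) {G : Type*} [Group G] (n : G) (k : ℕ)
    (h1 : n ^ p ^ k = 1) (h2 : n ^ q = 1) : n = 1 := by
  have hd1 := orderOf_dvd_of_pow_eq_one h1
  have hd2 := orderOf_dvd_of_pow_eq_one h2
  have hcop : (p ^ k).Coprime q :=
    Nat.Coprime.pow_left k ((Nat.coprime_primes hp.out h.hq).mpr (Ne.symm h.hqp))
  exact orderOf_eq_one_iff.mp (Nat.eq_one_of_dvd_coprimes hcop hd1 hd2)

/-- If `x⁻¹ α(x)` is fixed by `α` then `x` is fixed. -/
theorem fix_of_fix (h : AutMin p q P α) (x : P) (hx : α (x⁻¹ * α x) = x⁻¹ * α x) : α x = x := by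
  obtain ⟨n, hn⟩ : ∃ n : P, n = x⁻¹ * α x := ⟨_, rfl⟩
  rw [← hn] at hx
  have hαx : α x = x * n := by rw [hn, mul_inv_cancel_left]
  have hpow : ∀ k : ℕ, (α ^ k) x = x * n ^ k := by
    intro k
    induction k with
    | zero => simp
    | succ k ih =>
      rw [pow_succ', MulAut.mul_apply, ih, map_mul, map_pow, hx, hαx, pow_succ', mul_assoc]
  have h1 := hpow q
  rw [h.hαq, MulAut.one_apply] at h1
  have h2 : n ^ q = 1 := by
    have : x * 1 = x * n ^ q := by rw [mul_one]; exact h1
    exact (mul_left_cancel this).symm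
  obtain ⟨k, hk⟩ := h.hP n
  have h3 := h.eq_one_of_pow n k hk h2
  rw [hαx, h3, mul_one]

/-- `P = [P, α]`. -/
theorem closure_eq_top (h : AutMin p q P α) :
    Subgroup.closure (Set.range (fun x : P => x⁻¹ * α x)) = ⊤ := by
  by_contra hne
  have hinv : ∀ x ∈ Subgroup.closure (Set.range (fun x : P => x⁻¹ * α x)),
      α x ∈ Subgroup.closure (Set.range (fun x : P => x⁻¹ * α x)) := by
    intro x hx
    induction hx using Subgroup.closure_induction with
    | mem y hy =>
      obtain ⟨u, rfl⟩ := hy
      apply Subgroup.subset_closure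
      exact ⟨α u, by simp⟩
    | one => rw [map_one]; exact Subgroup.one_mem _
    | mul a b _ _ iha ihb => rw [map_mul]; exact Subgroup.mul_mem _ iha ihb
    | inv a _ iha => rw [map_inv]; exact Subgroup.inv_mem _ iha
  have hfix := h.hmin _ hne hinv
  apply h.hα1
  ext x
  rw [MulAut.one_apply]
  exact h.fix_of_fix x (hfix _ (Subgroup.subset_closure ⟨x, rfl⟩))

theorem nontrivial (h : AutMin p q P α) : Nontrivial P := by
  by_contra hnt
  rw [not_nontrivial_iff_subsingleton] at hnt
  apply h.hα1
  ext x
  exact Subsingleton.elim _ _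

/-- `α` fixes the commutator subgroup pointwise. -/
theorem fix_commutator (h : AutMin p q P α) (x : P) (hx : x ∈ commutator P) : α x = x := by
  haveI := h.nontrivial
  haveI : Group.IsNilpotent P := h.hP.isNilpotent
  have hlt : commutator P < ⊤ := Group.IsSolvable.commutator_lt_top_of_nontrivial P
  have hchar : (commutator P).Characteristic := by
    rw [commutator_def]
    infer_instance
  exact h.hmin _ hlt.ne (fun y hy => (Subgroup.characteristic_iff_le_comap.mp hchar α) hy) x hx

theorem fix_commutatorElement (h : AutMin p q P α) (a b : P) : α ⁅a, b⁆ = ⁅a, b⁆ :=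
  h.fix_commutator _ (by
    rw [commutator_def]
    exact Subgroup.commutator_mem_commutator (Subgroup.mem_top a) (Subgroup.mem_top b))

/-- Fixed points of `α` are central. -/
theorem central_of_fix (h : AutMin p q P α) (c : P) (hc : α c = c) (a : P) : c * a = a * c := by
  have hmem : a ∈ Subgroup.closure (Set.range (fun x : P => x⁻¹ * α x)) := by
    rw [h.closure_eq_top]; exact Subgroup.mem_top a
  have key : Commute c a := by
    induction hmem using Subgroup.closure_induction with
    | mem y hy =>
      obtain ⟨x, rfl⟩ := hy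
      have h1 := h.fix_commutatorElement c x
      rw [map_commutatorElement, hc] at h1
      simp only [commutatorElement_def] at h1
      have h2 : α x * c⁻¹ * (α x)⁻¹ = x * c⁻¹ * x⁻¹ := by
        have h3 : c * (α x * c⁻¹ * (α x)⁻¹) = c * (x * c⁻¹ * x⁻¹) := by
          simpa [mul_assoc] using h1
        exact mul_left_cancel h3
      have h4 : c⁻¹ * (x⁻¹ * α x) = (x⁻¹ * α x) * c⁻¹ := by
        calc c⁻¹ * (x⁻¹ * α x) = x⁻¹ * (x * c⁻¹ * x⁻¹) * α x := by group
          _ = x⁻¹ * (α x * c⁻¹ * (α x)⁻¹) * α x := by rw [h2]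
          _ = (x⁻¹ * α x) * c⁻¹ := by group
      have h5 : Commute c⁻¹ (x⁻¹ * α x) := h4
      exact (Commute.inv_left_iff.mp h5)
    | one => exact Commute.one_right c
    | mul a b _ _ iha ihb => exact iha.mul_right ihb
    | inv a _ iha => exact iha.inv_right
  exact key.eq

/-- Class at most two. -/
theorem sl1 (h : AutMin p q P α) (a b c : P) : ⁅a, b⁆ * c = c * ⁅a, b⁆ :=
  h.central_of_fix _ (h.fix_commutatorElement a b) c

/-- The centre is invariant. -/
theorem central_map (z : P) (hz : ∀ c, z * c = c * z) (c : P) : α z * c = c * α z := by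
  have h1 := congrArg α (hz (α.symm c))
  rw [map_mul, map_mul, MulEquiv.apply_symm_apply] at h1
  exact h1

theorem mul_pow_central (h : AutMin p q P α) (a b : P) (n : ℕ) :
    ∃ z : P, (∀ c, z * c = c * z) ∧ (a * b) ^ n = a ^ n * b ^ n * z := by
  induction n with
  | zero => exact ⟨1, by simp, by simp⟩
  | succ n ih =>
    obtain ⟨z, hz, hn⟩ := ih
    have aux : ∀ A B a b z : P,
        A * B * (a * b) * z = A * a * (B * (⁅B⁻¹, a⁻¹⁆ * b)) * z := by
      intros; simp only [commutatorElement_def]; group
    refine ⟨⁅(b ^ n)⁻¹, a⁻¹⁆ * z, ?_, ?_⟩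
    · intro c
      rw [mul_assoc, hz c, ← mul_assoc, h.sl1 _ _ c, mul_assoc]
    · have e1 : z * (a * b) = (a * b) * z := hz _
      have e2 : ⁅(b ^ n)⁻¹, a⁻¹⁆ * b = b * ⁅(b ^ n)⁻¹, a⁻¹⁆ := h.sl1 _ _ b
      rw [pow_succ, hn, pow_succ, pow_succ]
      calc a ^ n * b ^ n * z * (a * b) = a ^ n * b ^ n * (a * b) * z := by
            rw [mul_assoc (a ^ n * b ^ n), e1, ← mul_assoc]
        _ = a ^ n * a * (b ^ n * (⁅(b ^ n)⁻¹, a⁻¹⁆ * b)) * z := aux _ _ _ _ _
        _ = a ^ n * a * (b ^ n * (b * ⁅(b ^ n)⁻¹, a⁻¹⁆)) * z := by rw [e2]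
        _ = a ^ n * a * (b ^ n * b) * (⁅(b ^ n)⁻¹, a⁻¹⁆ * z) := by simp only [mul_assoc]

/-- `P / Z(P)` has exponent `p`. -/
theorem sl2 (h : AutMin p q P α) (a c : P) : a ^ p * c = c * a ^ p := by
  let T : Subgroup P :=
    { carrier := {a | ∀ c, a ^ p * c = c * a ^ p}
      mul_mem' := by
        intro a b ha hb c
        obtain ⟨z, hz, hab⟩ := h.mul_pow_central a b p
        rw [hab]
        have h1 : Commute (a ^ p * b ^ p * z) c :=
          ((show Commute (a ^ p) c from ha c).mul_left (hb c)).mul_left (hz c)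
        exact h1.eq
      one_mem' := by intro c; simp
      inv_mem' := by
        intro a ha c
        rw [inv_pow]
        exact ((show Commute (a ^ p) c from ha c).inv_left).eq }
  have hTmem : ∀ a : P, a ∈ T ↔ ∀ c, a ^ p * c = c * a ^ p := fun a => Iff.rfl
  have hTinv : ∀ x ∈ T, α x ∈ T := by
    intro x hx
    rw [hTmem] at hx ⊢
    intro c
    rw [← map_pow]
    exact central_map _ hx c
  by_cases hT : T = ⊤
  · have : a ∈ T := by rw [hT]; exact Subgroup.mem_top a
    exact this c
  · exfalso
    have hfix := h.hmin T hT hTinv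
    have hTc : ∀ x ∈ T, ∀ c, x * c = c * x := fun x hx c => h.central_of_fix x (hfix x hx) c
    have hall : ∀ (k : ℕ) (x : P), (∀ c, x ^ p ^ k * c = c * x ^ p ^ k) → ∀ c, x * c = c * x := by
      intro k
      induction k with
      | zero =>
        intro x hx c
        have := hx c
        rwa [pow_zero, pow_one] at this
      | succ k ih =>
        intro x hx
        apply ih
        apply hTc
        rw [hTmem]
        intro c
        rw [← pow_mul, ← pow_succ]
        exact hx c
    have hcen : ∀ x c : P, x * c = c * x := by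
      intro x
      obtain ⟨k, hk⟩ := h.hP x
      apply hall k
      intro c
      rw [hk, one_mul, mul_one]
    apply hT
    rw [eq_top_iff]
    intro x _
    rw [hTmem]
    intro c
    exact hcen _ c

end AutMin

end Cfsg.Agent.Lib.helper54
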