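import Mathlib
import Cfsg.Agent.Lib.helper54.SchmidtSL
import Cfsg.Agent.Lib.helper54.SchmidtAut

/-!
# A `p`-group with a minimally acting coprime automorphism is of Schmidt type, part 2

`AutMin.sl : AutMin p q P α → SL p P`.
-/

set_option autoImplicit false
set_option linter.style.haveILetI false
set_option linter.unusedSectionVars false

namespace Cfsg.Agent.Lib.helper54

open scoped commutatorElement

namespace AutMin

variable {P : Type*} [Group P] [Finite P] {p q : ℕ} [hp : Fact p.Prime] {α : MulAut P}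

/-- In the non-abelian case, `α` fixes the centre pointwise. -/
theorem fix_of_central (h : AutMin p q P α) (hna : ∃ w c : P, w * c ≠ c * w) (z : P)
    (hz : ∀ c, z * c = c * z) : α z = z := by
  have hne : Subgroup.center P ≠ ⊤ := by
    intro htop
    obtain ⟨w, c, hwc⟩ := hna
    have : w ∈ Subgroup.center P := by rw [htop]; exact Subgroup.mem_top w
    rw [Subgroup.mem_center_iff] at this
    exact hwc (this c).symm
  apply h.hmin _ hne
  · intro x hx
    rw [Subgroup.mem_center_iff] at hx ⊢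
    intro g
    exact (central_map x (fun c => (hx c).symm) g).symm
  · rw [Subgroup.mem_center_iff]
    intro g
    exact (hz g).symm

/-- Fixed points of `α` lie in the commutator subgroup. -/
theorem mem_commutator_of_fix (h : AutMin p q P α) (c : P) (hc : α c = c) :
    c ∈ commutator P := by
  classical
  let φ : P →* Abelianization P := Abelianization.of
  let ν : P →* Abelianization P :=
    ∏ i ∈ Finset.range q, φ.comp ((α ^ i : MulAut P) : P ≃* P).toMonoidHom
  have hν : ∀ x : P, ν x = ∏ i ∈ Finset.range q, φ ((α ^ i) x) := by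
    intro x
    show (∏ i ∈ Finset.range q, φ.comp ((α ^ i : MulAut P) : P ≃* P).toMonoidHom) x = _
    rw [MonoidHom.finsetProd_apply]
    rfl
  have hinv : ∀ x : P, ν (α x) = ν x := by
    intro x
    rw [hν, hν]
    have h1 : ∀ i : ℕ, φ ((α ^ i) (α x)) = φ ((α ^ (i + 1)) x) := by
      intro i
      rw [pow_succ, MulAut.mul_apply]
    rw [Finset.prod_congr rfl (fun i _ => h1 i)]
    have h2 := Finset.prod_range_succ' (fun i => φ ((α ^ i) x)) q
    have h3 := Finset.prod_range_succ (fun i => φ ((α ^ i) x)) q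
    rw [h2] at h3
    simp only [pow_zero, MulAut.one_apply, h.hαq] at h3
    exact mul_right_cancel h3
  have hker : ∀ x : P, ν x = 1 := by
    intro x
    have hmem : x ∈ Subgroup.closure (Set.range (fun x : P => x⁻¹ * α x)) := by
      rw [h.closure_eq_top]; exact Subgroup.mem_top x
    have hle : Subgroup.closure (Set.range (fun x : P => x⁻¹ * α x)) ≤ ν.ker := by
      rw [Subgroup.closure_le]
      rintro _ ⟨u, rfl⟩
      rw [SetLike.mem_coe, MonoidHom.mem_ker, map_mul, map_inv, hinv, inv_mul_cancel]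
    exact MonoidHom.mem_ker.mp (hle hmem)
  have hfix : ∀ i : ℕ, (α ^ i) c = c := by
    intro i
    induction i with
    | zero => simp
    | succ i ih => rw [pow_succ, MulAut.mul_apply, hc, ih]
  have h1 := hker c
  rw [hν, Finset.prod_congr rfl (fun i _ => by rw [hfix i]), Finset.prod_const,
    Finset.card_range] at h1
  obtain ⟨k, hk⟩ := h.hP c
  have h2 : φ c ^ p ^ k = 1 := by rw [← map_pow, hk, map_one]
  have h3 := h.eq_one_of_pow (φ c) k h2 h1
  rw [← Abelianization.ker_of, MonoidHom.mem_ker]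
  exact h3

theorem comm_mul_left (h : AutMin p q P α) (a b c : P) : ⁅a * b, c⁆ = ⁅a, c⁆ * ⁅b, c⁆ := by
  have h1 := h.sl1 b c a
  calc ⁅a * b, c⁆ = a * ⁅b, c⁆ * c * a⁻¹ * c⁻¹ := by
        simp only [commutatorElement_def]; group
    _ = ⁅b, c⁆ * a * c * a⁻¹ * c⁻¹ := by rw [← h1]
    _ = ⁅b, c⁆ * ⁅a, c⁆ := by simp only [commutatorElement_def]; group
    _ = ⁅a, c⁆ * ⁅b, c⁆ := h.sl1 b c _

theorem comm_mul_right (h : AutMin p q P α) (a b c : P) : ⁅a, b * c⁆ = ⁅a, b⁆ * ⁅a, c⁆ := by
  have h1 := h.sl1 a c b⁻¹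
  calc ⁅a, b * c⁆ = a * b * a⁻¹ * (⁅a, c⁆ * b⁻¹) := by
        simp only [commutatorElement_def]; group
    _ = a * b * a⁻¹ * (b⁻¹ * ⁅a, c⁆) := by rw [h1]
    _ = ⁅a, b⁆ * ⁅a, c⁆ := by simp only [commutatorElement_def]; group

theorem comm_inv_left (h : AutMin p q P α) (a c : P) : ⁅a⁻¹, c⁆ = ⁅a, c⁆⁻¹ := by
  have h1 := h.comm_mul_left a⁻¹ a c
  rw [inv_mul_cancel, commutatorElement_one_left] at h1
  exact eq_inv_of_mul_eq_one_left h1.symm

theorem comm_inv_right (h : AutMin p q P α) (a c : P) : ⁅a, c⁻¹⁆ = ⁅a, c⁆⁻¹ := by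
  have h1 := h.comm_mul_right a c⁻¹ c
  rw [inv_mul_cancel, commutatorElement_one_right] at h1
  exact eq_inv_of_mul_eq_one_left h1.symm

/-- Every central element is a commutator with a given non-central element. -/
theorem sl3 (h : AutMin p q P α) (w z : P) (hw : ∃ c, w * c ≠ c * w)
    (hz : ∀ c, z * c = c * z) : ∃ x, ⁅w, x⁆ = z := by
  let R : Subgroup P :=
    { carrier := {z | ∃ x, ⁅w, x⁆ = z}
      mul_mem' := by
        rintro _ _ ⟨x, rfl⟩ ⟨x', rfl⟩
        exact ⟨x * x', h.comm_mul_right w x x'⟩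
      one_mem' := ⟨1, commutatorElement_one_right w⟩
      inv_mem' := by
        rintro _ ⟨x, rfl⟩
        exact ⟨x⁻¹, h.comm_inv_right w x⟩ }
  have hRmem : ∀ z : P, z ∈ R ↔ ∃ x, ⁅w, x⁆ = z := fun _ => Iff.rfl
  let M : Subgroup P :=
    { carrier := {x | ∀ y, ⁅x, y⁆ ∈ R}
      mul_mem' := by
        intro a b ha hb y
        rw [h.comm_mul_left]
        exact R.mul_mem (ha y) (hb y)
      one_mem' := by
        intro y
        rw [commutatorElement_one_left]
        exact R.one_mem
      inv_mem' := by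
        intro a ha y
        rw [h.comm_inv_left]
        exact R.inv_mem (ha y) }
  have hMmem : ∀ x : P, x ∈ M ↔ ∀ y, ⁅x, y⁆ ∈ R := fun _ => Iff.rfl
  have hwM : w ∈ M := by
    rw [hMmem]
    intro y
    exact ⟨y, rfl⟩
  have hMinv : ∀ x ∈ M, α x ∈ M := by
    intro x hx
    rw [hMmem] at hx ⊢
    intro y
    have h1 := h.fix_commutatorElement x (α.symm y)
    rw [map_commutatorElement, MulEquiv.apply_symm_apply] at h1
    rw [h1]
    exact hx _
  have hMtop : M = ⊤ := by
    by_contra hne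
    have h1 := h.hmin M hne hMinv w hwM
    obtain ⟨c, hc⟩ := hw
    exact hc (h.central_of_fix w h1 c)
  have hcomm : commutator P ≤ R := by
    rw [commutator_eq_closure, Subgroup.closure_le]
    rintro _ ⟨a, b, rfl⟩
    have : a ∈ M := by rw [hMtop]; exact Subgroup.mem_top a
    exact this b
  have hzfix : α z = z :=
    h.fix_of_central (by obtain ⟨c, hc⟩ := hw; exact ⟨w, c, hc⟩) z hz
  exact hcomm (h.mem_commutator_of_fix z hzfix)

/-- In the non-abelian case the index of the centre is `≡ 1` modulo `q`. -/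
theorem index_center (h : AutMin p q P α) (hna : ∃ w c : P, w * c ≠ c * w) :
    q ∣ (Subgroup.center P).index - 1 := by
  classical
  haveI : Fact q.Prime := ⟨h.hq⟩
  have hord : orderOf α = q := orderOf_eq_prime h.hαq h.hα1
  have hGp : IsPGroup q ↥(Subgroup.zpowers α) := by
    apply IsPGroup.of_card (n := 1)
    rw [Nat.card_zpowers, hord, pow_one]
  have hmod := hGp.card_modEq_card_fixedPoints P
  have hset : MulAction.fixedPoints ↥(Subgroup.zpowers α) P = (Subgroup.center P : Set P) := by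
    ext x
    rw [MulAction.mem_fixedPoints, SetLike.mem_coe, Subgroup.mem_center_iff]
    constructor
    · intro hx g
      have h1 : α x = x := hx ⟨α, Subgroup.mem_zpowers α⟩
      exact (h.central_of_fix x h1 g).symm
    · rintro hx ⟨β, hβ⟩
      have h1 : α x = x := h.fix_of_central hna x (fun c => (hx c).symm)
      have h2 : α ∈ MulAction.stabilizer (MulAut P) x := by
        rw [MulAction.mem_stabilizer_iff]
        exact h1
      have h3 := (Subgroup.zpowers_le.mpr h2) hβ
      exact MulAction.mem_stabilizer_iff.mp h3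
  rw [hset] at hmod
  have hmod' : Nat.card P ≡ Nat.card (Subgroup.center P) [MOD q] := hmod
  have hmul := Subgroup.card_mul_index (Subgroup.center P)
  rw [← hmul] at hmod'
  have hpos : 1 ≤ (Subgroup.center P).index :=
    Nat.one_le_iff_ne_zero.mpr Subgroup.index_ne_zero_of_finite
  have hdvd : q ∣ Nat.card (Subgroup.center P) * (Subgroup.center P).index -
      Nat.card (Subgroup.center P) :=
    (Nat.modEq_iff_dvd' (Nat.le_mul_of_pos_right _ hpos)).mp hmod'.symm
  rw [← Nat.mul_sub_one] at hdvd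
  obtain ⟨k, hk⟩ := IsPGroup.iff_card.mp (h.hP.to_subgroup (Subgroup.center P))
  have hcop : q.Coprime (Nat.card (Subgroup.center P)) := by
    rw [hk]
    exact Nat.Coprime.pow_right k ((Nat.coprime_primes h.hq hp.out).mpr h.hqp)
  exact hcop.dvd_of_dvd_mul_left hdvd

/-- If `P = Z(P)⟨w, y⟩` then `|P : Z(P)| ≤ p²`. -/
theorem index_le (h : AutMin p q P α) (w y : P)
    (hgen : ∀ x : P, ∃ z : P, (∀ c, z * c = c * z) ∧ ∃ i j : ℕ, x = z * w ^ i * y ^ j) :
    (Subgroup.center P).index ≤ p * p := by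
  classical
  let π := QuotientGroup.mk' (Subgroup.center P)
  have hπ1 : ∀ z : P, (∀ c, z * c = c * z) → π z = 1 := fun z hz => by
    rw [QuotientGroup.mk'_apply, QuotientGroup.eq_one_iff, Subgroup.mem_center_iff]
    exact fun g => (hz g).symm
  have hwp : π w ^ p = 1 := by rw [← map_pow]; exact hπ1 _ (h.sl2 w)
  have hyp : π y ^ p = 1 := by rw [← map_pow]; exact hπ1 _ (h.sl2 y)
  let f : Fin p × Fin p → P ⧸ Subgroup.center P :=
    fun ij => π w ^ (ij.1 : ℕ) * π y ^ (ij.2 : ℕ)
  have hsurj : Function.Surjective f := by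
    intro xb
    obtain ⟨x, rfl⟩ := QuotientGroup.mk'_surjective (Subgroup.center P) xb
    obtain ⟨z, hz, i, j, rfl⟩ := hgen x
    have hp0 : 0 < p := hp.out.pos
    refine ⟨(⟨i % p, Nat.mod_lt i hp0⟩, ⟨j % p, Nat.mod_lt j hp0⟩), ?_⟩
    show π w ^ (i % p) * π y ^ (j % p) = π (z * w ^ i * y ^ j)
    rw [map_mul, map_mul, map_pow, map_pow, hπ1 z hz, one_mul]
    congr 1
    · conv_rhs => rw [← Nat.mod_add_div i p, pow_add, pow_mul, hwp, one_pow, mul_one]
    · conv_rhs => rw [← Nat.mod_add_div j p, pow_add, pow_mul, hyp, one_pow, mul_one]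
  have hcard := Nat.card_le_card_of_surjective f hsurj
  rw [Nat.card_prod, Nat.card_fin] at hcard
  rw [Subgroup.index_eq_card]
  exact hcard

theorem index_eq (h : AutMin p q P α) (w y : P) (hw : ∃ c, w * c ≠ c * w)
    (hgen : ∀ x : P, ∃ z : P, (∀ c, z * c = c * z) ∧ ∃ i j : ℕ, x = z * w ^ i * y ^ j) :
    (Subgroup.center P).index = p ∨ (Subgroup.center P).index = p ^ 2 := by
  obtain ⟨m, hm⟩ := IsPGroup.iff_card.mp h.hP
  have hdvd : (Subgroup.center P).index ∣ p ^ m := hm ▸ Subgroup.index_dvd_card _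
  obtain ⟨k, hkm, hk⟩ := (Nat.dvd_prime_pow hp.out).mp hdvd
  have hle := h.index_le w y hgen
  have hne1 : (Subgroup.center P).index ≠ 1 := by
    intro h1
    rw [Subgroup.index_eq_one] at h1
    obtain ⟨c, hc⟩ := hw
    have : w ∈ Subgroup.center P := by rw [h1]; exact Subgroup.mem_top w
    rw [Subgroup.mem_center_iff] at this
    exact hc (this c).symm
  rw [hk] at hle hne1 ⊢
  have hk0 : k ≠ 0 := by
    rintro rfl
    exact hne1 (pow_zero p)
  have hk2 : k ≤ 2 := by
    have : p ^ k ≤ p ^ 2 := by rw [sq]; exact hle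
    exact (Nat.pow_le_pow_iff_right hp.out.one_lt).mp this
  interval_cases k
  · exact absurd rfl hk0
  · left; exact pow_one p
  · right; rfl

end AutMin

end Cfsg.Agent.Lib.helper54
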