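import Mathlib
import Cfsg.Agent.Lib.helper54.SchmidtSL
import Cfsg.Agent.Lib.helper54.SchmidtAut
import Cfsg.Agent.Lib.helper54.SchmidtAut2

/-!
# A `p`-group with a minimally acting coprime automorphism is of Schmidt type, part 3

The two-generator cases `p = 3` and `p = 2`, and `AutMin.sl : AutMin p q P α → SL p P`.
-/

set_option autoImplicit false
set_option linter.style.haveILetI false
set_option linter.unusedSectionVars false

namespace Cfsg.Agent.Lib.helper54

open scoped commutatorElement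

namespace AutMin

variable {P : Type*} [Group P] [Finite P] {p q : ℕ} [hp : Fact p.Prime] {α : MulAut P}

/-- For `p = 3` the group is not of the form `Z(P)⟨w, y⟩` with `w` non-central. -/
theorem sl4_three (h : AutMin p q P α) (hp3 : p = 3) (w y : P) (hw : ∃ c, w * c ≠ c * w)
    (hgen : ∀ x : P, ∃ z : P, (∀ c, z * c = c * z) ∧ ∃ i j : ℕ, x = z * w ^ i * y ^ j) :
    False := by
  have hna : ∃ w c : P, w * c ≠ c * w := by
    obtain ⟨c, hc⟩ := hw
    exact ⟨w, c, hc⟩
  have hdvd := h.index_center hna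
  have hq2 : q = 2 := by
    rcases h.index_eq w y hw hgen with h1 | h1
    · rw [h1, hp3] at hdvd
      exact (Nat.prime_dvd_prime_iff_eq h.hq Nat.prime_two).mp hdvd
    · rw [h1, hp3] at hdvd
      have h8 : q ∣ 2 ^ 3 := hdvd
      exact (Nat.prime_dvd_prime_iff_eq h.hq Nat.prime_two).mp (h.hq.dvd_of_dvd_pow h8)
  have hα2 : ∀ x : P, α (α x) = x := by
    intro x
    have h0 := h.hαq
    rw [hq2] at h0
    have h1 : (α ^ 2) x = x := by rw [h0, MulAut.one_apply]
    rwa [sq, MulAut.mul_apply] at h1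
  have ht : α (w * α w) = w * α w := by
    apply h.fix_of_fix
    have e : (w * α w)⁻¹ * α (w * α w) = ⁅(α w)⁻¹, w⁻¹⁆ := by
      rw [map_mul, hα2, commutatorElement_def]
      group
    rw [e]
    exact h.fix_commutatorElement _ _
  have htc : ∀ c, (w * α w) * c = c * (w * α w) := h.central_of_fix _ ht
  obtain ⟨t, htdef⟩ : ∃ t, t = w * α w := ⟨_, rfl⟩
  rw [← htdef] at htc
  have hαw : α w = w⁻¹ * t := by rw [htdef, inv_mul_cancel_left]
  let H : Subgroup P :=
    { carrier := {x | ∃ z : P, (∀ c, z * c = c * z) ∧ ∃ i : ℤ, x = z * w ^ i}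
      mul_mem' := by
        rintro _ _ ⟨z, hz, i, rfl⟩ ⟨z', hz', j, rfl⟩
        refine ⟨z * z', ?_, i + j, ?_⟩
        · intro c
          rw [mul_assoc, hz' c, ← mul_assoc, hz c, mul_assoc]
        · rw [zpow_add]
          calc z * w ^ i * (z' * w ^ j) = z * (w ^ i * z') * w ^ j := by simp only [mul_assoc]
            _ = z * (z' * w ^ i) * w ^ j := by rw [hz' (w ^ i)]
            _ = z * z' * (w ^ i * w ^ j) := by simp only [mul_assoc]
      one_mem' := ⟨1, by simp, 0, by simp⟩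
      inv_mem' := by
        rintro _ ⟨z, hz, i, rfl⟩
        refine ⟨z⁻¹, ?_, -i, ?_⟩
        · intro c
          exact ((show Commute z c from hz c).inv_left).eq
        · rw [mul_inv_rev, zpow_neg]
          exact ((show Commute z (w ^ i) from hz _).inv_inv).eq.symm }
  have hHmem : ∀ x : P, x ∈ H ↔ ∃ z : P, (∀ c, z * c = c * z) ∧ ∃ i : ℤ, x = z * w ^ i :=
    fun _ => Iff.rfl
  have hHinv : ∀ x ∈ H, α x ∈ H := by
    intro x hx
    rw [hHmem] at hx ⊢
    obtain ⟨z, hz, i, rfl⟩ := hx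
    have hzfix : α z = z := h.fix_of_central hna z hz
    have htic : ∀ c, t ^ i * c = c * t ^ i := fun c =>
      ((show Commute t c from htc c).zpow_left i).eq
    refine ⟨z * t ^ i, ?_, -i, ?_⟩
    · intro c
      exact ((show Commute z c from hz c).mul_left (htic c)).eq
    · have hcm : Commute w⁻¹ t := (show Commute t w from htc w).symm.inv_left
      rw [map_mul, map_zpow, hzfix, hαw, hcm.mul_zpow, inv_zpow, zpow_neg, mul_assoc z]
      congr 1
      exact (htic _).symm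
  have hHne : H ≠ ⊤ := by
    intro htop
    obtain ⟨c, hc⟩ := hw
    have hcH : c ∈ H := by rw [htop]; exact Subgroup.mem_top c
    obtain ⟨z, hz, i, rfl⟩ := (hHmem c).mp hcH
    apply hc
    rw [← mul_assoc, ← hz w, mul_assoc, mul_assoc]
    congr 1
    exact (Commute.self_zpow w i).eq
  have hwH : w ∈ H := (hHmem w).mpr ⟨1, by simp, 1, by simp⟩
  have hwfix := h.hmin H hHne hHinv w hwH
  obtain ⟨c, hc⟩ := hw
  exact hc (h.central_of_fix w hwfix c)

/-- For `p = 2` and `P = Z(P)⟨w, y⟩` with `w` non-central, all involutions are central. -/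
theorem sl4_two (h : AutMin p q P α) (hp2 : p = 2) (w y : P) (hw : ∃ c, w * c ≠ c * w)
    (hgen : ∀ x : P, ∃ z : P, (∀ c, z * c = c * z) ∧ ∃ i j : ℕ, x = z * w ^ i * y ^ j)
    (v : P) (hv : v ^ 2 = 1) (c : P) : v * c = c * v := by
  classical
  by_contra hvc'
  have hvnc : ¬ ∀ c, v * c = c * v := fun hall => hvc' (hall c)
  have hna : ∃ w c : P, w * c ≠ c * w := by
    obtain ⟨c, hc⟩ := hw
    exact ⟨w, c, hc⟩
  have hdvd := h.index_center hna
  have hidx : (Subgroup.center P).index = 4 ∧ q = 3 := by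
    rcases h.index_eq w y hw hgen with h1 | h1
    · rw [h1, hp2] at hdvd
      exact absurd (Nat.dvd_one.mp hdvd) h.hq.ne_one
    · rw [h1, hp2] at hdvd
      rw [h1, hp2]
      exact ⟨by norm_num, (Nat.prime_dvd_prime_iff_eq h.hq Nat.prime_three).mp hdvd⟩
  obtain ⟨hidx4, hq3⟩ := hidx
  have hα3 : ∀ x : P, α (α (α x)) = x := by
    intro x
    have h0 := h.hαq
    rw [hq3] at h0
    have h1 : (α ^ 3) x = x := by rw [h0, MulAut.one_apply]
    rwa [pow_succ, pow_succ, pow_one, MulAut.mul_apply, MulAut.mul_apply] at h1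
  have G1 : ∀ x : P, (∀ c, (x⁻¹ * α x) * c = c * (x⁻¹ * α x)) → ∀ c, x * c = c * x := by
    intro x hx
    exact h.central_of_fix x (h.fix_of_fix x (h.fix_of_central hna _ hx))
  have G2 : ∀ x : P, (∀ c, α x * c = c * α x) → ∀ c, x * c = c * x := by
    intro x hx
    have h1 := h.fix_of_central hna _ hx
    exact h.central_of_fix x (α.injective h1)
  obtain ⟨v₁, hv₁⟩ : ∃ v₁, v₁ = α v := ⟨_, rfl⟩
  obtain ⟨v₂, hv₂⟩ : ∃ v₂, v₂ = α v₁ := ⟨_, rfl⟩
  have hv₂v : α v₂ = v := by rw [hv₂, hv₁]; exact hα3 v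
  have hv₁nc : ¬ ∀ c, v₁ * c = c * v₁ := by
    intro hall
    rw [hv₁] at hall
    exact hvnc (G2 v hall)
  have hv₂nc : ¬ ∀ c, v₂ * c = c * v₂ := by
    intro hall
    rw [hv₂] at hall
    exact hv₁nc (G2 v₁ hall)
  have hv₁sq : v₁ ^ 2 = 1 := by rw [hv₁, ← map_pow, hv, map_one]
  have hv₂sq : v₂ ^ 2 = 1 := by rw [hv₂, ← map_pow, hv₁sq, map_one]
  let π := QuotientGroup.mk' (Subgroup.center P)
  have hπ1 : ∀ z : P, π z = 1 ↔ ∀ c, z * c = c * z := by
    intro z
    rw [QuotientGroup.mk'_apply, QuotientGroup.eq_one_iff, Subgroup.mem_center_iff]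
    exact ⟨fun hz c => (hz c).symm, fun hz c => (hz c).symm⟩
  have hπeq : ∀ a b : P, π a = π b ↔ ∀ c, (a⁻¹ * b) * c = c * (a⁻¹ * b) := by
    intro a b
    rw [← hπ1, map_mul, map_inv, inv_mul_eq_one]
  have d1 : π v ≠ 1 := fun hh => hvnc ((hπ1 v).mp hh)
  have d2 : π v₁ ≠ 1 := fun hh => hv₁nc ((hπ1 v₁).mp hh)
  have d3 : π v₂ ≠ 1 := fun hh => hv₂nc ((hπ1 v₂).mp hh)
  have d4 : π v ≠ π v₁ := by
    intro hh
    have h1 := (hπeq v v₁).mp hh
    rw [hv₁] at h1
    exact hvnc (G1 v h1)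
  have d5 : π v₁ ≠ π v₂ := by
    intro hh
    have h1 := (hπeq v₁ v₂).mp hh
    rw [hv₂] at h1
    exact hv₁nc (G1 v₁ h1)
  have d6 : π v₂ ≠ π v := by
    intro hh
    have h1 := (hπeq v₂ v).mp hh
    rw [← hv₂v] at h1
    have h2 : ∀ c, (v₂⁻¹ * α v₂) * c = c * (v₂⁻¹ * α v₂) := by
      rw [hv₂v]
      rw [hv₂v] at h1
      exact h1
    exact hv₂nc (G1 v₂ h2)
  haveI : Fintype (P ⧸ Subgroup.center P) := Fintype.ofFinite _
  have hcard4 : Fintype.card (P ⧸ Subgroup.center P) = 4 := by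
    rw [← Nat.card_eq_fintype_card, ← Subgroup.index_eq_card]
    exact hidx4
  have hS : ({1, π v, π v₁, π v₂} : Finset (P ⧸ Subgroup.center P)) = Finset.univ := by
    apply Finset.eq_univ_of_card
    rw [hcard4]
    rw [Finset.card_insert_of_notMem, Finset.card_insert_of_notMem,
      Finset.card_insert_of_notMem, Finset.card_singleton]
    · simp only [Finset.mem_singleton]
      exact d5
    · simp only [Finset.mem_insert, Finset.mem_singleton, not_or]
      exact ⟨d4, d6.symm⟩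
    · simp only [Finset.mem_insert, Finset.mem_singleton, not_or]
      exact ⟨d1.symm, d2.symm, d3.symm⟩
  have hsq : ∀ x : P, ∃ z : P, (∀ c, z * c = c * z) ∧ x ^ 2 = z ^ 2 := by
    intro x
    have hx : π x ∈ ({1, π v, π v₁, π v₂} : Finset (P ⧸ Subgroup.center P)) := by
      rw [hS]
      exact Finset.mem_univ _
    simp only [Finset.mem_insert, Finset.mem_singleton] at hx
    have key : ∀ u : P, u ^ 2 = 1 → π x = π u →
        ∃ z : P, (∀ c, z * c = c * z) ∧ x ^ 2 = z ^ 2 := by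
      intro u hu hxu
      have hz := (hπeq u x).mp hxu.symm
      refine ⟨u⁻¹ * x, hz, ?_⟩
      have hx' : x = u * (u⁻¹ * x) := by rw [mul_inv_cancel_left]
      conv_lhs => rw [hx']
      rw [(show Commute u (u⁻¹ * x) from (hz u).symm).mul_pow, hu, one_mul]
    rcases hx with hx | hx | hx | hx
    · exact ⟨x, (hπ1 x).mp hx, rfl⟩
    · exact key v hv hx
    · exact key v₁ hv₁sq hx
    · exact key v₂ hv₂sq hx
  have hcs : ∀ x ∈ commutator P, ∃ z : P, (∀ c, z * c = c * z) ∧ x = z ^ 2 := by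
    intro x hx
    rw [commutator_eq_closure] at hx
    induction hx using Subgroup.closure_induction with
    | mem g hg =>
      obtain ⟨a, b, rfl⟩ := hg
      obtain ⟨z₁, hz₁, e₁⟩ := hsq a
      obtain ⟨z₂, hz₂, e₂⟩ := hsq (a⁻¹ * b)
      obtain ⟨z₃, hz₃, e₃⟩ := hsq b
      have e : ⁅a, b⁆ = a ^ 2 * (a⁻¹ * b) ^ 2 * (b ^ 2)⁻¹ := by
        rw [commutatorElement_def, pow_two, pow_two, pow_two]
        group
      refine ⟨z₁ * z₂ * z₃⁻¹, ?_, ?_⟩
      · intro c
        exact (((show Commute z₁ c from hz₁ c).mul_left (hz₂ c)).mul_left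
          ((show Commute z₃ c from hz₃ c).inv_left)).eq
      · rw [e, e₁, e₂, e₃]
        have c12 : Commute z₁ z₂ := hz₁ z₂
        have c3 : Commute (z₁ * z₂) z₃⁻¹ := ((show Commute z₃ (z₁ * z₂) from hz₃ _).inv_left).symm
        rw [c3.mul_pow, c12.mul_pow, inv_pow]
    | one => exact ⟨1, by simp, by simp⟩
    | mul a b _ _ iha ihb =>
      obtain ⟨z₁, hz₁, rfl⟩ := iha
      obtain ⟨z₂, hz₂, rfl⟩ := ihb
      refine ⟨z₁ * z₂, fun c => ((show Commute z₁ c from hz₁ c).mul_left (hz₂ c)).eq, ?_⟩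
      rw [(show Commute z₁ z₂ from hz₁ z₂).mul_pow]
    | inv a _ iha =>
      obtain ⟨z₁, hz₁, rfl⟩ := iha
      exact ⟨z₁⁻¹, fun c => ((show Commute z₁ c from hz₁ c).inv_left).eq, by rw [inv_pow]⟩
  have hzs : ∀ z : P, (∀ c, z * c = c * z) → ∃ z' : P, (∀ c, z' * c = c * z') ∧ z = z' ^ 2 := by
    intro z hz
    exact hcs z (h.mem_commutator_of_fix z (h.fix_of_central hna z hz))
  have hzpow : ∀ (m : ℕ) (z : P), (∀ c, z * c = c * z) →
      ∃ t : P, (∀ c, t * c = c * t) ∧ z = t ^ 2 ^ m := by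
    intro m
    induction m with
    | zero =>
      intro z hz
      exact ⟨z, hz, by simp⟩
    | succ m ih =>
      intro z hz
      obtain ⟨z', hz', rfl⟩ := hzs z hz
      obtain ⟨t, ht, rfl⟩ := ih z' hz'
      exact ⟨t, ht, by rw [← pow_mul, ← pow_succ]⟩
  obtain ⟨m, hm⟩ := IsPGroup.iff_card.mp h.hP
  rw [hp2] at hm
  have hz1 : ∀ z : P, (∀ c, z * c = c * z) → z = 1 := by
    intro z hz
    obtain ⟨t, -, rfl⟩ := hzpow m z hz
    rw [← hm]
    exact pow_card_eq_one'
  obtain ⟨c₀, hc₀⟩ := hw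
  apply hc₀
  have h1 := hz1 ⁅w, c₀⁆ (h.sl1 w c₀)
  exact commutatorElement_eq_one_iff_mul_comm.mp h1

/-- A `p`-group with a minimally acting coprime automorphism of prime order is of Schmidt
type. -/
theorem sl (h : AutMin p q P α) : SL p P := by
  refine ⟨h.sl1, h.sl2, fun w z hw hz => h.sl3 w z hw hz, ?_⟩
  rintro ⟨w, y, hw, hgen⟩
  exact ⟨fun hp3 => h.sl4_three hp3 w y hw hgen,
    fun hp2 v hv c => h.sl4_two hp2 w y hw hgen v hv c⟩

end AutMin

end Cfsg.Agent.Lib.helper54
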