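import Mathlib
import Cfsg.Prelude.Def_Local
import Cfsg.Prelude.Def_Solvable
import Cfsg.Agent.Lib.helper3.WrDual
import Cfsg.Agent.Lib.helper3.HHBase
import Cfsg.Agent.Lib.helper3.WrThmB
import Cfsg.Agent.Lib.helper40.HHGL
import Cfsg.Agent.Lib.helper38.HallHigman2

/-!
# Quadratic action and Hall–Higman Theorem B

* `mem_of_comm_mem_commutator`: an element acting trivially on `A / A'` lies in `A = O_p(X)`
  (when `C_X(A) ≤ A`).
* `QuadHyp p`: no element of order `p` acts quadratically (Theorem B for `p ≥ 5`).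
* `quad_contra`: under `QuadHyp p`, no `g ∉ A` with `g ^ p ∈ A` acts quadratically on `A`.
-/

set_option autoImplicit false
set_option linter.style.haveILetI false

namespace Cfsg.Agent.Lib.helper54

open Subgroup Cfsg.Agent.Lib.helper3 Cfsg.Agent.Lib.helper40.HHD
open scoped commutatorElement

universe u

/-- An element acting trivially on `A / A'` lies in `A`, for `A` the largest normal
`p`-subgroup, containing its centralizer. -/
theorem mem_of_comm_mem_commutator {X : Type*} [Group X] [Finite X] {p : ℕ} [hp : Fact p.Prime]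
    (A : Subgroup X) [hA : A.Normal] (hAp : IsPGroup p A)
    (hC : centralizer (A : Set X) ≤ A)
    (hmax : ∀ N : Subgroup X, N.Normal → IsPGroup p N → N ≤ A)
    (g : X) (hg : ∀ r ∈ A, r⁻¹ * g⁻¹ * r * g ∈ ⁅A, A⁆) : g ∈ A := by
  classical
  have hρ1 : ∀ y : X, drep p A y = 1 → y ∈ A := fun y hy =>
    hmax _ (MonoidHom.normal_ker _) (drep_ker_isPGroup p A hAp hC)
      (by rw [MonoidHom.mem_ker]; exact hy)
  apply hρ1
  apply LinearMap.ext
  intro f
  apply AddMonoidHom.ext
  intro a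
  obtain ⟨a, rfl⟩ : ∃ a' : A, Additive.ofMul a' = a := ⟨Additive.toMul a, rfl⟩
  rw [drep_apply]
  -- `f` kills the commutator subgroup
  let S : Subgroup A :=
    { carrier := {c : A | f (Additive.ofMul c) = 0}
      mul_mem' := by
        intro x y hx hy
        show f (Additive.ofMul (x * y)) = 0
        rw [ofMul_mul, map_add, hx, hy, add_zero]
      one_mem' := by
        show f (Additive.ofMul (1 : A)) = 0
        rw [ofMul_one, map_zero]
      inv_mem' := by
        intro x hx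
        show f (Additive.ofMul x⁻¹) = 0
        rw [ofMul_inv, map_neg, hx, neg_zero] }
  have hS : ⁅A, A⁆ ≤ S.map A.subtype := by
    rw [Subgroup.commutator_le]
    intro g₁ hg₁ g₂ hg₂
    refine ⟨⁅(⟨g₁, hg₁⟩ : A), (⟨g₂, hg₂⟩ : A)⁆, ?_, rfl⟩
    show f (Additive.ofMul ⁅(⟨g₁, hg₁⟩ : A), (⟨g₂, hg₂⟩ : A)⁆) = 0
    rw [commutatorElement_def, ofMul_mul, ofMul_mul, ofMul_mul, map_add, map_add, map_add,
      ofMul_inv, ofMul_inv, map_neg, map_neg]
    abel
  have hkey : ∀ c : A, (c : X) ∈ ⁅A, A⁆ → f (Additive.ofMul c) = 0 := by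
    intro c hc
    obtain ⟨c', hc', hcc'⟩ := hS hc
    have : c' = c := Subtype.ext hcc'
    rw [← this]
    exact hc'
  have hmem : (a : X)⁻¹ * g⁻¹ * a * g ∈ A := by
    have h1 : g⁻¹ * (a : X) * g ∈ A := by
      have := hA.conj_mem (a : X) a.2 g⁻¹
      simpa using this
    have := A.mul_mem (A.inv_mem a.2) h1
    simpa [mul_assoc] using this
  have h1 : MulAut.conjNormal g⁻¹ a = a * ⟨(a : X)⁻¹ * g⁻¹ * a * g, hmem⟩ := by
    apply Subtype.ext
    rw [MulAut.conjNormal_apply]
    simp [mul_assoc]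
  rw [h1, ofMul_mul, map_add, hkey ⟨_, hmem⟩ (hg a a.2), add_zero]
  rfl

/-- Quadratic action hypothesis: in a `p`-soluble linear group over `ZMod p` with `O_p = 1`,
no element `x` of order `p` has `(x - 1) ^ 2 = 0`. -/
def QuadHyp (p : ℕ) [Fact p.Prime] : Prop :=
  ∀ (V : Type u) [AddCommGroup V] [Module (ZMod p) V] [FiniteDimensional (ZMod p) V]
    [Nontrivial V] (H : Subgroup (V ≃ₗ[ZMod p] V)) [Finite H],
    Cfsg.IsPSolvable p H → Cfsg.pCore p H = ⊥ →
    ∀ x ∈ H, orderOf x = p → ((x : Module.End (ZMod p) V) - 1) ^ 2 ≠ 0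

theorem quadHyp_of_thmB {p : ℕ} [hp : Fact p.Prime] (hp5 : 5 ≤ p)
    (hB : ∀ {V : Type u} [AddCommGroup V] [Module (ZMod p) V] [FiniteDimensional (ZMod p) V]
      [Nontrivial V] (H : Subgroup (V ≃ₗ[ZMod p] V)) [Finite H] (_ : Cfsg.IsPSolvable p H)
      (_ : Cfsg.pCore p H = ⊥) (x : V ≃ₗ[ZMod p] V) (_ : x ∈ H) (n : ℕ)
      (_ : orderOf x = p ^ n) (r : ℕ)
      (_ : minpoly (ZMod p) (x : Module.End (ZMod p) V) = (Polynomial.X - 1) ^ r),
      r = p ^ n ∨ ∃ n₀ q m : ℕ, 1 ≤ n₀ ∧ n₀ ≤ n ∧ q.Prime ∧ 1 ≤ m ∧ p ^ n₀ - 1 = q ^ m ∧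
        (∀ Q : Sylow q H, ¬ IsMulCommutative Q) ∧ p ^ (n - n₀) * (p ^ n₀ - 1) ≤ r) :
    QuadHyp.{u} p := by
  intro V _ _ _ _ H _ hsol hOp x hx hord
  have hxp : (x : Module.End (ZMod p) V) ^ p = 1 := by
    have h1 : x ^ p = 1 := by
      have := pow_orderOf_eq_one x
      rwa [hord] at this
    have h2 := map_pow (LinearEquiv.automorphismGroup.toLinearMapMonoidHom (R := ZMod p) (M := V)) x p
    rw [h1, map_one] at h2
    exact h2.symm
  obtain ⟨r, hr⟩ := exists_minpoly_eq (x : Module.End (ZMod p) V) hxp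
  have hr4 : 2 < r := by
    rcases hB H hsol hOp x hx 1 (by rw [hord, pow_one]) r hr with h | ⟨n₀, q, m, h1, h2, -, -, -, -, hle⟩
    · rw [h, pow_one]; omega
    · have hn₀ : n₀ = 1 := le_antisymm h2 h1
      subst hn₀
      rw [Nat.sub_self, pow_zero, one_mul, pow_one] at hle
      omega
  exact (nilIndex_of_minpoly (x : Module.End (ZMod p) V) r hr).2 2 hr4

/-- Under `QuadHyp p`, no `g ∉ A` with `g ^ p ∈ A` acts quadratically on `A`. -/
theorem quad_contra {p : ℕ} [hp : Fact p.Prime] (hJ : QuadHyp.{u} p)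
    {X : Type u} [Group X] [Finite X] (hsol : Cfsg.IsPSolvable p X)
    (A : Subgroup X) [hA : A.Normal] (hAp : IsPGroup p A)
    (hC : centralizer (A : Set X) ≤ A)
    (hmax : ∀ N : Subgroup X, N.Normal → IsPGroup p N → N ≤ A)
    (g : X) (hgA : g ∉ A) (hgp : g ^ p ∈ A)
    (hquad : ∀ r : A, dlt A g (dlt A g r) = 1) : False := by
  classical
  have hVfin : Finite (Additive ↥A →+ ZMod p) :=
    Finite.of_injective (fun f : Additive ↥A →+ ZMod p => (f : Additive ↥A → ZMod p))
      DFunLike.coe_injective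
  have : Module.Finite (ZMod p) (Additive ↥A →+ ZMod p) := Module.Finite.of_finite
  have hρ1 : ∀ y : X, drepL p A y = 1 → y ∈ A := fun y hy =>
    hmax _ (MonoidHom.normal_ker _) (drep_ker_isPGroup p A hAp hC)
      (by rw [MonoidHom.mem_ker]; exact (drepL_eq_one_iff p A y).mp hy)
  have hρA : ∀ y ∈ A, drepL p A y = 1 := fun y hy =>
    (drepL_eq_one_iff p A y).mpr (drep_eq_one_of_mem p A hy)
  have hx1 : drepL p A g ≠ 1 := fun h => hgA (hρ1 g h)
  have hxp : (drepL p A g) ^ p = 1 := by rw [← map_pow]; exact hρA _ hgp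
  have hord : orderOf (drepL p A g) = p := orderOf_eq_prime hxp hx1
  have : Nontrivial (Additive ↥A →+ ZMod p) := by
    by_contra hnt
    rw [not_nontrivial_iff_subsingleton] at hnt
    apply hx1
    apply LinearEquiv.ext
    intro v
    exact Subsingleton.elim _ _
  have : Finite ↥(drepL p A).range :=
    Finite.of_surjective _ (drepL p A).rangeRestrict_surjective
  have hsolH : Cfsg.IsPSolvable p ↥(drepL p A).range :=
    Cfsg.Agent.Lib.helper38.isPSolvable_of_surjective (drepL p A).rangeRestrict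
      (drepL p A).rangeRestrict_surjective hsol
  have hcoreH : Cfsg.pCore p ↥(drepL p A).range = ⊥ := by
    rw [eq_bot_iff]
    apply sSup_le
    rintro N ⟨hNn, hNp⟩
    intro n hn
    obtain ⟨y, hy⟩ := (drepL p A).rangeRestrict_surjective n
    have hkerle : (drepL p A).rangeRestrict.ker ≤ A := by
      intro z hz
      apply hρ1
      rw [MonoidHom.mem_ker] at hz
      have := congrArg Subtype.val hz
      exact this
    have h1 : y ∈ A := by
      apply hmax (N.comap (drepL p A).rangeRestrict) (hNn.comap _)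
        (hNp.comap_of_ker_isPGroup _ (hAp.to_le hkerle))
      rw [mem_comap, hy]
      exact hn
    rw [mem_bot, ← hy]
    apply Subtype.ext
    exact hρA y h1
  have hJ' := hJ (Additive ↥A →+ ZMod p) (drepL p A).range hsolH hcoreH (drepL p A g)
    (MonoidHom.mem_range.mpr ⟨g, rfl⟩) hord
  have hJ'' : (drep p A g - 1) ^ 2 ≠ 0 := hJ'
  apply hJ''
  rw [sq]
  exact drep_mul_eq_zero p A g g hquad

end Cfsg.Agent.Lib.helper54
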