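import Mathlib
import Cfsg.Prelude.Def_Local
import Cfsg.Prelude.Def_Solvable
import Cfsg.Agent.Lib.helper54.SchmidtSL
import Cfsg.Agent.Lib.helper54.SchmidtHH
import Cfsg.Agent.Lib.helper1.Coprime

/-!
# The commutator trick for Sylow subgroups of Schmidt type

`QData p Q`: the predicate `SL p ↥Q` unfolded to elements of the ambient group.
`dtrick`: the key contradiction for a non-cyclic `Q / O_p(G)`.
-/

set_option autoImplicit false
set_option linter.style.haveILetI false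

namespace Cfsg.Agent.Lib.helper54

open Subgroup
open scoped commutatorElement

variable {G : Type*} [Group G]

/-- `SL p ↥Q` in terms of elements of the ambient group. -/
structure QData (p : ℕ) (Q : Subgroup G) : Prop where
  b1 : ∀ a ∈ Q, ∀ b ∈ Q, ∀ c ∈ Q, ⁅a, b⁆ * c = c * ⁅a, b⁆
  b2 : ∀ a ∈ Q, ∀ c ∈ Q, a ^ p * c = c * a ^ p
  b3 : ∀ w ∈ Q, ∀ z ∈ Q, (∃ c ∈ Q, w * c ≠ c * w) → (∀ c ∈ Q, z * c = c * z) →
    ∃ x ∈ Q, ⁅w, x⁆ = z
  b4 : (∃ w ∈ Q, ∃ y ∈ Q, (∃ c ∈ Q, w * c ≠ c * w) ∧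
      ∀ x ∈ Q, ∃ z ∈ Q, (∀ c ∈ Q, z * c = c * z) ∧ ∃ i j : ℕ, x = z * w ^ i * y ^ j) →
    p ≠ 3 ∧ (p = 2 → ∀ v ∈ Q, v ^ 2 = 1 → ∀ c ∈ Q, v * c = c * v)

theorem QData.of_SL {p : ℕ} {Q : Subgroup G} (h : SL p ↥Q) : QData p Q := by
  obtain ⟨h1, h2, h3, h4⟩ := h
  refine ⟨?_, ?_, ?_, ?_⟩
  · intro a ha b hb c hc
    exact congrArg Subtype.val (h1 ⟨a, ha⟩ ⟨b, hb⟩ ⟨c, hc⟩)
  · intro a ha c hc
    exact congrArg Subtype.val (h2 ⟨a, ha⟩ ⟨c, hc⟩)
  · intro w hw z hz ⟨c, hc, hne⟩ hzc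
    obtain ⟨x, hx⟩ := h3 ⟨w, hw⟩ ⟨z, hz⟩ ⟨⟨c, hc⟩, fun hcon => hne (congrArg Subtype.val hcon)⟩
      (fun c' => Subtype.ext (hzc c' c'.2))
    exact ⟨x, x.2, congrArg Subtype.val hx⟩
  · rintro ⟨w, hw, y, hy, ⟨c, hc, hne⟩, hgen⟩
    have hex : ∃ w' y' : ↥Q, (∃ c', w' * c' ≠ c' * w') ∧
        ∀ x : ↥Q, ∃ z : ↥Q, (∀ c', z * c' = c' * z) ∧ ∃ i j : ℕ, x = z * w' ^ i * y' ^ j := by
      refine ⟨⟨w, hw⟩, ⟨y, hy⟩, ⟨⟨c, hc⟩, fun hcon => hne (congrArg Subtype.val hcon)⟩, ?_⟩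
      intro x
      obtain ⟨z, hz, hzc, i, j, hx⟩ := hgen x x.2
      exact ⟨⟨z, hz⟩, fun c' => Subtype.ext (hzc c' c'.2), i, j, Subtype.ext hx⟩
    obtain ⟨hp3, hp2⟩ := h4 hex
    refine ⟨hp3, fun hp v hv hv2 c' hc' => ?_⟩
    exact congrArg Subtype.val (hp2 hp ⟨v, hv⟩ (Subtype.ext hv2) ⟨c', hc'⟩)

/-- A subgroup normalizing `H` and `K` normalizes `⁅H, K⁆`. -/
theorem le_normalizer_commutator' {A H K : Subgroup G}
    (hH : A ≤ normalizer (H : Set G)) (hK : A ≤ normalizer (K : Set G)) :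
    A ≤ normalizer ((⁅H, K⁆ : Subgroup G) : Set G) := by
  have key : ∀ a ∈ A, ∀ x ∈ ⁅H, K⁆, a * x * a⁻¹ ∈ ⁅H, K⁆ := by
    intro a ha x hx
    have hle : ⁅H, K⁆ ≤ (⁅H, K⁆).comap (MulAut.conj a).toMonoidHom := by
      rw [Subgroup.commutator_le]
      intro h hh k hk
      rw [Subgroup.mem_comap]
      show a * ⁅h, k⁆ * a⁻¹ ∈ _
      have h1 : a * ⁅h, k⁆ * a⁻¹ = ⁅a * h * a⁻¹, a * k * a⁻¹⁆ := by
        simp only [commutatorElement_def]
        group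
      rw [h1]
      exact Subgroup.commutator_mem_commutator ((mem_normalizer_iff.mp (hH ha) h).mp hh)
        ((mem_normalizer_iff.mp (hK ha) k).mp hk)
    exact hle hx
  intro a ha
  rw [mem_normalizer_iff]
  intro x
  constructor
  · exact key a ha x
  · intro h
    have := key a⁻¹ (A.inv_mem ha) _ h
    simpa [mul_assoc] using this

/-- The normalizer of a subgroup normalizes its centralizer. -/
theorem conj_mem_centralizer_of_mem_normalizer {N : Subgroup G} {d x : G}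
    (hd : d ∈ normalizer (N : Set G)) (hx : x ∈ centralizer (N : Set G)) :
    d * x * d⁻¹ ∈ centralizer (N : Set G) := by
  rw [mem_centralizer_iff] at hx ⊢
  intro w hw
  have hw' : d⁻¹ * w * d ∈ N := by
    have := (mem_normalizer_iff.mp (inv_mem hd) w).mp hw
    simpa using this
  have h1 := hx _ hw'
  calc w * (d * x * d⁻¹) = d * ((d⁻¹ * w * d) * x) * d⁻¹ := by group
    _ = d * (x * (d⁻¹ * w * d)) * d⁻¹ := by rw [h1]
    _ = d * x * d⁻¹ * w := by group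

section

variable [Finite G] {p : ℕ} [hp : Fact p.Prime]

theorem isSolvable_of_isPGroup' (P : Subgroup G) (hP : IsPGroup p P) : Group.IsSolvable P := by
  haveI : Group.IsNilpotent P := hP.isNilpotent
  infer_instance

/-- The key contradiction in the non-cyclic case. -/
theorem dtrick (V Q : Subgroup G) [hVn : V.Normal] (hVp : IsPGroup p V)
    (hC : centralizer (V : Set G) ≤ V)
    (hmax : ∀ N : Subgroup G, N.Normal → IsPGroup p N → N ≤ V)
    (hQp : IsPGroup p Q) (hVQ : V ≤ Q) (hQ : QData p Q)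
    (K₀ : Subgroup G) (hVK : V ⊓ K₀ = ⊥) (hKcop : (Nat.card K₀).Coprime p)
    (hfrat : ∀ t ∈ Q, ∃ n ∈ V, ∃ m ∈ Q ⊓ normalizer (K₀ : Set G), t = n * m)
    (y : G) (hy : y ∈ Q ⊓ normalizer (K₀ : Set G)) (hyV : y ∉ V)
    (k : G) (hk : k ∈ K₀) (hky : k * y = y * k)
    (s : G) (hs : s ∈ Q ⊓ normalizer (K₀ : Set G)) (hks : ⁅k, s⁆ ≠ 1) : False := by
  classical
  obtain ⟨P₁, hP₁⟩ : ∃ P₁ : Subgroup G, P₁ = Q ⊓ normalizer (K₀ : Set G) := ⟨_, rfl⟩
  rw [← hP₁] at hy hs hfrat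
  have hP₁Q : P₁ ≤ Q := hP₁ ▸ inf_le_left
  have hP₁N : P₁ ≤ normalizer (K₀ : Set G) := hP₁ ▸ inf_le_right
  have hyQ : y ∈ Q := hP₁Q hy
  have hVtop : normalizer (V : Set G) = ⊤ := normalizer_eq_top_iff.mpr hVn
  -- central elements of `Q` lie in `V`
  have hZV : ∀ z ∈ Q, (∀ c ∈ Q, z * c = c * z) → z ∈ V := by
    intro z _ hzc
    apply hC
    rw [mem_centralizer_iff]
    intro v hv
    exact (hzc v (hVQ hv)).symm
  have hcommQ : ∀ a ∈ Q, ∀ b ∈ Q, ⁅a, b⁆ ∈ Q := fun a ha b hb =>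
    Q.mul_mem (Q.mul_mem (Q.mul_mem ha hb) (Q.inv_mem ha)) (Q.inv_mem hb)
  -- elements of `V ∩ N(K₀)` centralize `K₀`
  have hVNK : ∀ u ∈ V, u ∈ normalizer (K₀ : Set G) → ∀ x ∈ K₀, u * x = x * u := by
    intro u hu huN x hx
    have h1 : ⁅u, x⁆ ∈ V := by
      have h2 := V.mul_mem hu (hVn.conj_mem u⁻¹ (V.inv_mem hu) x)
      rw [commutatorElement_def]
      simpa [mul_assoc] using h2
    have h3 : ⁅u, x⁆ ∈ K₀ := by
      have h2 := K₀.mul_mem ((mem_normalizer_iff.mp huN x).mp hx) (K₀.inv_mem hx)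
      rw [commutatorElement_def]
      exact h2
    have h4 : ⁅u, x⁆ ∈ V ⊓ K₀ := ⟨h1, h3⟩
    rw [hVK, mem_bot] at h4
    exact commutatorElement_eq_one_iff_mul_comm.mp h4
  -- `E = C_{K₀}(y)`
  obtain ⟨E, hEdef⟩ : ∃ E : Subgroup G, E = K₀ ⊓ centralizer ({y} : Set G) := ⟨_, rfl⟩
  have hEK : E ≤ K₀ := hEdef ▸ inf_le_left
  have hEy : ∀ e ∈ E, y * e = e * y := by
    intro e he
    rw [hEdef] at he
    exact mem_centralizer_iff.mp he.2 y (Set.mem_singleton y)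
  have hkeyE : ∀ t ∈ P₁, ∀ e ∈ E, t * e * t⁻¹ ∈ E := by
    intro t ht e he
    rw [hEdef]
    refine Subgroup.mem_inf.mpr ⟨(mem_normalizer_iff.mp (hP₁N ht) e).mp (hEK he), ?_⟩
    rw [mem_centralizer_iff]
    intro y' hy'
    rw [Set.mem_singleton_iff] at hy'
    subst hy'
    obtain ⟨u, hu⟩ : ∃ u : G, u = y'⁻¹ * t⁻¹ * y' * t := ⟨_, rfl⟩
    have huQ : u ∈ Q := by
      rw [hu]
      exact Q.mul_mem (Q.mul_mem (Q.mul_mem (Q.inv_mem hyQ) (Q.inv_mem (hP₁Q ht))) hyQ) (hP₁Q ht)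
    have hucomm : u = ⁅y'⁻¹, t⁻¹⁆ := by
      rw [hu, commutatorElement_def]
      simp
    have huV : u ∈ V := by
      apply hZV u huQ
      intro c hc
      rw [hucomm]
      exact hQ.b1 _ (Q.inv_mem hyQ) _ (Q.inv_mem (hP₁Q ht)) c hc
    have huN : u ∈ normalizer (K₀ : Set G) := by
      rw [hu]
      exact mul_mem (mul_mem (mul_mem (inv_mem (hP₁N hy)) (inv_mem (hP₁N ht))) (hP₁N hy))
        (hP₁N ht)
    have hue : u * e = e * u := hVNK u huV huN e (hEK he)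
    have hye := hEy e he
    have h2 : y' * t = t * (y' * u) := by rw [hu]; group
    have h3 : y' * u = t⁻¹ * y' * t := by rw [hu]; group
    calc y' * (t * e * t⁻¹) = (y' * t) * e * t⁻¹ := by group
      _ = (t * (y' * u)) * e * t⁻¹ := by rw [h2]
      _ = t * y' * (u * e) * t⁻¹ := by group
      _ = t * y' * (e * u) * t⁻¹ := by rw [hue]
      _ = t * (y' * e) * u * t⁻¹ := by group
      _ = t * (e * y') * u * t⁻¹ := by rw [hye]
      _ = t * e * (y' * u) * t⁻¹ := by group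
      _ = t * e * (t⁻¹ * y' * t) * t⁻¹ := by rw [h3]
      _ = t * e * t⁻¹ * y' := by group
  have hP₁E : P₁ ≤ normalizer (E : Set G) := by
    intro t ht
    rw [mem_normalizer_iff]
    intro e
    constructor
    · exact hkeyE t ht e
    · intro h
      have := hkeyE t⁻¹ (P₁.inv_mem ht) _ h
      simpa [mul_assoc] using this
  -- `D = [E, P₁]`
  obtain ⟨D, hDdef⟩ : ∃ D : Subgroup G, D = ⁅E, P₁⁆ := ⟨_, rfl⟩
  have hDE : D ≤ E := hDdef ▸ Cfsg.Agent.Lib.helper1.commutator_le_of_le_normalizer hP₁E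
  have hDK : D ≤ K₀ := hDE.trans hEK
  have hP₁D : P₁ ≤ normalizer (D : Set G) :=
    hDdef ▸ Cfsg.Agent.Lib.helper1.right_le_normalizer_commutator hP₁E
  have hP₁p : IsPGroup p P₁ := hQp.to_le hP₁Q
  have hcopK : ∀ (A B : Subgroup G), IsPGroup p A → B ≤ K₀ →
      (Nat.card A).Coprime (Nat.card B) := by
    intro A B hA hB
    obtain ⟨n, hn⟩ := IsPGroup.iff_card.mp hA
    rw [hn]
    apply Nat.Coprime.pow_left
    exact (Nat.Coprime.coprime_dvd_left (Subgroup.card_dvd_of_le hB) hKcop).symm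
  have hDD : ⁅D, P₁⁆ = D := by
    rw [hDdef]
    exact Cfsg.Agent.Lib.helper1.commutator_commutator_eq P₁ E hP₁E (hcopK P₁ E hP₁p hEK)
      (Or.inl (isSolvable_of_isPGroup' P₁ hP₁p))
  have hkE : k ∈ E := by
    rw [hEdef]
    refine Subgroup.mem_inf.mpr ⟨hk, ?_⟩
    rw [mem_centralizer_iff]
    intro y' hy'
    rw [Set.mem_singleton_iff] at hy'
    subst hy'
    exact hky.symm
  have hD1 : D ≠ ⊥ := by
    intro h
    apply hks
    have h1 : ⁅k, s⁆ ∈ D := by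
      rw [hDdef]
      exact Subgroup.commutator_mem_commutator hkE hs
    rw [h, mem_bot] at h1
    exact h1
  have hDV : D ≤ normalizer (V : Set G) := by rw [hVtop]; exact le_top
  have hP₁V : P₁ ≤ normalizer (V : Set G) := by rw [hVtop]; exact le_top
  have hcopDV : (Nat.card D).Coprime (Nat.card V) := (hcopK V D hVp hDK).symm
  have hVsol : Group.IsSolvable V := isSolvable_of_isPGroup' V hVp
  obtain ⟨N, hNdef⟩ : ∃ N : Subgroup G, N = ⁅V, D⁆ := ⟨_, rfl⟩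
  have hNV : N ≤ V := hNdef ▸ Cfsg.Agent.Lib.helper1.commutator_le_of_le_normalizer hDV
  have hDN : D ≤ normalizer (N : Set G) :=
    hNdef ▸ Cfsg.Agent.Lib.helper1.right_le_normalizer_commutator hDV
  have hVN : V ≤ normalizer (N : Set G) :=
    hNdef ▸ Cfsg.Agent.Lib.helper1.left_le_normalizer_commutator V D
  have hP₁Nn : P₁ ≤ normalizer (N : Set G) := hNdef ▸ le_normalizer_commutator' hP₁V hP₁D
  have hNN : ⁅N, D⁆ = N := by
    rw [hNdef]
    exact Cfsg.Agent.Lib.helper1.commutator_commutator_eq D V hDV hcopDV (Or.inr hVsol)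
  -- Claim 1: `D` centralizes every `v⁻¹ y⁻¹ v y`
  have hT : ∀ v ∈ V, ∀ c ∈ Q, (v⁻¹ * y⁻¹ * v * y) * c = c * (v⁻¹ * y⁻¹ * v * y) := by
    intro v hv c hc
    have h1 : v⁻¹ * y⁻¹ * v * y = ⁅v⁻¹, y⁻¹⁆ := by
      rw [commutatorElement_def]; simp
    rw [h1]
    exact hQ.b1 _ (Q.inv_mem (hVQ hv)) _ (Q.inv_mem hyQ) c hc
  have hTQ : ∀ v ∈ V, v⁻¹ * y⁻¹ * v * y ∈ Q := fun v hv =>
    Q.mul_mem (Q.mul_mem (Q.mul_mem (Q.inv_mem (hVQ hv)) (Q.inv_mem hyQ)) (hVQ hv)) hyQ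
  obtain ⟨T, hTdef⟩ : ∃ T : Set G, T = {c | ∃ v ∈ V, c = v⁻¹ * y⁻¹ * v * y} := ⟨_, rfl⟩
  have hP₁T : P₁ ≤ centralizer T := by
    intro t ht
    rw [mem_centralizer_iff]
    intro c hc
    rw [hTdef] at hc
    obtain ⟨v, hv, rfl⟩ := hc
    exact hT v hv t (hP₁Q ht)
  have hET : ∀ e ∈ E, ∀ x ∈ centralizer T, e * x * e⁻¹ ∈ centralizer T := by
    intro e he x hx
    rw [mem_centralizer_iff] at hx ⊢
    intro c hc
    rw [hTdef] at hc
    obtain ⟨v, hv, rfl⟩ := hc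
    have hye := hEy e he
    have hv' : e⁻¹ * v * e ∈ V := by
      have := hVn.conj_mem v hv e⁻¹
      simpa using this
    have hmemT : (e⁻¹ * v * e)⁻¹ * y⁻¹ * (e⁻¹ * v * e) * y ∈ T := by
      rw [hTdef]; exact ⟨_, hv', rfl⟩
    have h1 := hx _ hmemT
    have hye' : e⁻¹ * y = y * e⁻¹ := by
      have : y = e * y * e⁻¹ := by rw [← hye]; group
      calc e⁻¹ * y = e⁻¹ * (e * y * e⁻¹) := by rw [← this]
        _ = y * e⁻¹ := by group
    have h2 : (e⁻¹ * v * e)⁻¹ * y⁻¹ * (e⁻¹ * v * e) * y = e⁻¹ * (v⁻¹ * y⁻¹ * v * y) * e := by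
      have hy1 : e * y⁻¹ = y⁻¹ * e := by
        calc e * y⁻¹ = y⁻¹ * (y * e) * y⁻¹ := by group
          _ = y⁻¹ * (e * y) * y⁻¹ := by rw [hye]
          _ = y⁻¹ * e := by group
      calc (e⁻¹ * v * e)⁻¹ * y⁻¹ * (e⁻¹ * v * e) * y
          = e⁻¹ * v⁻¹ * (e * y⁻¹) * e⁻¹ * v * (e * y) := by group
        _ = e⁻¹ * v⁻¹ * (y⁻¹ * e) * e⁻¹ * v * (y * e) := by rw [hy1, hye]
        _ = e⁻¹ * (v⁻¹ * y⁻¹ * v * y) * e := by group
    rw [h2] at h1
    calc v⁻¹ * y⁻¹ * v * y * (e * x * e⁻¹)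
        = e * ((e⁻¹ * (v⁻¹ * y⁻¹ * v * y) * e) * x) * e⁻¹ := by group
      _ = e * (x * (e⁻¹ * (v⁻¹ * y⁻¹ * v * y) * e)) * e⁻¹ := by rw [h1]
      _ = e * x * e⁻¹ * (v⁻¹ * y⁻¹ * v * y) := by group
  have hDT : D ≤ centralizer T := by
    rw [hDdef, Subgroup.commutator_le]
    intro e he t ht
    have h1 := hET e he t (hP₁T ht)
    have h2 := mul_mem h1 (inv_mem (hP₁T ht))
    rw [commutatorElement_def]
    exact h2
  -- Claim 3: `N` contains a non-central element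
  have hex : ∃ w ∈ N, ∃ c ∈ Q, w * c ≠ c * w := by
    by_contra hcon
    push Not at hcon
    have h1 : P₁ ≤ centralizer (N : Set G) := by
      intro t ht
      rw [mem_centralizer_iff]
      intro w hw
      exact hcon w hw t (hP₁Q ht)
    have h2 : D ≤ centralizer (N : Set G) := by
      rw [← hDD, Subgroup.commutator_le]
      intro d hd t ht
      have h3 := conj_mem_centralizer_of_mem_normalizer (hDN hd) (h1 ht)
      have h4 := mul_mem h3 (inv_mem (h1 ht))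
      rw [commutatorElement_def]
      exact h4
    have h5 : ⁅N, D⁆ = ⊥ := by
      rw [Subgroup.commutator_eq_bot_iff_le_centralizer]
      exact Subgroup.le_centralizer_iff.mp h2
    rw [hNN] at h5
    have h6 : D ≤ centralizer (V : Set G) := by
      have : ⁅V, D⁆ = ⊥ := by rw [← hNdef]; exact h5
      rw [Subgroup.commutator_eq_bot_iff_le_centralizer] at this
      exact Subgroup.le_centralizer_iff.mp this
    apply hD1
    rw [eq_bot_iff, ← hVK]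
    exact le_inf (h6.trans hC) hDK
  obtain ⟨w, hwN, c₀, hc₀, hwc⟩ := hex
  have hwQ : w ∈ Q := hVQ (hNV hwN)
  -- Claim 4: central elements lie in `N`
  have hZN : ∀ z ∈ Q, (∀ c ∈ Q, z * c = c * z) → z ∈ N := by
    intro z hz hzc
    obtain ⟨x, hx, hxz⟩ := hQ.b3 w hwQ z hz ⟨c₀, hc₀, hwc⟩ hzc
    obtain ⟨n, hn, m, hm, rfl⟩ := hfrat x hx
    have hxN : n * m ∈ normalizer (N : Set G) := mul_mem (hVN hn) (hP₁Nn hm)
    have h1 : (n * m) * w⁻¹ * (n * m)⁻¹ ∈ N := (mem_normalizer_iff.mp hxN _).mp (N.inv_mem hwN)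
    have h2 := N.mul_mem hwN h1
    rw [← hxz, commutatorElement_def]
    simpa [mul_assoc] using h2
  -- Claim 5
  have hfix := fixed_le_commutator N D hDN
    (Nat.Coprime.coprime_dvd_right (Subgroup.card_dvd_of_le hNV) hcopDV) (le_of_eq hNN.symm)
  apply hyV
  apply mem_of_comm_mem_commutator V hVp hC hmax y
  intro r hr
  have h1 : r⁻¹ * y⁻¹ * r * y ∈ N := hZN _ (hTQ r hr) (hT r hr)
  have h2 : r⁻¹ * y⁻¹ * r * y ∈ centralizer (D : Set G) := by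
    rw [mem_centralizer_iff]
    intro d hd
    have h3 := mem_centralizer_iff.mp (hDT hd) (r⁻¹ * y⁻¹ * r * y) (by rw [hTdef]; exact ⟨r, hr, rfl⟩)
    exact h3.symm
  exact Subgroup.commutator_mono hNV hNV (hfix ⟨h1, h2⟩)

end

end Cfsg.Agent.Lib.helper54
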