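import Mathlib
import Cfsg.Prelude.Def_Local
import Cfsg.Prelude.Def_Solvable
import Cfsg.Agent.Lib.helper54.SchmidtSL
import Cfsg.Agent.Lib.helper54.SchmidtHH
import Cfsg.Agent.Lib.helper54.SchmidtD

/-!
# The cyclic case: `Q / O_p(G)` cyclic, `p ≤ 3`, `Q` of Schmidt type
-/

set_option autoImplicit false
set_option linter.style.haveILetI false

namespace Cfsg.Agent.Lib.helper54

open Subgroup
open scoped commutatorElement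

variable {G : Type*} [Group G] [Finite G] {p : ℕ} [hp : Fact p.Prime]

/-- The contradiction in the cyclic case (`p ≤ 3`). -/
theorem cyclic_case (V Q : Subgroup G) [hVn : V.Normal] (hVp : IsPGroup p V)
    (hC : centralizer (V : Set G) ≤ V)
    (hmax : ∀ N : Subgroup G, N.Normal → IsPGroup p N → N ≤ V)
    (hQp : IsPGroup p Q) (hVQ : V ≤ Q) (hQ : QData p Q)
    (y : G) (hyQ : y ∈ Q) (hyV : y ∉ V)
    (hgen : ∀ x ∈ Q, ∃ v ∈ V, ∃ i : ℕ, x = v * y ^ i) (hp23 : p = 2 ∨ p = 3) : False := by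
  classical
  have hcommQ : ∀ a ∈ Q, ∀ b ∈ Q, ⁅a, b⁆ ∈ Q := fun a ha b hb =>
    Q.mul_mem (Q.mul_mem (Q.mul_mem ha hb) (Q.inv_mem ha)) (Q.inv_mem hb)
  -- bilinearity
  have hml : ∀ a ∈ Q, ∀ b ∈ Q, ∀ c ∈ Q, ⁅a * b, c⁆ = ⁅a, c⁆ * ⁅b, c⁆ := by
    intro a ha b hb c hc
    have h1 := hQ.b1 b hb c hc a ha
    calc ⁅a * b, c⁆ = a * ⁅b, c⁆ * c * a⁻¹ * c⁻¹ := by
          simp only [commutatorElement_def]; group
      _ = ⁅b, c⁆ * a * c * a⁻¹ * c⁻¹ := by rw [← h1]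
      _ = ⁅b, c⁆ * ⁅a, c⁆ := by simp only [commutatorElement_def]; group
      _ = ⁅a, c⁆ * ⁅b, c⁆ := hQ.b1 b hb c hc _ (hcommQ a ha c hc)
  have hmr : ∀ a ∈ Q, ∀ b ∈ Q, ∀ c ∈ Q, ⁅a, b * c⁆ = ⁅a, b⁆ * ⁅a, c⁆ := by
    intro a ha b hb c hc
    have h1 := hQ.b1 a ha c hc b⁻¹ (Q.inv_mem hb)
    calc ⁅a, b * c⁆ = a * b * a⁻¹ * (⁅a, c⁆ * b⁻¹) := by
          simp only [commutatorElement_def]; group
      _ = a * b * a⁻¹ * (b⁻¹ * ⁅a, c⁆) := by rw [h1]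
      _ = ⁅a, b⁆ * ⁅a, c⁆ := by simp only [commutatorElement_def]; group
  have hpl : ∀ a ∈ Q, ∀ c ∈ Q, ∀ n : ℕ, ⁅a ^ n, c⁆ = ⁅a, c⁆ ^ n := by
    intro a ha c hc n
    induction n with
    | zero => simp
    | succ n ih => rw [pow_succ, hml _ (Q.pow_mem ha n) a ha c hc, ih, pow_succ]
  have hpr : ∀ a ∈ Q, ∀ c ∈ Q, ∀ n : ℕ, ⁅a, c ^ n⁆ = ⁅a, c⁆ ^ n := by
    intro a ha c hc n
    induction n with
    | zero => simp
    | succ n ih => rw [pow_succ, hmr a ha _ (Q.pow_mem hc n) c hc, ih, pow_succ]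
  have hil : ∀ a ∈ Q, ∀ c ∈ Q, ⁅a⁻¹, c⁆ = ⁅a, c⁆⁻¹ := by
    intro a ha c hc
    have h1 := hml a⁻¹ (Q.inv_mem ha) a ha c hc
    rw [inv_mul_cancel, commutatorElement_one_left] at h1
    exact eq_inv_of_mul_eq_one_left h1.symm
  -- a central element outside `V'`
  have hstar : ∃ z₀ ∈ Q, (∀ c ∈ Q, z₀ * c = c * z₀) ∧ z₀ ∉ ⁅V, V⁆ := by
    by_contra hcon
    push Not at hcon
    apply hyV
    apply mem_of_comm_mem_commutator V hVp hC hmax y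
    intro r hr
    have h1 : r⁻¹ * y⁻¹ * r * y = ⁅r⁻¹, y⁻¹⁆ := by
      rw [commutatorElement_def]; simp
    rw [h1]
    exact hcon _ (hcommQ _ (Q.inv_mem (hVQ hr)) _ (Q.inv_mem hyQ))
      (fun c hc => hQ.b1 _ (Q.inv_mem (hVQ hr)) _ (Q.inv_mem hyQ) c hc)
  have hii : ∀ w ∈ V, ⁅w, y⁆ ∈ ⁅V, V⁆ → ∀ c ∈ Q, w * c = c * w := by
    intro w hw hwy
    by_contra hcon
    push Not at hcon
    obtain ⟨c, hc, hwc⟩ := hcon
    obtain ⟨z₀, hz₀Q, hz₀c, hz₀⟩ := hstar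
    obtain ⟨x, hx, hxz⟩ := hQ.b3 w (hVQ hw) z₀ hz₀Q ⟨c, hc, hwc⟩ hz₀c
    obtain ⟨v, hv, i, rfl⟩ := hgen x hx
    apply hz₀
    rw [← hxz, hmr w (hVQ hw) v (hVQ hv) (y ^ i) (Q.pow_mem hyQ i), hpr w (hVQ hw) y hyQ i]
    exact mul_mem (Subgroup.commutator_mem_commutator hw hv) (pow_mem hwy i)
  have hexw : ∃ w ∈ V, ∃ c ∈ Q, w * c ≠ c * w := by
    by_contra hcon
    push Not at hcon
    apply hyV
    apply hC
    rw [mem_centralizer_iff]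
    intro v hv
    exact hcon v hv y hyQ
  obtain ⟨w, hwV, c₀, hc₀, hwc⟩ := hexw
  have hwQ := hVQ hwV
  have hdec : ∀ w' ∈ V, ∃ z ∈ V, (∀ c ∈ Q, z * c = c * z) ∧ ∃ i : ℕ, w' = z * w ^ i := by
    intro w' hw'
    have hzc : ∀ c ∈ Q, ⁅w', y⁆ * c = c * ⁅w', y⁆ := fun c hc => hQ.b1 w' (hVQ hw') y hyQ c hc
    obtain ⟨x, hx, hxz⟩ := hQ.b3 w hwQ ⁅w', y⁆ (hcommQ _ (hVQ hw') _ hyQ) ⟨c₀, hc₀, hwc⟩ hzc
    obtain ⟨v, hv, i, rfl⟩ := hgen x hx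
    rw [hmr w hwQ v (hVQ hv) (y ^ i) (Q.pow_mem hyQ i), hpr w hwQ y hyQ i,
      ← hpl w hwQ y hyQ i] at hxz
    have hzV : w' * (w ^ i)⁻¹ ∈ V := V.mul_mem hw' (V.inv_mem (V.pow_mem hwV i))
    refine ⟨w' * (w ^ i)⁻¹, hzV, ?_, i, by rw [inv_mul_cancel_right]⟩
    apply hii _ hzV
    rw [hml w' (hVQ hw') _ (Q.inv_mem (Q.pow_mem hwQ i)) y hyQ, hil (w ^ i) (Q.pow_mem hwQ i) y hyQ,
      ← hxz, mul_inv_cancel_right]
    exact Subgroup.commutator_mem_commutator hwV hv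
  have hVab : ∀ a ∈ V, ∀ b ∈ V, a * b = b * a := by
    intro a ha b hb
    obtain ⟨z₁, hz₁V, hz₁, i, rfl⟩ := hdec a ha
    obtain ⟨z₂, hz₂V, hz₂, j, rfl⟩ := hdec b hb
    have e1 := hz₁ (w ^ j) (Q.pow_mem hwQ j)
    have e2 := hz₂ (w ^ i) (Q.pow_mem hwQ i)
    have e3 := hz₁ z₂ (hVQ hz₂V)
    have e4 : w ^ i * w ^ j = w ^ j * w ^ i := (Commute.pow_pow_self w i j).eq
    calc z₁ * w ^ i * (z₂ * w ^ j) = z₁ * (w ^ i * z₂) * w ^ j := by simp only [mul_assoc]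
      _ = z₁ * (z₂ * w ^ i) * w ^ j := by rw [e2]
      _ = (z₁ * z₂) * (w ^ i * w ^ j) := by simp only [mul_assoc]
      _ = (z₂ * z₁) * (w ^ j * w ^ i) := by rw [e3, e4]
      _ = z₂ * (z₁ * w ^ j) * w ^ i := by simp only [mul_assoc]
      _ = z₂ * (w ^ j * z₁) * w ^ i := by rw [e1]
      _ = z₂ * w ^ j * (z₁ * w ^ i) := by simp only [mul_assoc]
  have hVV : (⁅V, V⁆ : Subgroup G) = ⊥ := by
    rw [Subgroup.commutator_eq_bot_iff_le_centralizer]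
    intro a ha
    rw [mem_centralizer_iff]
    intro b hb
    exact hVab b hb a ha
  have hgen2 : ∀ x ∈ Q, ∃ z ∈ Q, (∀ c ∈ Q, z * c = c * z) ∧
      ∃ i j : ℕ, x = z * w ^ i * y ^ j := by
    intro x hx
    obtain ⟨v, hv, j, rfl⟩ := hgen x hx
    obtain ⟨z, hzV, hz, i, rfl⟩ := hdec v hv
    exact ⟨z, hVQ hzV, hz, i, j, rfl⟩
  obtain ⟨hp3, hp2⟩ := hQ.b4 ⟨w, hwQ, y, hyQ, ⟨c₀, hc₀, hwc⟩, hgen2⟩
  have hp2' : p = 2 := by
    rcases hp23 with h | h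
    · exact h
    · exact absurd h hp3
  have hinv := hp2 hp2'
  have hw2c : ∀ c ∈ Q, w ^ 2 * c = c * w ^ 2 := by
    intro c hc
    have := hQ.b2 w hwQ c hc
    rwa [hp2'] at this
  have hc2 : ⁅w, y⁆ ^ 2 = 1 := by
    rw [← hpl w hwQ y hyQ 2, commutatorElement_eq_one_iff_mul_comm]
    exact hw2c y hyQ
  have hZ : ∀ z ∈ Q, (∀ c ∈ Q, z * c = c * z) → z = 1 ∨ z = ⁅w, y⁆ := by
    intro z hz hzc
    obtain ⟨x, hx, hxz⟩ := hQ.b3 w hwQ z hz ⟨c₀, hc₀, hwc⟩ hzc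
    obtain ⟨v, hv, i, rfl⟩ := hgen x hx
    rw [hmr w hwQ v (hVQ hv) (y ^ i) (Q.pow_mem hyQ i), hpr w hwQ y hyQ i] at hxz
    have h1 : ⁅w, v⁆ = 1 := commutatorElement_eq_one_iff_mul_comm.mpr (hVab w hwV v hv)
    rw [h1, one_mul] at hxz
    rw [← hxz]
    rcases Nat.even_or_odd' i with ⟨k, rfl | rfl⟩
    · left; rw [pow_mul, hc2, one_pow]
    · right; rw [pow_succ, pow_mul, hc2, one_pow, one_mul]
  have hw2 : w ^ 2 = ⁅w, y⁆ := by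
    rcases hZ (w ^ 2) (Q.pow_mem hwQ 2) hw2c with h | h
    · exact absurd (hinv w hwQ h c₀ hc₀) hwc
    · exact h
  have hVw : ∀ v ∈ V, ∃ n : ℕ, v = w ^ n := by
    intro v hv
    obtain ⟨z, hzV, hz, i, rfl⟩ := hdec v hv
    rcases hZ z (hVQ hzV) hz with h | h
    · exact ⟨i, by rw [h, one_mul]⟩
    · exact ⟨2 + i, by rw [h, ← hw2, ← pow_add]⟩
  have hcj : ∀ g : G, ∃ n : ℕ, g * w * g⁻¹ = w ^ n := fun g => hVw _ (hVn.conj_mem w hwV g)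
  have hcc : ∀ a b : G, a * (b * w * b⁻¹) * a⁻¹ = b * (a * w * a⁻¹) * b⁻¹ := by
    intro a b
    obtain ⟨k, hk⟩ := hcj a
    obtain ⟨l, hl⟩ := hcj b
    rw [hk, hl, ← conj_pow, ← conj_pow, hk, hl, ← pow_mul, ← pow_mul, mul_comm]
  have hcomm : ∀ a b : G, w * (a⁻¹ * b⁻¹ * a * b) = (a⁻¹ * b⁻¹ * a * b) * w := by
    intro a b
    calc w * (a⁻¹ * b⁻¹ * a * b) = a⁻¹ * b⁻¹ * (b * (a * w * a⁻¹) * b⁻¹) * (a * b) := by group
      _ = a⁻¹ * b⁻¹ * (a * (b * w * b⁻¹) * a⁻¹) * (a * b) := by rw [hcc a b]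
      _ = (a⁻¹ * b⁻¹ * a * b) * w := by group
  have hder : ∀ a b : G, ⁅a, b⁆ ∈ V := by
    intro a b
    apply hC
    rw [mem_centralizer_iff]
    intro v hv
    obtain ⟨n, rfl⟩ := hVw v hv
    have h := hcomm a⁻¹ b⁻¹
    rw [inv_inv, inv_inv] at h
    have h' : Commute w ⁅a, b⁆ := by
      rw [commutatorElement_def]
      exact h
    exact (h'.pow_left n).eq
  have hQn : Q.Normal := by
    constructor
    intro q hq g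
    have h1 : g * q * g⁻¹ = ⁅g, q⁆ * q := by rw [commutatorElement_def]; group
    rw [h1]
    exact Q.mul_mem (hVQ (hder g q)) hq
  exact hyV (hmax Q hQn hQp hyQ)

end Cfsg.Agent.Lib.helper54
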