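import Mathlib
import Cfsg.Prelude.Def_Local
import Cfsg.Prelude.Def_Solvable
import Cfsg.Prelude.Def_CaseTheorems
import Cfsg.Agent.Lib.helper54.SchmidtSL
import Cfsg.Agent.Lib.helper54.SchmidtHH
import Cfsg.Agent.Lib.helper54.SchmidtD
import Cfsg.Agent.Lib.helper66.DualHH
import Cfsg.Agent.Lib.helper66.PLengthSeries
import Cfsg.Agent.Lib.helper1.SZ
import Cfsg.Agent.Lib.helper1.Coprime
import Cfsg.Agent.Lib.helper37.CoprimeGen
import Cfsg.Agent.Lib.helper27.Radical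
import Cfsg.Agent.Lib.helper38.HallHigman
import Cfsg.Agent.Lib.helper38.HallHigman2
import Cfsg.Agent.Lib.helper40.Cores

/-!
# A Sylow `p`-subgroup of Schmidt type in a `p`-soluble group with `O_{p'} = 1` is normal
-/

set_option autoImplicit false
set_option linter.style.haveILetI false

namespace Cfsg.Agent.Lib.helper54

open Subgroup
open scoped commutatorElement Pointwise

universe u

section

variable {G : Type*} [Group G] [Finite G] {p : ℕ} [hp : Fact p.Prime]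

/-- A complement `K₀` of `V` in the preimage of a normal `p'`-subgroup of `G ⧸ V`, with the
Frattini property for a `p`-subgroup `Q ≥ V`. -/
theorem exists_compl (V Q : Subgroup G) [hVn : V.Normal] (hVp : IsPGroup p V) (hVQ : V ≤ Q)
    (Kb : Subgroup (G ⧸ V)) [hKbn : Kb.Normal] (hKb : (Nat.card Kb).Coprime p) :
    ∃ K₀ : Subgroup G, V ⊓ K₀ = ⊥ ∧ (Nat.card K₀).Coprime p ∧
      (∀ x : G, QuotientGroup.mk' V x ∈ Kb → ∃ v ∈ V, ∃ k ∈ K₀, x = v * k) ∧
      (∀ t ∈ Q, ∃ n ∈ V, ∃ m ∈ Q ⊓ normalizer (K₀ : Set G), t = n * m) := by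
  classical
  obtain ⟨L, hLdef⟩ : ∃ L : Subgroup G, L = Kb.comap (QuotientGroup.mk' V) := ⟨_, rfl⟩
  have hVL : V ≤ L := hLdef ▸ Cfsg.Agent.Lib.helper66.le_comap_mk' V Kb
  have hLn : L.Normal := hLdef ▸ hKbn.comap _
  obtain ⟨a, ha⟩ := IsPGroup.iff_card.mp hVp
  have hcardN : Nat.card (V.subgroupOf L) = Nat.card V :=
    Nat.card_congr (Subgroup.subgroupOfEquivOfLe hVL).toEquiv
  have hidx : (V.subgroupOf L).index = Nat.card Kb := by
    have h1 : (V.subgroupOf L).index = V.relIndex L := rfl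
    rw [h1, ← Cfsg.Agent.Lib.helper66.card_map_mk'_eq_relIndex V L, hLdef,
      Subgroup.map_comap_eq_self_of_surjective (QuotientGroup.mk'_surjective V)]
  have hcop : (Nat.card (V.subgroupOf L)).Coprime (V.subgroupOf L).index := by
    rw [hcardN, hidx, ha]
    exact Nat.Coprime.pow_left a hKb.symm
  obtain ⟨H, hH⟩ := Subgroup.exists_right_complement'_of_coprime hcop
  obtain ⟨K₀, hK₀def⟩ : ∃ K₀ : Subgroup G, K₀ = H.map L.subtype := ⟨_, rfl⟩
  have hK₀L : K₀ ≤ L := hK₀def ▸ Subgroup.map_subtype_le H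
  have hVK : V ⊓ K₀ = ⊥ := by
    rw [eq_bot_iff]
    intro x hx
    obtain ⟨hxV, hxK⟩ := Subgroup.mem_inf.mp hx
    rw [hK₀def] at hxK
    obtain ⟨h, hh, rfl⟩ := hxK
    have h1 : h ∈ V.subgroupOf L ⊓ H := ⟨Subgroup.mem_subgroupOf.mpr hxV, hh⟩
    rw [disjoint_iff.mp hH.disjoint, Subgroup.mem_bot] at h1
    rw [h1]
    exact Subgroup.one_mem _
  have hcardK : Nat.card K₀ = Nat.card Kb := by
    rw [hK₀def, Subgroup.card_map_of_injective (Subgroup.subtype_injective L), ← hidx]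
    have h1 := hH.card_mul_card
    have h2 := Subgroup.card_mul_index (V.subgroupOf L)
    have hpos : 0 < Nat.card (V.subgroupOf L) := Nat.card_pos
    exact Nat.eq_of_mul_eq_mul_left hpos (h1.trans h2.symm)
  have hKcop : (Nat.card K₀).Coprime p := by rw [hcardK]; exact hKb
  have hdec : ∀ x : G, x ∈ L → ∃ v ∈ V, ∃ k ∈ K₀, x = v * k := by
    intro x hx
    have h1 : (⟨x, hx⟩ : L) ∈ V.subgroupOf L ⊔ H := by
      rw [hH.sup_eq_top]; exact Subgroup.mem_top _
    rw [← SetLike.mem_coe, Subgroup.normal_mul] at h1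
    obtain ⟨n, hn, h, hh, hnh⟩ := Set.mem_mul.mp h1
    refine ⟨(n : G), Subgroup.mem_subgroupOf.mp hn, (h : G), ?_, ?_⟩
    · rw [hK₀def]; exact ⟨h, hh, rfl⟩
    · have := congrArg Subtype.val hnh
      exact this.symm
  have hsupL : V ⊔ K₀ = L := by
    apply le_antisymm (sup_le hVL hK₀L)
    intro x hx
    obtain ⟨v, hv, k, hk, rfl⟩ := hdec x hx
    exact Subgroup.mul_mem _ (Subgroup.mem_sup_left hv) (Subgroup.mem_sup_right hk)
  refine ⟨K₀, hVK, hKcop, ?_, ?_⟩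
  · intro x hx
    exact hdec x (by rw [hLdef]; exact hx)
  · intro t ht
    have hHN : K₀ ≤ normalizer (V : Set G) := by
      rw [normalizer_eq_top_iff.mpr hVn]; exact le_top
    have hdK : V ⊓ (MulAut.conj t • K₀) = ⊥ := by
      rw [eq_bot_iff]
      intro x hx
      obtain ⟨hxV, hxK⟩ := Subgroup.mem_inf.mp hx
      rw [Cfsg.Agent.Lib.helper1.mem_conj_smul] at hxK
      have h1 : t⁻¹ * x * t ∈ V := by
        have := hVn.conj_mem x hxV t⁻¹
        simpa using this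
      have h2 : t⁻¹ * x * t ∈ V ⊓ K₀ := ⟨h1, hxK⟩
      rw [hVK, Subgroup.mem_bot] at h2
      rw [Subgroup.mem_bot]
      calc x = t * (t⁻¹ * x * t) * t⁻¹ := by group
        _ = 1 := by rw [h2]; group
    have hsup : V ⊔ K₀ = V ⊔ MulAut.conj t • K₀ := by
      have h1 : MulAut.conj t • (V ⊔ K₀) = V ⊔ MulAut.conj t • K₀ := by
        rw [Subgroup.smul_sup, Subgroup.Normal.conj_smul_eq_self t V]
      rw [← h1, hsupL, Subgroup.Normal.conj_smul_eq_self t L]
    have hcopVK : (Nat.card V).Coprime (Nat.card K₀) := by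
      rw [ha]; exact Nat.Coprime.pow_left a hKcop.symm
    obtain ⟨n, hn, hnK⟩ := Cfsg.Agent.Lib.helper1.sz_conj_internal V K₀ (MulAut.conj t • K₀)
      hHN hVK hdK hsup hcopVK (Or.inl (isSolvable_of_isPGroup' V hVp))
    refine ⟨n, hn, n⁻¹ * t, ?_, by group⟩
    refine Subgroup.mem_inf.mpr ⟨Q.mul_mem (Q.inv_mem (hVQ hn)) ht, ?_⟩
    apply Cfsg.Agent.Lib.helper1.mem_normalizer_of_conj_smul_eq
    rw [← Cfsg.Agent.Lib.helper1.conj_smul_conj_smul, ← hnK,
      Cfsg.Agent.Lib.helper1.conj_smul_conj_smul, inv_mul_cancel, map_one, one_smul]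

/-- In the non-cyclic case there is `y ∈ Q \ V` and an element `k` of the `p'`-part centralizing
`y` modulo `V` but not centralized by `Q` modulo `V`. -/
theorem exists_noncentral (V Q : Subgroup G) [hVn : V.Normal] (hQp : IsPGroup p Q)
    (hab : ∀ a ∈ Q, ∀ b ∈ Q, ⁅a, b⁆ ∈ V) (hexp : ∀ a ∈ Q, a ^ p ∈ V)
    (Kb : Subgroup (G ⧸ V)) [hKbn : Kb.Normal] (hKb : (Nat.card Kb).Coprime p)
    (hcent : centralizer (Kb : Set (G ⧸ V)) ≤ Kb)
    (hcard : p < Nat.card (Q.map (QuotientGroup.mk' V))) :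
    ∃ y ∈ Q, y ∉ V ∧ ∃ k : G, QuotientGroup.mk' V k ∈ Kb ∧ ⁅k, y⁆ ∈ V ∧ ∃ s ∈ Q, ⁅k, s⁆ ∉ V := by
  classical
  by_contra hcon
  push Not at hcon
  obtain ⟨S, hSdef⟩ : ∃ S : Subgroup (G ⧸ V), S = Q.map (QuotientGroup.mk' V) := ⟨_, rfl⟩
  rw [← hSdef] at hcard
  have hSc : ∀ a ∈ S, ∀ b ∈ S, a * b = b * a := by
    intro a ha b hb
    rw [hSdef] at ha hb
    obtain ⟨a, ha, rfl⟩ := ha
    obtain ⟨b, hb, rfl⟩ := hb
    rw [← commutatorElement_eq_one_iff_mul_comm, ← map_commutatorElement,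
      QuotientGroup.mk'_apply, QuotientGroup.eq_one_iff]
    exact hab a ha b hb
  have hSp : ∀ a ∈ S, a ^ p = 1 := by
    intro a ha
    rw [hSdef] at ha
    obtain ⟨a, ha, rfl⟩ := ha
    rw [← map_pow, QuotientGroup.mk'_apply, QuotientGroup.eq_one_iff]
    exact hexp a ha
  have hX : ¬ p ∣ Nat.card Kb := by
    intro h
    have := Nat.Coprime.eq_one_of_dvd hKb.symm h
    exact hp.out.one_lt.ne' this
  have hSX : S ≤ normalizer (Kb : Set (G ⧸ V)) := by
    rw [normalizer_eq_top_iff.mpr hKbn]; exact le_top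
  have gen := Cfsg.Agent.Lib.helper37.coprime_gen_hyperplane p S Kb hSc hSp hX hSX
  have hKS : Kb ≤ centralizer (S : Set (G ⧸ V)) := by
    rw [gen]
    apply iSup_le
    rintro ⟨B, hBS, hBi⟩
    have hB1 : B ≠ ⊥ := by
      rintro rfl
      rw [Subgroup.relIndex_bot_left] at hBi
      omega
    obtain ⟨b', hb'1⟩ := Subgroup.ne_bot_iff_exists_ne_one.mp hB1
    obtain ⟨b, hb, hb1⟩ : ∃ b : G ⧸ V, b ∈ B ∧ b ≠ 1 :=
      ⟨(b' : G ⧸ V), b'.2, fun h => hb'1 (Subtype.ext h)⟩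
    intro kb hkb
    obtain ⟨hkbK, hkbB⟩ := Subgroup.mem_inf.mp hkb
    have hbS := hBS hb
    rw [hSdef] at hbS
    obtain ⟨y, hyQ, rfl⟩ := hbS
    obtain ⟨k, rfl⟩ := QuotientGroup.mk'_surjective V kb
    have hyV : y ∉ V := fun h => hb1 (by
      rw [QuotientGroup.mk'_apply, QuotientGroup.eq_one_iff]; exact h)
    have hky : ⁅k, y⁆ ∈ V := by
      rw [← QuotientGroup.eq_one_iff, ← QuotientGroup.mk'_apply, map_commutatorElement,
        commutatorElement_eq_one_iff_mul_comm]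
      exact ((mem_centralizer_iff.mp hkbB) _ hb).symm
    rw [mem_centralizer_iff]
    intro sb hsb
    rw [hSdef] at hsb
    obtain ⟨s, hs, rfl⟩ := hsb
    have h1 := hcon y hyQ hyV k hkbK hky s hs
    have h2 : ⁅QuotientGroup.mk' V k, QuotientGroup.mk' V s⁆ = 1 := by
      rw [← map_commutatorElement, QuotientGroup.mk'_apply, QuotientGroup.eq_one_iff]
      exact h1
    exact (commutatorElement_eq_one_iff_mul_comm.mp h2).symm
  have hSK : S ≤ Kb := (Subgroup.le_centralizer_iff.mp hKS).trans hcent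
  have hSpg : IsPGroup p S := hSdef ▸ hQp.map _
  obtain ⟨n, hn⟩ := IsPGroup.iff_card.mp hSpg
  have hdvd : Nat.card S ∣ Nat.card Kb := Subgroup.card_dvd_of_le hSK
  have hn0 : n = 0 := by
    by_contra hn0
    apply hX
    exact (dvd_pow_self p hn0).trans (hn ▸ hdvd)
  rw [hn, hn0, pow_zero] at hcard
  exact absurd hcard (by have := hp.out.one_lt; omega)

end

end Cfsg.Agent.Lib.helper54
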