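import Mathlib
import Cfsg.Prelude.Def_Local
import Cfsg.Prelude.Def_Solvable
import Cfsg.Prelude.Def_CaseTheorems
import Cfsg.Agent.Lib.helper54.SchmidtSL
import Cfsg.Agent.Lib.helper54.SchmidtHH
import Cfsg.Agent.Lib.helper54.SchmidtD
import Cfsg.Agent.Lib.helper54.SchmidtPLen
import Cfsg.Agent.Lib.helper54.SchmidtCyc

/-!
# A Sylow `p`-subgroup of Schmidt type in a `p`-soluble group with `O_{p'} = 1` is normal
-/

set_option autoImplicit false
set_option linter.style.haveILetI false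

namespace Cfsg.Agent.Lib.helper54

open Subgroup Cfsg.Agent.Lib.helper40.HHD
open scoped commutatorElement Pointwise

universe u

/-- Abstract form: `V` the largest normal `p`-subgroup, self-centralizing; `Q ≥ V` a `p`-subgroup
of Schmidt type; then `Q ≤ V`. -/
theorem sylow_le_aux {p : ℕ} [hp : Fact p.Prime] (hJ : 5 ≤ p → QuadHyp.{u} p)
    {G : Type u} [Group G] [Finite G] (hsol : Cfsg.IsPSolvable p G)
    (V Q : Subgroup G) [hVn : V.Normal] (hVp : IsPGroup p V)
    (hC : centralizer (V : Set G) ≤ V)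
    (hmax : ∀ N : Subgroup G, N.Normal → IsPGroup p N → N ≤ V)
    (hQp : IsPGroup p Q) (hVQ : V ≤ Q) (hQ : QData p Q)
    (Kb : Subgroup (G ⧸ V)) [hKbn : Kb.Normal] (hKb : (Nat.card Kb).Coprime p)
    (hcent : centralizer (Kb : Set (G ⧸ V)) ≤ Kb) : Q ≤ V := by
  classical
  by_contra hnot
  obtain ⟨y, hyQ, hyV⟩ := SetLike.not_le_iff_exists.mp hnot
  have hZV : ∀ z ∈ Q, (∀ c ∈ Q, z * c = c * z) → z ∈ V := by
    intro z _ hzc
    apply hC
    rw [mem_centralizer_iff]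
    intro v hv
    exact (hzc v (hVQ hv)).symm
  have hcommQ : ∀ a ∈ Q, ∀ b ∈ Q, ⁅a, b⁆ ∈ Q := fun a ha b hb =>
    Q.mul_mem (Q.mul_mem (Q.mul_mem ha hb) (Q.inv_mem ha)) (Q.inv_mem hb)
  have hab : ∀ a ∈ Q, ∀ b ∈ Q, ⁅a, b⁆ ∈ V := fun a ha b hb =>
    hZV _ (hcommQ a ha b hb) (fun c hc => hQ.b1 a ha b hb c hc)
  have hexp : ∀ a ∈ Q, a ^ p ∈ V := fun a ha =>
    hZV _ (Q.pow_mem ha p) (fun c hc => hQ.b2 a ha c hc)
  by_cases hp5 : 5 ≤ p
  · -- quadratic action
    apply quad_contra (hJ hp5) hsol V hVp hC hmax y hyV (hexp y hyQ)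
    intro r
    apply Subtype.ext
    rw [dlt_coe, dlt_coe]
    have h1 : (r : G)⁻¹ * y⁻¹ * r * y = ⁅(r : G)⁻¹, y⁻¹⁆ := by
      rw [commutatorElement_def]; simp
    have h2 := hQ.b1 _ (Q.inv_mem (hVQ r.2)) _ (Q.inv_mem hyQ) y⁻¹ (Q.inv_mem hyQ)
    rw [← h1] at h2
    show ((r : G)⁻¹ * y⁻¹ * r * y)⁻¹ * y⁻¹ * ((r : G)⁻¹ * y⁻¹ * r * y) * y = 1
    rw [mul_assoc ((r : G)⁻¹ * y⁻¹ * r * y)⁻¹, ← h2]
    group
  · have hp23 : p = 2 ∨ p = 3 := by
      have h2 := hp.out.two_le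
      have h4 : p ≠ 4 := by
        intro h
        have := hp.out
        rw [h] at this
        exact absurd this (by decide)
      omega
    obtain ⟨K₀, hVK, hKcop, hdec, hfrat⟩ := exists_compl V Q hVp hVQ Kb hKb
    have hπV : ∀ x : G, QuotientGroup.mk' V x = 1 ↔ x ∈ V := fun x => by
      rw [QuotientGroup.mk'_apply, QuotientGroup.eq_one_iff]
    by_cases hcard : p < Nat.card (Q.map (QuotientGroup.mk' V))
    · obtain ⟨y₁, hy₁Q, hy₁V, k₁, hk₁Kb, hk₁y, s₁, hs₁Q, hk₁s⟩ :=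
        exists_noncentral V Q hQp hab hexp Kb hKb hcent hcard
      obtain ⟨n, hn, y', hy', rfl⟩ := hfrat y₁ hy₁Q
      obtain ⟨v, hv, k, hk, rfl⟩ := hdec k₁ hk₁Kb
      obtain ⟨n', hn', s, hs, rfl⟩ := hfrat s₁ hs₁Q
      have hy'V : y' ∉ V := fun h => hy₁V (V.mul_mem hn h)
      have e1 : QuotientGroup.mk' V (n * y') = QuotientGroup.mk' V y' := by
        rw [map_mul, (hπV n).mpr hn, one_mul]
      have e2 : QuotientGroup.mk' V (v * k) = QuotientGroup.mk' V k := by
        rw [map_mul, (hπV v).mpr hv, one_mul]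
      have e3 : QuotientGroup.mk' V (n' * s) = QuotientGroup.mk' V s := by
        rw [map_mul, (hπV n').mpr hn', one_mul]
      have hky : k * y' = y' * k := by
        have h1 : ⁅k, y'⁆ ∈ V := by
          rw [← hπV, map_commutatorElement, ← e1, ← e2, ← map_commutatorElement, hπV]
          exact hk₁y
        have h3 : ⁅k, y'⁆ ∈ K₀ := by
          have hyN := (Subgroup.mem_inf.mp hy').2
          have h2 := K₀.mul_mem hk ((mem_normalizer_iff.mp hyN k⁻¹).mp (K₀.inv_mem hk))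
          rw [commutatorElement_def]
          simpa [mul_assoc] using h2
        have h4 : ⁅k, y'⁆ ∈ V ⊓ K₀ := ⟨h1, h3⟩
        rw [hVK, mem_bot] at h4
        exact commutatorElement_eq_one_iff_mul_comm.mp h4
      have hks : ⁅k, s⁆ ≠ 1 := by
        intro h
        apply hk₁s
        rw [← hπV, map_commutatorElement, e2, e3, ← map_commutatorElement, h, map_one]
      exact dtrick V Q hVp hC hmax hQp hVQ hQ K₀ hVK hKcop hfrat y' hy' hy'V k hk hky s hs hks
    · -- cyclic case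
      obtain ⟨S, hSdef⟩ : ∃ S : Subgroup (G ⧸ V), S = Q.map (QuotientGroup.mk' V) := ⟨_, rfl⟩
      rw [← hSdef] at hcard
      have hSpg : IsPGroup p S := hSdef ▸ hQp.map _
      have hyS : QuotientGroup.mk' V y ∈ S := by rw [hSdef]; exact ⟨y, hyQ, rfl⟩
      have hy1 : (⟨QuotientGroup.mk' V y, hyS⟩ : S) ≠ 1 := by
        intro h
        apply hyV
        rw [← hπV]
        exact congrArg Subtype.val h
      obtain ⟨n, hn⟩ := IsPGroup.iff_card.mp hSpg
      have hn1 : n = 1 := by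
        have hn0 : n ≠ 0 := by
          rintro rfl
          rw [pow_zero] at hn
          have : Subsingleton S := (Nat.card_eq_one_iff_unique.mp hn).1
          exact hy1 (Subsingleton.elim _ _)
        have hle : p ^ n ≤ p ^ 1 := by rw [pow_one, ← hn]; omega
        have := (Nat.pow_le_pow_iff_right hp.out.one_lt).mp hle
        omega
      have hcS : Nat.card S = p := by rw [hn, hn1, pow_one]
      have hgen : ∀ x ∈ Q, ∃ v ∈ V, ∃ i : ℕ, x = v * y ^ i := by
        intro x hx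
        have hxS : QuotientGroup.mk' V x ∈ S := by rw [hSdef]; exact ⟨x, hx, rfl⟩
        have hmem : (⟨QuotientGroup.mk' V x, hxS⟩ : S) ∈
            Submonoid.powers (⟨QuotientGroup.mk' V y, hyS⟩ : S) := mem_powers_of_prime_card hcS hy1
        obtain ⟨i, hi⟩ := hmem
        have hi' : QuotientGroup.mk' V y ^ i = QuotientGroup.mk' V x := by
          have := congrArg Subtype.val hi
          simpa using this
        refine ⟨x * (y ^ i)⁻¹, ?_, i, by rw [inv_mul_cancel_right]⟩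
        rw [← hπV, map_mul, map_inv, map_pow, hi', mul_inv_cancel]
      exact cyclic_case V Q hVp hC hmax hQp hVQ hQ y hyQ hyV hgen hp23

/-- A Sylow `p`-subgroup of Schmidt type of a `p`-soluble group with `O_{p'}(G) = 1` lies in
`O_p(G)`. -/
theorem sylow_le_pCore_of_SL {p : ℕ} [hp : Fact p.Prime] (hJ : 5 ≤ p → QuadHyp.{u} p)
    {G : Type u} [Group G] [Finite G] (hsol : Cfsg.IsPSolvable p G)
    (hO : Cfsg.pPrimeCore p G = ⊥) (Q : Sylow p G) (hSL : SL p ↥(Q : Subgroup G)) :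
    (Q : Subgroup G) ≤ Cfsg.pCore p G := by
  classical
  haveI hVn : (Cfsg.pCore p G).Normal := Cfsg.Agent.Lib.helper40.pCore_normal' p G
  have hVp : IsPGroup p (Cfsg.pCore p G) := Cfsg.Agent.Lib.helper40.pCore_isPGroup p G
  have hC : centralizer (Cfsg.pCore p G : Set G) ≤ Cfsg.pCore p G :=
    Cfsg.Agent.Lib.helper38.centralizer_pCore_le_of_isPSolvable hsol hO
  have hmax : ∀ N : Subgroup G, N.Normal → IsPGroup p N → N ≤ Cfsg.pCore p G :=
    fun N hN hNp => le_sSup ⟨hN, hNp⟩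
  have hVQ : Cfsg.pCore p G ≤ Q := Cfsg.Agent.Lib.helper1.normal_pgroup_le_sylow _ hVp Q
  haveI hKbn : (Cfsg.pPrimeCore p (G ⧸ Cfsg.pCore p G)).Normal :=
    Cfsg.Agent.Lib.helper40.pPrimeCore_normal' p _
  exact sylow_le_aux hJ hsol (Cfsg.pCore p G) Q hVp hC hmax Q.2 hVQ (QData.of_SL hSL)
    (Cfsg.pPrimeCore p (G ⧸ Cfsg.pCore p G)) (Cfsg.Agent.Lib.helper27.pPrimeCore_coprime p)
    (Cfsg.Agent.Lib.helper66.centralizer_pPrimeCore_le_of_isPSolvable
      (Cfsg.Agent.Lib.helper38.isPSolvable_quotient _ hsol)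
      (Cfsg.Agent.Lib.helper66.pCore_quotient_pCore p))

end Cfsg.Agent.Lib.helper54
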