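import Mathlib
import Cfsg.Prelude.Def_SolvableStructure
import Cfsg.Agent.S0536
import Cfsg.Agent.Lib.helper2.Schmidt
import Cfsg.Agent.Lib.helper65.Fitting
import Cfsg.Agent.Lib.helper54.SchmidtSL
import Cfsg.Agent.Lib.helper54.SchmidtAut
import Cfsg.Agent.Lib.helper54.SchmidtAut2
import Cfsg.Agent.Lib.helper54.SchmidtAut3

/-!
# The normal Sylow subgroup of a minimal non-nilpotent group is of Schmidt type
-/

set_option autoImplicit false
set_option linter.style.haveILetI false

namespace Cfsg.Agent.Lib.helper54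

open Subgroup

/-- The normal Sylow subgroup of a minimal non-nilpotent group satisfies `SL`. -/
theorem sl_of_isMinimalNonNilpotent {X : Type*} [Group X] [Finite X] {p : ℕ} [hp : Fact p.Prime]
    (hX : Cfsg.IsMinimalNonNilpotent X) (P : Sylow p X) (hPn : (P : Subgroup X).Normal)
    (hP1 : (P : Subgroup X) ≠ ⊥) : SL p ↥(P : Subgroup X) := by
  classical
  obtain ⟨p₀, q₀, hp₀, hq₀, hpq, P₀, Q₀, hcyc, hQn, hsup, hP₀n, hcard⟩ :=
    Cfsg.Agent.S0536.structure_aux hX
  haveI : Fact p₀.Prime := ⟨hp₀⟩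
  haveI hq₀f : Fact q₀.Prime := ⟨hq₀⟩
  have hpp₀ : p ≠ p₀ := by
    rintro rfl
    apply hP₀n
    haveI : Unique (Sylow p X) := Sylow.unique_of_normal P hPn
    rw [Subsingleton.elim P₀ P]
    exact hPn
  have hpq₀ : p = q₀ := by
    have h1 : p ∣ Nat.card (P : Subgroup X) := by
      obtain ⟨n, hn⟩ := P.2.exists_card_eq
      rw [hn]
      have hn0 : n ≠ 0 := by
        rintro rfl
        rw [pow_zero] at hn
        exact hP1 (Subgroup.card_eq_one.mp hn)
      exact dvd_pow_self p hn0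
    have h2 : p ∣ Nat.card X := h1.trans (Subgroup.card_subgroup_dvd_card _)
    rw [hcard] at h2
    obtain ⟨a, ha⟩ := P₀.2.exists_card_eq
    obtain ⟨b, hb⟩ := Q₀.2.exists_card_eq
    rw [ha, hb] at h2
    rcases (Nat.Prime.dvd_mul hp.out).mp h2 with h3 | h3
    · exact absurd ((Nat.prime_dvd_prime_iff_eq hp.out hp₀).mp (hp.out.dvd_of_dvd_pow h3)) hpp₀
    · exact (Nat.prime_dvd_prime_iff_eq hp.out hq₀).mp (hp.out.dvd_of_dvd_pow h3)
  subst hpq₀
  have hQP : Q₀ = P := by
    haveI : Unique (Sylow p X) := Sylow.unique_of_normal P hPn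
    exact Subsingleton.elim Q₀ P
  subst hQP
  -- a generator of the cyclic Sylow subgroup
  obtain ⟨g₀, hg₀⟩ := hcyc.exists_generator
  obtain ⟨g, hgdef⟩ : ∃ g : X, g = (g₀ : X) := ⟨_, rfl⟩
  have hgP₀ : g ∈ (P₀ : Subgroup X) := by rw [hgdef]; exact g₀.2
  have hP₀eq : (P₀ : Subgroup X) = Subgroup.zpowers g := by
    apply le_antisymm
    · intro x hx
      obtain ⟨k, hk⟩ := Subgroup.mem_zpowers_iff.mp (hg₀ ⟨x, hx⟩)
      rw [Subgroup.mem_zpowers_iff]
      refine ⟨k, ?_⟩
      rw [hgdef]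
      have h1 := congrArg Subtype.val hk
      simpa using h1
    · rw [Subgroup.zpowers_le]
      exact hgP₀
  have hcardP₀ : Nat.card (P₀ : Subgroup X) = orderOf g := by
    rw [hP₀eq, Nat.card_zpowers]
  have hVtop : normalizer ((Q₀ : Subgroup X) : Set X) = ⊤ := normalizer_eq_top_iff.mpr hPn
  -- proper subgroups are nilpotent: elements of coprime order commute
  have key : ∀ (A B : Subgroup X), A ≤ P₀ → B ≤ Q₀ → A ≤ normalizer (B : Set X) →
      Nat.card A * Nat.card B < Nat.card X → ∀ x ∈ B, ∀ y ∈ A, x * y = y * x := by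
    intro A B hA hB hAB hlt
    have hne : A ⊔ B ≠ ⊤ := by
      intro htop
      have h3 := Cfsg.Agent.Lib.helper65.card_sup_dvd_mul hAB
      rw [htop, Subgroup.card_top] at h3
      have h4 := Nat.le_of_dvd (Nat.mul_pos Nat.card_pos Nat.card_pos) h3
      omega
    have hLnil := hX.2 _ hne
    exact Cfsg.Agent.Lib.helper2.commute_of_le_isNilpotent (A ⊔ B) hLnil hpp₀ B A le_sup_right
      le_sup_left (Q₀.2.to_le hB) (P₀.2.to_le hA)
  have hposQ : 0 < Nat.card (Q₀ : Subgroup X) := Nat.card_pos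
  -- `g ^ p₀` centralizes `P`
  have hgp : ∀ x ∈ (Q₀ : Subgroup X), x * g ^ p₀ = g ^ p₀ * x := by
    intro x hx
    have hA : Subgroup.zpowers (g ^ p₀) ≤ P₀ := by
      rw [Subgroup.zpowers_le]
      exact Subgroup.pow_mem _ hgP₀ p₀
    have hdvd : p₀ ∣ orderOf g := by
      rw [← hcardP₀]
      obtain ⟨a, ha⟩ := P₀.2.exists_card_eq
      rw [ha]
      have ha0 : a ≠ 0 := by
        rintro rfl
        rw [pow_zero] at ha
        apply hP₀n
        rw [Subgroup.card_eq_one.mp ha]
        infer_instance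
      exact dvd_pow_self p₀ ha0
    have hlt : Nat.card (Subgroup.zpowers (g ^ p₀)) * Nat.card (Q₀ : Subgroup X) < Nat.card X := by
      rw [hcard, hcardP₀, Nat.card_zpowers, orderOf_pow_of_dvd hp₀.ne_zero hdvd]
      apply Nat.mul_lt_mul_of_pos_right _ hposQ
      exact Nat.div_lt_self (orderOf_pos g) hp₀.one_lt
    exact key (Subgroup.zpowers (g ^ p₀)) Q₀ hA le_rfl (by rw [hVtop]; exact le_top) hlt x hx
      (g ^ p₀) (Subgroup.mem_zpowers _)
  -- the automorphism
  obtain ⟨α, hαdef⟩ : ∃ α : MulAut ↥(Q₀ : Subgroup X), α = MulAut.conjNormal g := ⟨_, rfl⟩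
  have hαapp : ∀ x : ↥(Q₀ : Subgroup X), ((α x : ↥(Q₀ : Subgroup X)) : X) = g * x * g⁻¹ := by
    intro x
    rw [hαdef, MulAut.conjNormal_apply]
  have hA1 : α ^ p₀ = 1 := by
    rw [hαdef, ← map_pow]
    ext x
    rw [MulAut.conjNormal_apply, MulAut.one_apply, ← hgp x x.2, mul_inv_cancel_right]
  have hA2 : α ≠ 1 := by
    intro h1
    apply hP₀n
    rw [← Subgroup.normalizer_eq_top_iff, eq_top_iff, ← hsup]
    refine sup_le Subgroup.le_normalizer ?_
    refine le_trans ?_ (Subgroup.centralizer_le_normalizer (s := ((P₀ : Subgroup X) : Set X)))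
    intro y hy
    have hyg : g * y * g⁻¹ = y := by
      have h2 := hαapp ⟨y, hy⟩
      rw [h1, MulAut.one_apply] at h2
      exact h2.symm
    have hgy : g ∈ Subgroup.centralizer ({y} : Set X) := by
      rw [Subgroup.mem_centralizer_iff]
      intro z hz
      rw [Set.mem_singleton_iff] at hz
      subst hz
      calc z * g = (g * z * g⁻¹) * g := by rw [hyg]
        _ = g * z := by group
    have hle : (P₀ : Subgroup X) ≤ Subgroup.centralizer ({y} : Set X) := by
      rw [hP₀eq, Subgroup.zpowers_le]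
      exact hgy
    rw [Subgroup.mem_centralizer_iff]
    intro x hx
    have h3 := Subgroup.mem_centralizer_iff.mp (hle hx) y (Set.mem_singleton y)
    exact h3.symm
  have hA3 : ∀ H : Subgroup ↥(Q₀ : Subgroup X), H ≠ ⊤ → (∀ x ∈ H, α x ∈ H) →
      ∀ x ∈ H, α x = x := by
    intro H hH hinv
    obtain ⟨H'', hH''⟩ : ∃ H'' : Subgroup X, H'' = H.map (Q₀ : Subgroup X).subtype := ⟨_, rfl⟩
    have hH''Q : H'' ≤ Q₀ := hH'' ▸ Subgroup.map_subtype_le _
    have hcardH : Nat.card H'' < Nat.card (Q₀ : Subgroup X) := by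
      rw [hH'', Subgroup.card_map_of_injective (Subgroup.subtype_injective _)]
      by_contra hge
      push Not at hge
      exact hH (Subgroup.eq_top_of_le_card _ hge)
    -- `α` is onto on `H`
    have hsurj : ∀ y ∈ H, ∃ x ∈ H, α x = y := by
      let f : H → H := fun x => ⟨α x, hinv x x.2⟩
      have hfi : Function.Injective f := by
        intro a b hab
        have h1 : α a = α b := congrArg Subtype.val hab
        exact Subtype.ext (α.injective h1)
      have hfs := Finite.injective_iff_surjective.mp hfi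
      intro y hy
      obtain ⟨x, hx⟩ := hfs ⟨y, hy⟩
      exact ⟨x, x.2, congrArg Subtype.val hx⟩
    have hgN : g ∈ normalizer (H'' : Set X) := by
      rw [mem_normalizer_iff]
      intro n
      constructor
      · intro hn
        rw [hH''] at hn ⊢
        obtain ⟨h, hh, rfl⟩ := hn
        refine ⟨α h, hinv h hh, ?_⟩
        exact hαapp h
      · intro hn
        rw [hH''] at hn ⊢
        obtain ⟨h, hh, hhn⟩ := hn
        obtain ⟨x, hx, rfl⟩ := hsurj h hh
        refine ⟨x, hx, ?_⟩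
        have h1 : ((α x : ↥(Q₀ : Subgroup X)) : X) = g * n * g⁻¹ := hhn
        rw [hαapp] at h1
        have h2 : g * (x : X) = g * n := mul_right_cancel h1
        exact mul_left_cancel h2
    have hA : Subgroup.zpowers g ≤ P₀ := by rw [hP₀eq]
    have hAN : Subgroup.zpowers g ≤ normalizer (H'' : Set X) := by
      rw [Subgroup.zpowers_le]
      exact hgN
    have hlt : Nat.card (Subgroup.zpowers g) * Nat.card H'' < Nat.card X := by
      rw [hcard, hcardP₀, Nat.card_zpowers]
      exact Nat.mul_lt_mul_of_pos_left hcardH (orderOf_pos g)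
    have hcomm := key (Subgroup.zpowers g) H'' hA hH''Q hAN hlt
    intro x hx
    apply Subtype.ext
    rw [hαapp]
    have h1 := hcomm (x : X) (by rw [hH'']; exact ⟨x, hx, rfl⟩) g (Subgroup.mem_zpowers g)
    rw [← h1, mul_inv_cancel_right]
  exact AutMin.sl ⟨hp₀, hpp₀.symm, Q₀.2, hA1, hA2, hA3⟩

end Cfsg.Agent.Lib.helper54
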