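import Mathlib
import Cfsg.Prelude.Def_Classical
import Cfsg.Prelude.Def_GeometricClasses
import Cfsg.Agent.Lib.helper49.WittIso

/-! # S5977 / S5978 block [A], piece RHOJ (racer copy): the reflection in `e` has determinant `-1`
and conjugating `κ'` by it keeps the anticommutation with `x` -/

set_option autoImplicit false

namespace Cfsg.Agent.Lib.helper59.Sfk

open Matrix Cfsg.Geo
open Cfsg.Agent.Lib.helper49 (detHom spinorSign)

/-- RHOJ (L), racer copy. -/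
theorem h54_sfk_rho_neg {F : Type*} [Field F] [Fintype F] {ι : Type} [Fintype ι] [DecidableEq ι]
    (h2 : (2 : F) ≠ 0) (Q : QuadraticForm F (ι → F))
    (hQ : (QuadraticMap.polarBilin Q).Nondegenerate)
    (x : GL ι F) (hx : x ∈ Cfsg.isometryGroup F (⇑Q))
    (hxx : (x : Matrix ι ι F) * (x : Matrix ι ι F) = -1) (κ' : Matrix ι ι F)
    (hsa : ∀ u v : ι → F, QuadraticMap.polar (⇑Q) (κ' *ᵥ u) v = QuadraticMap.polar (⇑Q) u (κ' *ᵥ v))
    (hanti : (x : Matrix ι ι F) * κ' = -(κ' * (x : Matrix ι ι F)))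
    (e : ι → F) (he : Q e ≠ 0) (α β : F)
    (hκe : κ' *ᵥ e = α • e + β • ((x : Matrix ι ι F) *ᵥ e)) :
    ∃ r : ↥(Cfsg.isometryGroup F (⇑Q)), detHom (⇑Q) r = -1 ∧
      (x : Matrix ι ι F) * (((r : GL ι F) : Matrix ι ι F) * κ' * (((r : GL ι F)⁻¹ : GL ι F) : Matrix ι ι F)) =
        -((((r : GL ι F) : Matrix ι ι F) * κ' * (((r : GL ι F)⁻¹ : GL ι F) : Matrix ι ι F)) *
          (x : Matrix ι ι F)) := by
  classical
  refine ⟨Cfsg.Agent.Lib.helper49.reflG Q e he, Cfsg.Agent.Lib.helper49.detHom_reflG Q e he, ?_⟩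
  set X : Matrix ι ι F := (x : Matrix ι ι F) with hX
  set R : Matrix ι ι F := Cfsg.reflectionMatrix (⇑Q) e with hR
  have hrval : ((Cfsg.Agent.Lib.helper49.reflG Q e he : GL ι F) : Matrix ι ι F) = R :=
    Cfsg.Agent.Lib.helper49.reflG_val Q e he
  have hrinv : (((Cfsg.Agent.Lib.helper49.reflG Q e he : GL ι F)⁻¹ : GL ι F) : Matrix ι ι F) = R := by
    have h1 : (Cfsg.Agent.Lib.helper49.reflG Q e he : GL ι F) *
        (Cfsg.Agent.Lib.helper49.reflG Q e he : GL ι F) = 1 := by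
      have := congrArg Subtype.val (Cfsg.Agent.Lib.helper49.reflG_mul_self Q e he)
      simpa using this
    rw [inv_eq_of_mul_eq_one_left h1]
    exact hrval
  rw [hrval, hrinv]
  -- the isometry x
  have hiso : ∀ u v : ι → F, QuadraticMap.polar (⇑Q) (X *ᵥ u) (X *ᵥ v) = QuadraticMap.polar (⇑Q) u v :=
    fun u v => Cfsg.Agent.Lib.helper49.isometry_polar Q ⟨x, hx⟩ u v
  have hXX : ∀ v : ι → F, X *ᵥ (X *ᵥ v) = -v := by
    intro v
    rw [Matrix.mulVec_mulVec, hxx, Matrix.neg_mulVec, Matrix.one_mulVec]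
  have hskew : ∀ u v : ι → F, QuadraticMap.polar (⇑Q) (X *ᵥ u) v = -QuadraticMap.polar (⇑Q) u (X *ᵥ v) := by
    intro u v
    have h1 := hiso u (X *ᵥ v)
    rw [hXX, QuadraticMap.polar_neg_right] at h1
    rw [← h1, neg_neg]
  have hb : QuadraticMap.polar (⇑Q) e (X *ᵥ e) = 0 := by
    have h1 := hskew e e
    rw [QuadraticMap.polar_comm] at h1
    have h3 : (2 : F) * QuadraticMap.polar (⇑Q) e (X *ᵥ e) = 0 := by linear_combination h1
    rcases mul_eq_zero.mp h3 with h4 | h4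
    · exact absurd h4 h2
    · exact h4
  have hRv : ∀ w : ι → F, R *ᵥ w = w - ((Q e)⁻¹ * QuadraticMap.polar (⇑Q) e w) • e :=
    fun w => Cfsg.Agent.Lib.helper49.refl_mulVec Q e w
  have hκw : ∀ w : ι → F, QuadraticMap.polar (⇑Q) e (κ' *ᵥ w) =
      α * QuadraticMap.polar (⇑Q) e w + β * QuadraticMap.polar (⇑Q) (X *ᵥ e) w := by
    intro w
    rw [← hsa, hκe, QuadraticMap.polar_add_left, QuadraticMap.polar_smul_left,
      QuadraticMap.polar_smul_left]
    simp only [smul_eq_mul]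
  have key : ∀ w : ι → F, R *ᵥ (κ' *ᵥ (R *ᵥ w)) = κ' *ᵥ w -
      ((Q e)⁻¹ * β) • (QuadraticMap.polar (⇑Q) (X *ᵥ e) w • e +
        QuadraticMap.polar (⇑Q) e w • (X *ᵥ e)) := by
    intro w
    rw [hRv w, Matrix.mulVec_sub, Matrix.mulVec_smul, hκe, hRv]
    have hp : QuadraticMap.polar (⇑Q) e (κ' *ᵥ w - ((Q e)⁻¹ * QuadraticMap.polar (⇑Q) e w) •
        (α • e + β • (X *ᵥ e))) =
        β * QuadraticMap.polar (⇑Q) (X *ᵥ e) w - α * QuadraticMap.polar (⇑Q) e w := by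
      rw [QuadraticMap.polar_sub_right, QuadraticMap.polar_smul_right, QuadraticMap.polar_add_right,
        QuadraticMap.polar_smul_right, QuadraticMap.polar_smul_right, QuadraticMap.polar_self, hb,
        hκw]
      simp only [smul_eq_mul, nsmul_eq_mul, Nat.cast_ofNat]
      field_simp
      ring
    rw [hp]
    ext i
    simp only [Pi.sub_apply, Pi.smul_apply, Pi.add_apply, smul_eq_mul]
    field_simp
    ring
  apply Matrix.toLin'.injective
  apply LinearMap.ext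
  intro v
  simp only [Matrix.toLin'_apply]
  rw [← Matrix.mulVec_mulVec, ← Matrix.mulVec_mulVec, ← Matrix.mulVec_mulVec, Matrix.neg_mulVec,
    ← Matrix.mulVec_mulVec, ← Matrix.mulVec_mulVec, ← Matrix.mulVec_mulVec, key, key]
  have h5 : QuadraticMap.polar (⇑Q) (X *ᵥ e) (X *ᵥ v) = QuadraticMap.polar (⇑Q) e v := hiso e v
  have h6 : QuadraticMap.polar (⇑Q) e (X *ᵥ v) = -QuadraticMap.polar (⇑Q) (X *ᵥ e) v := by
    rw [hskew e v, neg_neg]
  have h7 : X *ᵥ (κ' *ᵥ v) = -(κ' *ᵥ (X *ᵥ v)) := by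
    rw [Matrix.mulVec_mulVec, Matrix.mulVec_mulVec, hanti, Matrix.neg_mulVec]
  rw [h5, h6, Matrix.mulVec_sub, Matrix.mulVec_smul, Matrix.mulVec_add, Matrix.mulVec_smul,
    Matrix.mulVec_smul, hXX, h7]
  ext i
  simp only [Pi.sub_apply, Pi.smul_apply, Pi.add_apply, Pi.neg_apply, smul_eq_mul]
  ring

end Cfsg.Agent.Lib.helper59.Sfk
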