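import Mathlib
import Cfsg.Prelude.Def_Classical
import Cfsg.Prelude.Def_GeometricClasses
import Cfsg.Agent.Lib.helper49.WittIso
import Cfsg.Agent.Lib.helper53.SfoBINREP

/-! # S5977 / S5978 block [A], piece ROTJ (racer copy): a rotation of the plane `<e, x e>` commuting
with `x`, of determinant `1` and spinor sign `-1` -/

set_option autoImplicit false

namespace Cfsg.Agent.Lib.helper59.Sfk

open Matrix Cfsg.Geo
open Cfsg.Agent.Lib.helper49 (detHom spinorSign)

/-- ROTJ (L), racer copy. -/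
theorem h54_sfk_rot_neg {F : Type*} [Field F] [Fintype F] {ι : Type} [Fintype ι] [DecidableEq ι]
    (h2 : (2 : F) ≠ 0) (Q : QuadraticForm F (ι → F))
    (hQ : (QuadraticMap.polarBilin Q).Nondegenerate)
    (x : GL ι F) (hx : x ∈ Cfsg.isometryGroup F (⇑Q))
    (hxx : (x : Matrix ι ι F) * (x : Matrix ι ι F) = -1) (e : ι → F) (he : Q e ≠ 0) :
    ∃ r : ↥(Cfsg.isometryGroup F (⇑Q)),
      ((r : GL ι F) : Matrix ι ι F) * (x : Matrix ι ι F) =
        (x : Matrix ι ι F) * ((r : GL ι F) : Matrix ι ι F) ∧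
      detHom (⇑Q) r = 1 ∧ spinorSign (⇑Q) r = -1 := by
  classical
  set X : Matrix ι ι F := (x : Matrix ι ι F) with hX
  -- the isometry x
  have hiso : ∀ u v : ι → F, QuadraticMap.polar (⇑Q) (X *ᵥ u) (X *ᵥ v) = QuadraticMap.polar (⇑Q) u v :=
    fun u v => Cfsg.Agent.Lib.helper49.isometry_polar Q ⟨x, hx⟩ u v
  have hQX : ∀ v : ι → F, Q (X *ᵥ v) = Q v := fun v =>
    Cfsg.Agent.Lib.helper49.isometry_apply (⇑Q) ⟨x, hx⟩ v
  have hXX : ∀ v : ι → F, X *ᵥ (X *ᵥ v) = -v := by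
    intro v
    rw [Matrix.mulVec_mulVec, hxx, Matrix.neg_mulVec, Matrix.one_mulVec]
  have hskew : ∀ u v : ι → F, QuadraticMap.polar (⇑Q) (X *ᵥ u) v = -QuadraticMap.polar (⇑Q) u (X *ᵥ v) := by
    intro u v
    have h1 := hiso u (X *ᵥ v)
    rw [hXX, QuadraticMap.polar_neg_right] at h1
    rw [← h1, neg_neg]
  have hb : QuadraticMap.polar (⇑Q) e (X *ᵥ e) = 0 := by
    have h1 := hskew e e
    rw [QuadraticMap.polar_comm] at h1
    have h3 : (2 : F) * QuadraticMap.polar (⇑Q) e (X *ᵥ e) = 0 := by linear_combination h1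
    rcases mul_eq_zero.mp h3 with h4 | h4
    · exact absurd h4 h2
    · exact h4
  -- a nonsquare which is a sum of two squares
  have hchar : ringChar F ≠ 2 := by
    intro h
    apply h2
    have := CharP.cast_eq_zero F (ringChar F)
    rw [h] at this
    exact_mod_cast this
  obtain ⟨ν, hν⟩ := FiniteField.exists_nonsquare hchar
  obtain ⟨s, t, hst⟩ := Cfsg.Agent.Lib.helper24.sfo_bin_rep h2 (1 : F) 1 ν one_ne_zero one_ne_zero
  have hνeq : ν = s ^ 2 + t ^ 2 := by linear_combination -hst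
  subst hνeq
  have hν0 : s ^ 2 + t ^ 2 ≠ 0 := by
    intro h0
    apply hν
    rw [h0]
    exact ⟨0, by simp⟩
  set u' : ι → F := s • e + t • (X *ᵥ e) with hu'def
  have hQu' : Q u' = (s ^ 2 + t ^ 2) * Q e := by
    rw [hu'def, QuadraticMap.map_add Q, QuadraticMap.map_smul, QuadraticMap.map_smul, hQX,
      QuadraticMap.polar_smul_left, QuadraticMap.polar_smul_right, hb]
    simp only [smul_eq_mul]
    ring
  have hu'0 : Q u' ≠ 0 := by
    rw [hQu']
    exact mul_ne_zero hν0 he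
  refine ⟨Cfsg.Agent.Lib.helper49.reflG Q e he * Cfsg.Agent.Lib.helper49.reflG Q u' hu'0, ?_, ?_, ?_⟩
  · -- commutation
    have hmat : (((Cfsg.Agent.Lib.helper49.reflG Q e he * Cfsg.Agent.Lib.helper49.reflG Q u' hu'0 :
        ↥(Cfsg.isometryGroup F (⇑Q))) : GL ι F) : Matrix ι ι F) =
        Cfsg.reflectionMatrix (⇑Q) e * Cfsg.reflectionMatrix (⇑Q) u' := by
      rw [Subgroup.coe_mul, Units.val_mul, Cfsg.Agent.Lib.helper49.reflG_val,
        Cfsg.Agent.Lib.helper49.reflG_val]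
    rw [hmat]
    have hpu : ∀ w : ι → F, QuadraticMap.polar (⇑Q) u' w =
        s * QuadraticMap.polar (⇑Q) e w + t * QuadraticMap.polar (⇑Q) (X *ᵥ e) w := by
      intro w
      rw [hu'def, QuadraticMap.polar_add_left, QuadraticMap.polar_smul_left,
        QuadraticMap.polar_smul_left]
      simp only [smul_eq_mul]
    have key : ∀ w : ι → F, Cfsg.reflectionMatrix (⇑Q) e *ᵥ (Cfsg.reflectionMatrix (⇑Q) u' *ᵥ w) =
        w - (((s ^ 2 + t ^ 2) * Q e)⁻¹ * (s * QuadraticMap.polar (⇑Q) e w +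
            t * QuadraticMap.polar (⇑Q) (X *ᵥ e) w)) • (s • e + t • (X *ᵥ e)) -
          ((Q e)⁻¹ * (QuadraticMap.polar (⇑Q) e w - 2 * s * (s * QuadraticMap.polar (⇑Q) e w +
            t * QuadraticMap.polar (⇑Q) (X *ᵥ e) w) / (s ^ 2 + t ^ 2))) • e := by
      intro w
      rw [Cfsg.Agent.Lib.helper49.refl_mulVec Q u' w, Cfsg.Agent.Lib.helper49.refl_mulVec, hpu, hQu']
      have hp : QuadraticMap.polar (⇑Q) e (w - (((s ^ 2 + t ^ 2) * Q e)⁻¹ *
          (s * QuadraticMap.polar (⇑Q) e w + t * QuadraticMap.polar (⇑Q) (X *ᵥ e) w)) • u') =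
          QuadraticMap.polar (⇑Q) e w - 2 * s * (s * QuadraticMap.polar (⇑Q) e w +
            t * QuadraticMap.polar (⇑Q) (X *ᵥ e) w) / (s ^ 2 + t ^ 2) := by
        rw [QuadraticMap.polar_sub_right, QuadraticMap.polar_smul_right, hu'def,
          QuadraticMap.polar_add_right, QuadraticMap.polar_smul_right, QuadraticMap.polar_smul_right,
          QuadraticMap.polar_self, hb]
        simp only [smul_eq_mul, nsmul_eq_mul, Nat.cast_ofNat]
        field_simp
        ring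
      rw [hp]
    apply Matrix.toLin'.injective
    apply LinearMap.ext
    intro v
    simp only [Matrix.toLin'_apply]
    rw [← Matrix.mulVec_mulVec, ← Matrix.mulVec_mulVec, ← Matrix.mulVec_mulVec,
      ← Matrix.mulVec_mulVec, key, key]
    have h5 : QuadraticMap.polar (⇑Q) (X *ᵥ e) (X *ᵥ v) = QuadraticMap.polar (⇑Q) e v := hiso e v
    have h6 : QuadraticMap.polar (⇑Q) e (X *ᵥ v) = -QuadraticMap.polar (⇑Q) (X *ᵥ e) v := by
      rw [hskew e v, neg_neg]
    rw [h5, h6, Matrix.mulVec_sub, Matrix.mulVec_sub, Matrix.mulVec_smul, Matrix.mulVec_smul,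
      Matrix.mulVec_add, Matrix.mulVec_smul, Matrix.mulVec_smul, hXX]
    ext i
    simp only [Pi.sub_apply, Pi.smul_apply, Pi.add_apply, Pi.neg_apply, smul_eq_mul]
    field_simp
    ring
  · rw [map_mul, Cfsg.Agent.Lib.helper49.detHom_reflG, Cfsg.Agent.Lib.helper49.detHom_reflG]
    simp
  · rw [map_mul]
    have hiff := Cfsg.Agent.Lib.helper49.isSquare_mul_iff h2 hν0 he
    rw [← hQu'] at hiff
    by_cases hsq : IsSquare (Q e)
    · have hnsq : ¬ IsSquare (Q u') := fun h => hν ((hiff.mp h).mpr hsq)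
      rw [(Cfsg.Agent.Lib.helper49.spinorSign_refl h2 Q e he).1 hsq,
        (Cfsg.Agent.Lib.helper49.spinorSign_refl h2 Q u' hu'0).2 hnsq]
      simp
    · have hsq' : IsSquare (Q u') := hiff.mpr ⟨fun h => absurd h hν, fun h => absurd h hsq⟩
      rw [(Cfsg.Agent.Lib.helper49.spinorSign_refl h2 Q e he).2 hsq,
        (Cfsg.Agent.Lib.helper49.spinorSign_refl h2 Q u' hu'0).1 hsq']
      simp

end Cfsg.Agent.Lib.helper59.Sfk
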