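import Mathlib
import Cfsg.Agent.Lib.helper24.SfoDefs

/-!
# S5981 piece CNTDE (racer copy by helper54): the number of solutions of a diagonal quadratic
equation in an even number of variables
-/

set_option autoImplicit false

namespace Cfsg.Agent.Lib.helper24

open Module Matrix Cfsg.Geo

/-- the equivalence splitting off the first two coordinates -/
def h54_split (F : Type*) (m : ℕ) : ((Fin m → F) × (F × F)) ≃ (Fin (m + 2) → F) where
  toFun p := Fin.cons p.2.1 (Fin.cons p.2.2 p.1)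
  invFun x := (fun j => x j.succ.succ, (x 0, x 1))
  left_inv p := by
    rcases p with ⟨y, u, v⟩
    simp
  right_inv x := by
    funext j
    refine Fin.cases ?_ (fun j => ?_) j
    · simp
    · refine Fin.cases ?_ (fun j => ?_) j
      · simp
      · simp

theorem h54_sum_split {F : Type*} [Field F] (m : ℕ) (d : Fin (m + 2) → F) (y : Fin m → F)
    (u v : F) :
    ∑ j, d j * (h54_split F m (y, (u, v))) j ^ 2 =
      d 0 * u ^ 2 + d 1 * v ^ 2 + ∑ j : Fin m, d j.succ.succ * y j ^ 2 := by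
  rw [Fin.sum_univ_succ, Fin.sum_univ_succ]
  simp [h54_split]
  ring

theorem h54_two_step {F : Type*} [Field F] [Fintype F] [DecidableEq F]
    (a b : F) (e : ℤ)
    (he1 : ∀ t : F, t ≠ 0 →
        ((Finset.univ.filter (fun p : F × F => a * p.1 ^ 2 + b * p.2 ^ 2 = t)).card : ℤ) =
          (Fintype.card F : ℤ) - e)
    (he0 : ((Finset.univ.filter (fun p : F × F => a * p.1 ^ 2 + b * p.2 ^ 2 = 0)).card : ℤ) =
        (Fintype.card F : ℤ) + ((Fintype.card F : ℤ) - 1) * e)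
    (m : ℕ) (d : Fin (m + 2) → F) (hd0 : d 0 = a) (hd1 : d 1 = b) (c : F) :
    ((Finset.univ.filter (fun x : Fin (m + 2) → F => ∑ j, d j * x j ^ 2 = c)).card : ℤ) =
      ((Fintype.card F : ℤ) - e) * (Fintype.card F : ℤ) ^ m +
        (Fintype.card F : ℤ) * e *
          ((Finset.univ.filter (fun y : Fin m → F => ∑ j, d j.succ.succ * y j ^ 2 = c)).card : ℤ) := by
  classical
  have h1 : ((Finset.univ.filter (fun x : Fin (m + 2) → F => ∑ j, d j * x j ^ 2 = c)).card : ℤ)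
      = ∑ x : Fin (m + 2) → F, (if ∑ j, d j * x j ^ 2 = c then (1 : ℤ) else 0) := by
    rw [Finset.card_filter]; push_cast; rfl
  rw [h1, ← Equiv.sum_comp (h54_split F m), Fintype.sum_prod_type]
  have h2 : ∀ y : Fin m → F,
      ∑ p : F × F, (if ∑ j, d j * (h54_split F m (y, p)) j ^ 2 = c then (1 : ℤ) else 0)
      = ((Fintype.card F : ℤ) - e) +
        (if ∑ j, d j.succ.succ * y j ^ 2 = c then (Fintype.card F : ℤ) * e else 0) := by
    intro y
    have h3 : ∀ p : F × F, (∑ j, d j * (h54_split F m (y, p)) j ^ 2 = c) ↔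
        (a * p.1 ^ 2 + b * p.2 ^ 2 = c - ∑ j, d j.succ.succ * y j ^ 2) := by
      rintro ⟨u, v⟩
      rw [h54_sum_split, hd0, hd1]
      constructor
      · intro h; rw [← h]; ring
      · intro h; rw [h]; ring
    have h4 : ∑ p : F × F, (if ∑ j, d j * (h54_split F m (y, p)) j ^ 2 = c then (1 : ℤ) else 0)
        = ((Finset.univ.filter (fun p : F × F =>
            a * p.1 ^ 2 + b * p.2 ^ 2 = c - ∑ j, d j.succ.succ * y j ^ 2)).card : ℤ) := by
      rw [Finset.card_filter]; push_cast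
      refine Finset.sum_congr rfl fun p _ => ?_
      by_cases hp : a * p.1 ^ 2 + b * p.2 ^ 2 = c - ∑ j, d j.succ.succ * y j ^ 2
      · rw [if_pos hp, if_pos ((h3 p).mpr hp)]
      · rw [if_neg hp, if_neg (fun h => hp ((h3 p).mp h))]
    rw [h4]
    by_cases hS : ∑ j, d j.succ.succ * y j ^ 2 = c
    · rw [if_pos hS, hS, sub_self, he0]; ring
    · rw [if_neg hS, he1 _ (sub_ne_zero.mpr (Ne.symm hS))]; ring
  rw [Finset.sum_congr rfl (fun y _ => h2 y), Finset.sum_add_distrib, Finset.sum_const,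
    Finset.card_univ, Finset.sum_ite, Finset.sum_const, Finset.sum_const_zero, add_zero,
    Fintype.card_fun, Fintype.card_fin]
  simp only [nsmul_eq_mul]
  push_cast
  ring

theorem h54_count_diag_even_aux {F : Type*} [Field F] [Fintype F] [DecidableEq F]
    (hBIN : ∀ a b : F, a ≠ 0 → b ≠ 0 → ∃ e : ℤ, (e = 1 ∨ e = -1) ∧
      (∀ t : F, t ≠ 0 →
        ((Finset.univ.filter (fun p : F × F => a * p.1 ^ 2 + b * p.2 ^ 2 = t)).card : ℤ) =
          (Fintype.card F : ℤ) - e) ∧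
      ((Finset.univ.filter (fun p : F × F => a * p.1 ^ 2 + b * p.2 ^ 2 = 0)).card : ℤ) =
        (Fintype.card F : ℤ) + ((Fintype.card F : ℤ) - 1) * e)
    (k : ℕ) : ∀ (m : ℕ) (_ : m = 2 * k) (d : Fin m → F) (_ : ∀ j, d j ≠ 0),
    ∃ ε : ℤ, (ε = 1 ∨ ε = -1) ∧ (k = 0 → ε = 1) ∧ ∀ c : F, c ≠ 0 →
      ((Finset.univ.filter (fun x : Fin m → F => ∑ j, d j * x j ^ 2 = c)).card : ℤ) =
        (Fintype.card F : ℤ) ^ (k - 1) * ((Fintype.card F : ℤ) ^ k - ε) := by
  induction k with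
  | zero =>
    intro m hm d hd
    obtain rfl : m = 0 := by omega
    refine ⟨1, Or.inl rfl, fun _ => rfl, fun c hc => ?_⟩
    have hemp : (Finset.univ.filter (fun x : Fin 0 → F => ∑ j, d j * x j ^ 2 = c)) = ∅ := by
      refine Finset.filter_eq_empty_iff.mpr ?_
      intro x _ h
      rw [Fin.sum_univ_zero] at h
      exact hc h.symm
    rw [hemp]
    simp
  | succ k ih =>
    intro m hm d hd
    obtain ⟨m', rfl⟩ : ∃ m', m = m' + 2 := ⟨2 * k, by omega⟩
    have hm' : m' = 2 * k := by omega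
    obtain ⟨e, he, he1, he0⟩ := hBIN (d 0) (d 1) (hd 0) (hd 1)
    obtain ⟨ε, hε, hε0, hε1⟩ := ih m' hm' (fun j => d j.succ.succ) (fun j => hd _)
    refine ⟨e * ε, ?_, fun h => absurd h (Nat.succ_ne_zero k), fun c hc => ?_⟩
    · rcases he with rfl | rfl <;> rcases hε with rfl | rfl <;> simp
    · rw [h54_two_step (d 0) (d 1) e he1 he0 m' d rfl rfl c, hε1 c hc]
      subst hm'
      rcases Nat.eq_zero_or_pos k with rfl | hk
      · rw [hε0 rfl]
        simp
      · obtain ⟨j, rfl⟩ : ∃ j, k = j + 1 := ⟨k - 1, by omega⟩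
        have e1 : j + 1 - 1 = j := rfl
        have e2 : j + 1 + 1 - 1 = j + 1 := rfl
        rw [e1, e2]
        ring

/-- CNTDE with the statement of BINCNT as a hypothesis. -/
theorem h54_sfo_count_diag_even_core {F : Type*} [Field F] [Fintype F] [DecidableEq F]
    (hBIN : ∀ a b : F, a ≠ 0 → b ≠ 0 → ∃ e : ℤ, (e = 1 ∨ e = -1) ∧
      (∀ t : F, t ≠ 0 →
        ((Finset.univ.filter (fun p : F × F => a * p.1 ^ 2 + b * p.2 ^ 2 = t)).card : ℤ) =
          (Fintype.card F : ℤ) - e) ∧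
      ((Finset.univ.filter (fun p : F × F => a * p.1 ^ 2 + b * p.2 ^ 2 = 0)).card : ℤ) =
        (Fintype.card F : ℤ) + ((Fintype.card F : ℤ) - 1) * e)
    (k : ℕ) (d : Fin (2 * k) → F) (hd : ∀ j, d j ≠ 0) :
    ∃ ε : ℤ, (ε = 1 ∨ ε = -1) ∧ ∀ c : F, c ≠ 0 →
      ((Finset.univ.filter (fun x : Fin (2 * k) → F => ∑ j, d j * x j ^ 2 = c)).card : ℤ) =
        (Fintype.card F : ℤ) ^ (k - 1) * ((Fintype.card F : ℤ) ^ k - ε) := by
  obtain ⟨ε, hε, -, h⟩ := h54_count_diag_even_aux hBIN k (2 * k) rfl d hd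
  exact ⟨ε, hε, h⟩

end Cfsg.Agent.Lib.helper24
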