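import Mathlib

/-!
# S1383 piece X5: a free action of a finite group on a finite set
-/

set_option autoImplicit false

namespace Cfsg.Agent.Lib.helper54.TV

/-- **X5** (pure). A free action of a finite group on a finite set: `|K|` divides `|X|`. -/
theorem card_dvd_of_free {K X : Type*} [Group K] [Finite K] [MulAction K X] [Finite X]
    (h : ∀ (k : K) (x : X), k • x = x → k = 1) : Nat.card K ∣ Nat.card X := by
  classical
  have : Fintype (MulAction.orbitRel.Quotient K X) := Fintype.ofFinite _
  rw [Nat.card_congr (MulAction.selfEquivSigmaOrbits K X), Nat.card_sigma]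
  apply Finset.dvd_sum
  intro ω _
  have hst : MulAction.stabilizer K (Quotient.out ω) = ⊥ := by
    rw [eq_bot_iff]
    intro k hk
    rw [Subgroup.mem_bot]
    exact h k _ (MulAction.mem_stabilizer_iff.mp hk)
  have h1 : Nat.card (MulAction.orbit K (Quotient.out ω)) =
      (MulAction.stabilizer K (Quotient.out ω)).index :=
    Nat.card_congr (MulAction.orbitEquivQuotientStabilizer K _)
  rw [h1, hst, Subgroup.index_bot]

end Cfsg.Agent.Lib.helper54.TV
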