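import Mathlib
import Cfsg.Prelude.Def_OddOrderLocal
import Cfsg.Agent.Lib.helper54.TV_X5
import Cfsg.Agent.Lib.helper29.TV_X4
import Cfsg.Agent.Lib.helper49.TV_X2
import Cfsg.Agent.Lib.helper70.TV_X3

/-!
# S1383 piece XA: a cyclic odd `p'`-group acting on a non-abelian group of order `p ^ 3`
-/

set_option autoImplicit false

namespace Cfsg.Agent.Lib.helper54.TV

open Cfsg Subgroup

variable {G : Type*} [Group G]

/-- **XA** (pure; assembly of X2-X5). `P` non-abelian of order `p ^ 3`, `K` a cyclic group of odd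
order prime to `p` normalizing `P`, centralizing `Z(P)`, with `C_P(k) ≤ Z(P)` for all `k ∈ K#`.
Then `|K|` divides `p - 1` or `p + 1`. -/
theorem p3_lemma [Finite G] (p : ℕ) [Fact p.Prime] (P K : Subgroup G) (hP : Nat.card P = p ^ 3)
    (hPna : ¬ IsMulCommutative ↥P) (hKP : K ≤ normalizer (P : Set G)) (hKc : IsCyclic ↥K)
    (hKodd : Odd (Nat.card K)) (hcop : (Nat.card K).Coprime p)
    (hfix : ∀ k ∈ K, k ≠ 1 → P ⊓ centralizer ({k} : Set G) ≤ P ⊓ centralizer (P : Set G))
    (hKZ : ∀ k ∈ K, ∀ z ∈ P ⊓ centralizer (P : Set G), k * z = z * k) :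
    Nat.card K ∣ p - 1 ∨ Nat.card K ∣ p + 1 := by
  have hpp : p.Prime := Fact.out
  -- an element of `K` centralizing `P` is trivial
  have hcent : ∀ k ∈ K, (∀ x ∈ P, k * x = x * k) → k = 1 := by
    intro k hk hc
    by_contra hk1
    apply hPna
    have h1 : P ≤ P ⊓ centralizer (P : Set G) := by
      refine le_trans ?_ (hfix k hk hk1)
      intro x hx
      refine Subgroup.mem_inf.mpr ⟨hx, ?_⟩
      rw [mem_centralizer_iff]
      intro y hy
      rw [Set.mem_singleton_iff.mp hy]
      exact hc x hx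
    refine ⟨⟨fun a b => ?_⟩⟩
    apply Subtype.ext
    have h2 : (b : G) ∈ centralizer (P : Set G) := (h1 b.2).2
    rw [mem_centralizer_iff] at h2
    exact h2 a a.2
  have hKcomm : ∀ a ∈ K, ∀ b ∈ K, a * b = b * a := by
    intro a ha b hb
    let _ : CommGroup ↥K := IsCyclic.commGroup
    have := mul_comm (⟨a, ha⟩ : ↥K) ⟨b, hb⟩
    exact congrArg Subtype.val this
  obtain ⟨g, hg⟩ := hKc.exists_generator
  have hgo : orderOf (g : G) = Nat.card K := by
    rw [Subgroup.orderOf_coe]
    exact orderOf_eq_card_of_forall_mem_zpowers hg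
  by_cases hA : ∃ h ∈ K, h ≠ 1 ∧ ∃ A : Subgroup G, P ⊓ centralizer (P : Set G) ≤ A ∧ A ≤ P ∧
      Nat.card A = p ^ 2 ∧ h ∈ normalizer (A : Set G)
  · left
    obtain ⟨h, hhK, hh1, A, hZA, hAP, hAc, hhA⟩ := hA
    have hho : orderOf h ∣ Nat.card K := Subgroup.orderOf_dvd_natCard K hhK
    have hgA : (g : G) ∈ normalizer (A : Set G) :=
      Cfsg.Agent.Lib.helper70.TV.p3_eigen p P A hP hPna hZA hAP hAc h (g : G) (hKP hhK) (hKP g.2) hhA
        (hKcomm h hhK g g.2) (hKZ h hhK) (Odd.of_dvd_nat hKodd hho)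
        (Nat.Coprime.coprime_dvd_left hho hcop) (fun hc => hh1 (hcent h hhK hc))
    have hstab := Cfsg.Agent.Lib.helper49.TV.p3_stab p P A hP hPna hZA hAP hAc (g : G) (hKP g.2) hgA (hKZ g g.2)
      (by rw [hgo]; exact hcop)
    have h1 : (g : G) ^ (p - 1) = 1 := hcent _ (K.pow_mem g.2 _) hstab
    rw [← hgo]
    exact orderOf_dvd_of_pow_eq_one h1
  · right
    push Not at hA
    have hfree : ∀ k ∈ K, ∀ A : Subgroup G, P ⊓ centralizer (P : Set G) ≤ A → A ≤ P →
        Nat.card A = p ^ 2 → A.map (MulAut.conj k).toMonoidHom = A → k = 1 := by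
      intro k hk A hZA hAP hAc hmap
      by_contra hk1
      apply hA k hk hk1 A hZA hAP hAc
      rw [mem_normalizer_iff]
      intro a
      constructor
      · intro ha
        rw [← hmap]
        exact ⟨a, ha, rfl⟩
      · intro ha
        rw [← hmap] at ha
        obtain ⟨b, hb, hb'⟩ := ha
        have : b = a := by
          have h2 : k * b * k⁻¹ = k * a * k⁻¹ := hb'
          have h3 : b = k⁻¹ * (k * b * k⁻¹) * k := by group
          rw [h3, h2]; group
        rwa [← this]
    let 𝓐 := {A : Subgroup G // P ⊓ centralizer (P : Set G) ≤ A ∧ A ≤ P ∧ Nat.card A = p ^ 2}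
    let act : MulAction ↥K 𝓐 :=
      { smul := fun k A => ⟨A.1.map (MulAut.conj (k : G)).toMonoidHom, by
          obtain ⟨A, hZA, hAP, hAc⟩ := A
          refine ⟨?_, ?_, ?_⟩
          · intro z hz
            refine ⟨z, hZA hz, ?_⟩
            have := hKZ (k : G) k.2 z hz
            change (k : G) * z * (k : G)⁻¹ = z
            rw [this, mul_inv_cancel_right]
          · rintro _ ⟨a, ha, rfl⟩
            exact (mem_normalizer_iff.mp (hKP k.2) a).mp (hAP ha)
          · exact (Subgroup.card_map_of_injective (MulAut.conj (k : G)).injective).trans hAc⟩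
        one_smul := by
          rintro ⟨A, hA⟩
          apply Subtype.ext
          change A.map (MulAut.conj ((1 : ↥K) : G)).toMonoidHom = A
          ext x
          simp
        mul_smul := by
          rintro k₁ k₂ ⟨A, hA⟩
          apply Subtype.ext
          change A.map (MulAut.conj ((k₁ * k₂ : ↥K) : G)).toMonoidHom =
            (A.map (MulAut.conj (k₂ : G)).toMonoidHom).map (MulAut.conj (k₁ : G)).toMonoidHom
          rw [Subgroup.map_map]
          congr 1
          ext x
          simp [mul_assoc] }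
    have hfin : Finite 𝓐 := by
      apply Nat.finite_of_card_ne_zero
      rw [Cfsg.Agent.Lib.helper29.TV.p3_count p P hP hPna]
      omega
    have hdvd : Nat.card ↥K ∣ Nat.card 𝓐 := by
      apply @card_dvd_of_free ↥K 𝓐 _ _ act hfin
      rintro k ⟨A, hZA, hAP, hAc⟩ hkA
      have h1 : A.map (MulAut.conj (k : G)).toMonoidHom = A := congrArg Subtype.val hkA
      have := hfree (k : G) k.2 A hZA hAP hAc h1
      exact Subtype.ext this
    rw [Cfsg.Agent.Lib.helper29.TV.p3_count p P hP hPna] at hdvd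
    exact hdvd

end Cfsg.Agent.Lib.helper54.TV
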