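import Mathlib
import Cfsg.Prelude.Def_OddOrderLocal
import Cfsg.Agent.Lib.helper54.BGTypes
import Cfsg.Agent.Lib.helper54.TV_XA
import Cfsg.Agent.Lib.helper6.TV_X1
import Cfsg.Agent.Lib.helper43.TV_C1a
import Cfsg.Agent.Lib.helper43.TV_C2b
import Cfsg.Agent.Lib.helper49.TV_N
import Cfsg.Agent.Lib.helper71.TV_A
import Cfsg.Agent.Lib.helper71.TV_B1
import Cfsg.Agent.Lib.helper71.TV_B2
import Cfsg.Agent.Lib.helper71.TV_C1b
import Cfsg.Agent.S1350
import Cfsg.Agent.S1354
import Cfsg.Agent.S1454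

/-!
# Statement S1383 (Type V iff `K ≠ 1`, `U = 1`, `M_F = M_σ`): assembly

The type-P data come from `BGTypes.typeP_base` (rows S1354, S1355, S1356, S1364, S1365, S1370 as
hypotheses); the trichotomy TI / `|K| ∣ p - 1` / (`|O_p(H)| = p ^ 3`, `|K| ∣ p + 1`) is assembled
from the pieces of the S1383 split (tools/S1383_Skel.lean.txt): N (helper49), A, B1, B2, C1b
(helper71), C1a, C2b (helper43), X1 (helper6), XA (helper54; uses X2 helper49, X3 helper70,
X4 helper29, X5).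
-/

set_option autoImplicit false

namespace Cfsg.Agent.Lib.helper54.TV

open Cfsg Subgroup

variable {G : Type*} [Group G]

/-! ## Assembly -/

/-- **C2** (pure; assembly of C2b, XA, X1 and the landed S1454). -/
theorem narrow_cyclic_action [Finite G] (p : ℕ) [Fact p.Prime] (hp2 : p ≠ 2) (P K Ks : Subgroup G)
    (hP : IsPGroup p ↥P) (hPn : IsNarrow p ↥P) (hPna : ¬ IsMulCommutative ↥P)
    (hKP : K ≤ normalizer (P : Set G)) (hKc : IsCyclic ↥K) (hKodd : Odd (Nat.card K))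
    (hcop : (Nat.card K).Coprime p) (hPK : ⁅P, K⁆ = P) (hKs1 : Ks ≠ ⊥) (hKsP : Ks ≤ ⁅P, P⁆)
    (hfix : ∀ k ∈ K, k ≠ 1 → P ⊓ centralizer ({k} : Set G) = Ks)
    (hKKs : K ≤ centralizer (Ks : Set G)) :
    Nat.card K ∣ p - 1 ∨ (Nat.card P = p ^ 3 ∧ Nat.card K ∣ p + 1) := by
  have hpp : p.Prime := Fact.out
  have hP1 : P ≠ ⊥ := by
    intro h
    apply hPna
    rw [h]
    exact ⟨⟨fun a b => by
      have ha : a = 1 := Subsingleton.elim _ _
      have hb : b = 1 := Subsingleton.elim _ _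
      rw [ha, hb]⟩⟩
  -- faithfulness
  have hfaith : K ⊓ centralizer (P : Set G) = ⊥ := by
    rw [eq_bot_iff]
    rintro k ⟨hkK, hkC⟩
    rw [mem_bot]
    by_contra hk1
    have h1 : P ≤ Ks := by
      rw [← hfix k hkK hk1]
      intro x hx
      refine Subgroup.mem_inf.mpr ⟨hx, ?_⟩
      rw [mem_centralizer_iff]
      intro y hy
      rw [Set.mem_singleton_iff.mp hy]
      exact (mem_centralizer_iff.mp hkC x hx).symm
    have h2 : ⁅P, K⁆ = ⊥ := by
      rw [Subgroup.commutator_eq_bot_iff_le_centralizer]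
      intro x hx
      rw [mem_centralizer_iff]
      intro k' hk'
      exact (mem_centralizer_iff.mp (hKKs hk') x (h1 hx)).symm
    rw [hPK] at h2
    exact hP1 h2
  by_cases hr : PRankLE p 2 ↥P
  · have hcard : Nat.card P = p ^ 3 :=
      Cfsg.Agent.Lib.helper43.TV.rank2_card p hp2 P K Ks hP hr hPna hKP hKodd hcop hPK hKs1 hKsP hfix hKKs
    obtain ⟨hZc, -, hZcomm⟩ := Cfsg.Agent.Lib.helper6.TV.p3_struct p P hcard hPna
    have hKsZ : Ks ≤ P ⊓ centralizer (P : Set G) := by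
      refine hKsP.trans ?_
      rw [Subgroup.commutator_le]
      intro a ha b hb
      rw [commutatorElement_def]
      exact hZcomm a ha b hb
    have hKsZ' : Ks = P ⊓ centralizer (P : Set G) := by
      apply Subgroup.eq_of_le_of_card_ge hKsZ
      rw [hZc]
      have h1 : Nat.card Ks ∣ p := hZc ▸ Subgroup.card_dvd_of_le hKsZ
      rcases (Nat.dvd_prime hpp).mp h1 with h | h
      · exact absurd (Subgroup.card_eq_one.mp h) hKs1
      · exact h.ge
    have hX := p3_lemma p P K hcard hPna hKP hKc hKodd hcop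
      (fun k hk hk1 => by rw [hfix k hk hk1]; exact hKsZ)
      (fun k hk z hz => by
        rw [← hKsZ'] at hz
        exact (mem_centralizer_iff.mp (hKKs hk) z hz).symm)
    rcases hX with h | h
    · exact Or.inl h
    · exact Or.inr ⟨hcard, h⟩
  · left
    have hKs : Group.IsSolvable ↥K := by
      let _ : CommGroup ↥K := IsCyclic.commGroup
      exact Group.isSolvable_of_comm (fun a b => mul_comm a b)
    have h54 := (Cfsg.Agent.S1454.result p hp2 P K hP hPn hKP hKs hKodd hfaith).2.1 hr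
    obtain ⟨g, hg⟩ := hKc.exists_generator
    have hgo : orderOf (g : G) = Nat.card K := by
      rw [Subgroup.orderOf_coe]
      exact orderOf_eq_card_of_forall_mem_zpowers hg
    have := h54 (g : G) g.2 (by rw [hgo]; exact hcop)
    rwa [hgo] at this

/-- **T**: the trichotomy for `M_F = M_σ` not TI. -/
theorem typeV_trichotomy [Finite G] (hG : IsMinSimpleOddOrder G) (M : Subgroup G)
    (hM : IsCoatom M) (K U : Subgroup G) (hKU : IsSigmaDecomposition M K U) (hK1 : K ≠ ⊥)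
    (hU : U = ⊥) (hFS : fittingHallOf M = sigmaCore M)
    (hTI : ¬ IsTISubset (fittingHallOf M : Set G)) :
    ∃ p : ℕ, p.Prime ∧ p ∣ Nat.card (fittingHallOf M) ∧
      IsCyclic (pPrimeCore p ↥(fittingHallOf M)) ∧
      (Nat.card K ∣ p - 1 ∨
        (Nat.card (pCore p ↥(fittingHallOf M)) = p ^ 3 ∧ Nat.card K ∣ p + 1)) := by
  obtain ⟨hHall, -, -⟩ := Cfsg.Agent.S1350.result hG M hM
  have hnilF : Group.IsNilpotent ↥(fittingHallOf M) :=
    Cfsg.Agent.Lib.helper54.BGTypes.fittingHallOf_isNilpotent M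
  obtain ⟨p, x, hp, hpσ, hpβ, hxs, hxo, hxM⟩ := Cfsg.Agent.Lib.helper71.TV.exists_bad hG M hM hFS hTI
  have : Fact p.Prime := ⟨hp⟩
  obtain ⟨hPp, hQp, hPQ, hcomm, hxP, hNP, hNQ⟩ := Cfsg.Agent.Lib.helper49.TV.nil_split (fittingHallOf M) hnilF p
  set P : Subgroup G := (pCore p ↥(fittingHallOf M)).map (fittingHallOf M).subtype with hPdef
  set Q : Subgroup G := (pPrimeCore p ↥(fittingHallOf M)).map (fittingHallOf M).subtype with hQdef
  have hxF : x ∈ fittingHallOf M := hFS ▸ hxs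
  have hxPm : x ∈ P := hxP x hxF hxo
  have hPQ' : P ⊔ Q = sigmaCore M := hPQ.trans hFS
  have hQn : Group.IsNilpotent ↥Q :=
    Group.nilpotent_of_mulEquiv ((pPrimeCore p ↥(fittingHallOf M)).equivMapOfInjective
      (fittingHallOf M).subtype (fittingHallOf M).subtype_injective)
  have hMsM : sigmaCore M ≤ M := Cfsg.Agent.Lib.helper71.BGA.sigmaCore_le M
  have hn : M ≤ normalizer (sigmaCore M : Set G) :=
    Cfsg.Agent.Lib.helper71.BGA.le_normalizer_sigmaCore M
  have hKM : K ≤ M := hKU.hall.1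
  have hKMs : K ⊓ sigmaCore M = ⊥ := Cfsg.Agent.Lib.helper69.bgk_K_inf_sigmaCore hKU.hall hHall
  have hKcompl : IsComplIn K (sigmaCore M) M := by
    obtain ⟨hUM, hKMs', hdisj, hprod⟩ := hKU.compl
    refine ⟨hKM, hMsM, hKMs, ?_⟩
    intro m hm
    obtain ⟨u, hu, c, hc, rfl⟩ := hprod m hm
    rw [hU, mem_bot] at hu
    subst hu
    rw [sup_comm] at hc
    obtain ⟨n, hn', k, hk, rfl⟩ := Cfsg.Agent.Lib.helper1.mem_sup_normal_left (hKM.trans hn) hc
    refine ⟨k, hk, k⁻¹ * n * k, ?_, by group⟩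
    have h1 := (mem_normalizer_iff.mp (hn (hKM (K.inv_mem hk))) n).mp hn'
    simpa using h1
  have hKs : sigmaCore M ⊓ centralizer (K : Set G) ≠ ⊥ :=
    (Cfsg.Agent.S1354.result hG M hM K hKU.cyclic hKU.hall).1
  have hx1 : x ≠ 1 := by
    intro h
    rw [h, orderOf_one] at hxo
    exact hp.one_lt.ne hxo
  obtain ⟨N, hN, hE, hQE, hQa, hPna⟩ := Cfsg.Agent.Lib.helper71.TV.bad_struct hG M hM p P Q hPp hQp hQn hPQ' hcomm x hxPm
    hx1 hxM K hKcompl hKs
  have hQc : IsCyclic ↥Q := by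
    by_contra h
    exact hPna (Cfsg.Agent.Lib.helper71.TV.cent_noncyclic hG N hN (M ⊓ N) hE Q hQE hQa h p P hPp hcomm)
  have hnar : IsNarrow p ↥P := Cfsg.Agent.Lib.helper43.TV.narrow_P hG M hM p hpσ hpβ P Q hPp hQp hPQ' hcomm
  have hMnF : M ≤ normalizer (fittingHallOf M : Set G) := hFS ▸ hn
  have hKP : K ≤ normalizer (P : Set G) := (hKM.trans hMnF).trans hNP
  have hKQ : K ≤ normalizer (Q : Set G) := (hKM.trans hMnF).trans hNQ
  obtain ⟨hPK, hKsP⟩ := Cfsg.Agent.Lib.helper71.TV.comm_P hG M hM p P Q hPp hQp hPQ' hcomm hQa K hKcompl hKP hKQ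
  have hcopK : (Nat.card K).Coprime p :=
    Nat.Coprime.symm ((Nat.Prime.coprime_iff_not_dvd hp).mpr
      (fun hd => (hKU.hall.2.1 p hp hd).2.2.1 hpσ))
  have hodd : Odd (Nat.card G) := hG.1
  have hKodd : Odd (Nat.card K) := Odd.of_dvd_nat hodd (Subgroup.card_subgroup_dvd_card K)
  have hpF : p ∣ Nat.card (fittingHallOf M) := by
    rw [← hxo]
    exact Subgroup.orderOf_dvd_natCard _ hxF
  have hp2 : p ≠ 2 := by
    intro h
    have h2 : p ∣ Nat.card G := hpF.trans (Subgroup.card_subgroup_dvd_card _)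
    rw [h] at h2
    exact (Nat.not_even_iff_odd.mpr hodd) (even_iff_two_dvd.mpr h2)
  have hPMs : P ≤ sigmaCore M := hPQ' ▸ le_sup_left
  have hfix : ∀ k ∈ K, k ≠ 1 → P ⊓ centralizer ({k} : Set G) =
      sigmaCore M ⊓ centralizer (K : Set G) := by
    intro k hk hk1
    have h54 := (Cfsg.Agent.S1354.result hG M hM K hKU.cyclic hKU.hall).2 hK1 k hk hk1
    apply le_antisymm
    · rintro y ⟨hyP, hyC⟩
      have hy1 : y ∈ M ⊓ centralizer ({k} : Set G) := ⟨hMsM (hPMs hyP), hyC⟩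
      rw [h54, sup_comm] at hy1
      obtain ⟨z, hz, k', hk', rfl⟩ := Cfsg.Agent.Lib.helper1.mem_sup_normal_left
        (Cfsg.Agent.Lib.helper54.BGTypes.K_le_normalizer_Ks M K) hy1
      have hk'2 : k' ∈ K ⊓ sigmaCore M := by
        refine ⟨hk', ?_⟩
        have e : k' = z⁻¹ * (z * k') := by group
        rw [e]
        exact (sigmaCore M).mul_mem ((sigmaCore M).inv_mem hz.1) (hPMs hyP)
      rw [hKMs, mem_bot] at hk'2
      rw [hk'2, mul_one]
      exact hz
    · intro z hz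
      refine Subgroup.mem_inf.mpr ⟨(Subgroup.commutator_le_self P) (hKsP hz), ?_⟩
      rw [mem_centralizer_iff]
      intro y hy
      rw [Set.mem_singleton_iff.mp hy]
      exact mem_centralizer_iff.mp hz.2 k hk
  have hKKs : K ≤ centralizer ((sigmaCore M ⊓ centralizer (K : Set G) : Subgroup G) : Set G) := by
    intro k hk
    rw [mem_centralizer_iff]
    intro z hz
    exact (mem_centralizer_iff.mp hz.2 k hk).symm
  have hres := narrow_cyclic_action p hp2 P K (sigmaCore M ⊓ centralizer (K : Set G)) hPp hnar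
    hPna hKP hKU.cyclic hKodd hcopK hPK hKs hKsP hfix hKKs
  refine ⟨p, hp, hpF, ?_, ?_⟩
  · exact ((pPrimeCore p ↥(fittingHallOf M)).equivMapOfInjective
      (fittingHallOf M).subtype (fittingHallOf M).subtype_injective).isCyclic.mpr hQc
  · have hcardP : Nat.card (pCore p ↥(fittingHallOf M)) = Nat.card P :=
      Nat.card_congr ((pCore p ↥(fittingHallOf M)).equivMapOfInjective
        (fittingHallOf M).subtype (fittingHallOf M).subtype_injective).toEquiv
    rw [hcardP]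
    exact hres

/-- Statement S1383 from the rows S1354, S1355, S1356, S1364, S1365, S1370. -/
theorem s1383_of [Finite G] (hG : IsMinSimpleOddOrder G)
    (h54 : Cfsg.Agent.Lib.helper54.BGTypes.H54 G) (h55 : Cfsg.Agent.Lib.helper54.BGTypes.H55 G)
    (h56 : Cfsg.Agent.Lib.helper54.BGTypes.H56 G) (h64 : Cfsg.Agent.Lib.helper54.BGTypes.H64 G)
    (h65 : Cfsg.Agent.Lib.helper54.BGTypes.H65 G) (h70 : Cfsg.Agent.Lib.helper54.BGTypes.H70 G)
    (M : Subgroup G) (hM : IsCoatom M) (K U : Subgroup G) (hKU : IsSigmaDecomposition M K U) :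
    IsOfTypeV M ↔ (K ≠ ⊥ ∧ U = ⊥ ∧ fittingHallOf M = sigmaCore M) := by
  obtain ⟨hF1, hFs, hsD, hDlt, -⟩ := h55 M hM
  constructor
  · rintro ⟨W₁, U', W₂, hP, hU', -⟩
    have hK1 : K ≠ ⊥ :=
      Cfsg.Agent.Lib.helper54.BGTypes.K_ne_bot_of_typeP hG h55 hM hP hKU.hall
    have hD : ⁅M, M⁆ = U ⊔ sigmaCore M := (h65 M hM K U hKU hK1).1
    have hDF : ⁅M, M⁆ ≤ fittingHallOf M := by
      intro m hm
      obtain ⟨a, ha, b, hb, rfl⟩ := hP.U_compl.2.2.2 m hm
      rw [hU', mem_bot] at hb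
      rw [hb, mul_one]
      exact ha
    have hFS : fittingHallOf M = sigmaCore M := le_antisymm hFs (hsD.trans hDF)
    refine ⟨hK1, ?_, hFS⟩
    rw [eq_bot_iff, ← hKU.compl.2.2.1]
    have hUs : U ≤ sigmaCore M := by
      have : U ≤ ⁅M, M⁆ := hD ▸ le_sup_left
      exact (this.trans hDF).trans hFs
    exact le_inf le_rfl (hUs.trans le_sup_right)
  · rintro ⟨hK1, hU, hFS⟩
    have hD : ⁅M, M⁆ = U ⊔ sigmaCore M := (h65 M hM K U hKU hK1).1
    have hDF : ⁅M, M⁆ = fittingHallOf M := by rw [hD, hU, bot_sup_eq, hFS]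
    have hTP : IsTypePWith M K ⊥ (sigmaCore M ⊓ centralizer (K : Set G)) := by
      refine Cfsg.Agent.Lib.helper54.BGTypes.typeP_base hG h54 h55 h56 h64 h65 h70 M hM K U hKU hK1
        ⊥ ?_ ?_ ?_
      · exact Cfsg.Agent.Lib.helper54.BGTypes.isNilpotent_of_isMulCommutative
          ⟨⟨fun a b => by
            have ha : a = 1 := Subsingleton.elim _ _
            have hb : b = 1 := Subsingleton.elim _ _
            rw [ha, hb]⟩⟩
      · intro k _
        rw [mem_normalizer_iff]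
        intro g
        simp
      · refine ⟨hDF.ge, bot_le, inf_bot_eq _, ?_⟩
        intro m hm
        exact ⟨m, hDF ▸ hm, 1, Subgroup.one_mem _, (mul_one m).symm⟩
    refine ⟨K, ⊥, sigmaCore M ⊓ centralizer (K : Set G), hTP, rfl, ?_⟩
    by_cases hTI : IsTISubset (fittingHallOf M : Set G)
    · exact Or.inl hTI
    · obtain ⟨p, hp, hpd, hcyc, h⟩ := typeV_trichotomy hG M hM K U hKU hK1 hU hFS hTI
      rcases h with h | ⟨h3, h⟩
      · exact Or.inr (Or.inl ⟨p, hp, hpd, h, hcyc⟩)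
      · exact Or.inr (Or.inr ⟨p, hp, hpd, h3, h, hcyc⟩)

end Cfsg.Agent.Lib.helper54.TV
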