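import Mathlib
import Cfsg.Prelude.Def_Local
import Cfsg.Agent.Lib.helper67.Tate
import Cfsg.Agent.Lib.helper52.QSResidual
import Cfsg.Agent.Lib.helper52.Transfer
import Cfsg.Agent.Lib.helper54.SylowAux
import Cfsg.Agent.Lib.helper3.PGroupFrattini

/-!
Tools for groups whose Sylow `p`-subgroup `P` has `|P : Φ(P)| = p²`:
a relative form of Tate's theorem, cyclic quotients of `P`, and a twisted averaging lemma
(relative Maschke for a hyperplane in an elementary abelian normal subgroup).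
-/

set_option autoImplicit false
set_option linter.style.haveILetI false

namespace Cfsg.Agent.Lib.helper54

open Cfsg

universe u

theorem frattini_map_mulEquiv {A B : Type*} [Group A] [Group B] (e : A ≃* B) :
    (frattini A).map e.toMonoidHom = frattini B := by
  have := OrderIso.map_radical (MulEquiv.mapSubgroup e)
  exact this

/-- A perfect subgroup is generated by its elements of order prime to `p`. -/
theorem perfect_le_closure_coprime {G : Type*} [Group G] [Finite G] (p : ℕ) [Fact p.Prime]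
    (D : Subgroup G) (hD : Group.IsPerfect ↥D) :
    D ≤ Subgroup.closure {g : G | g ∈ D ∧ (orderOf g).Coprime p} := by
  have h1 : (⊤ : Subgroup ↥D) ≤ Cfsg.pResidual p ↥D :=
    Cfsg.Agent.Lib.helper52.le_pResidual_of_isPerfect (H := ↥D) (L := ⊤) inferInstance
  intro d hd
  have h2 : (⟨d, hd⟩ : ↥D) ∈ Cfsg.pResidual p ↥D := h1 (Subgroup.mem_top _)
  have h3 : (Cfsg.pResidual p ↥D).map D.subtype
      ≤ Subgroup.closure {g : G | g ∈ D ∧ (orderOf g).Coprime p} := by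
    unfold Cfsg.pResidual
    rw [MonoidHom.map_closure]
    apply Subgroup.closure_mono
    rintro _ ⟨g, hg, rfl⟩
    exact ⟨g.2, by rw [Subgroup.coe_subtype, Subgroup.orderOf_coe]; exact hg⟩
  exact h3 ⟨⟨d, hd⟩, h2, rfl⟩

/-- Relative Tate: if `P` normalizes `L`, `L` is generated by `p'`-elements and
`L ∩ P ≤ Φ(P)`, then `L` is a `p'`-group. -/
theorem relative_tate {G : Type u} [Group G] [Finite G] {p : ℕ} [Fact p.Prime] (P : Sylow p G)
    (L : Subgroup G) (hPL : (P : Subgroup G) ≤ Subgroup.normalizer (L : Set G))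
    (hL : L ≤ Subgroup.closure {g : G | g ∈ L ∧ (orderOf g).Coprime p})
    (h : L ⊓ (P : Subgroup G) ≤ (frattini ↥(P : Subgroup G)).map (P : Subgroup G).subtype) :
    (Nat.card ↥L).Coprime p := by
  have hLH : L ≤ L ⊔ (P : Subgroup G) := le_sup_left
  have hPH : (P : Subgroup G) ≤ L ⊔ (P : Subgroup G) := le_sup_right
  have hHn : L ⊔ (P : Subgroup G) ≤ Subgroup.normalizer (L : Set G) :=
    sup_le Subgroup.le_normalizer hPL
  haveI hLn : (L.subgroupOf (L ⊔ (P : Subgroup G))).Normal :=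
    (Subgroup.normal_subgroupOf_iff_le_normalizer hLH).mpr hHn
  have hPHc : ((P.subtype hPH : Sylow p ↥(L ⊔ (P : Subgroup G))) : Subgroup ↥(L ⊔ (P : Subgroup G)))
      = (P : Subgroup G).subgroupOf (L ⊔ (P : Subgroup G)) := Sylow.coe_subtype P hPH
  have hgen : L.subgroupOf (L ⊔ (P : Subgroup G)) ≤ Subgroup.closure
      {g : ↥(L ⊔ (P : Subgroup G)) | g ∈ L.subgroupOf (L ⊔ (P : Subgroup G)) ∧ (orderOf g).Coprime p} := by
    intro g hg
    have hg' : (g : G) ∈ Subgroup.closure {g : G | g ∈ L ∧ (orderOf g).Coprime p} := hL hg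
    have hmap : (Subgroup.closure {g : ↥(L ⊔ (P : Subgroup G)) |
          g ∈ L.subgroupOf (L ⊔ (P : Subgroup G)) ∧ (orderOf g).Coprime p}).map
          (L ⊔ (P : Subgroup G)).subtype
        = Subgroup.closure {g : G | g ∈ L ∧ (orderOf g).Coprime p} := by
      rw [MonoidHom.map_closure]
      congr 1
      ext y
      constructor
      · rintro ⟨g, ⟨hg1, hg2⟩, rfl⟩
        exact ⟨hg1, by rw [Subgroup.coe_subtype, Subgroup.orderOf_coe]; exact hg2⟩
      · rintro ⟨hy1, hy2⟩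
        exact ⟨⟨y, hLH hy1⟩, ⟨hy1, by rw [← Subgroup.orderOf_coe]; exact hy2⟩, rfl⟩
    rw [← hmap] at hg'
    obtain ⟨g', hg'1, hg'2⟩ := hg'
    have hgg : g' = g := Subtype.ext hg'2
    rwa [hgg] at hg'1
  have hfr : L.subgroupOf (L ⊔ (P : Subgroup G))
        ⊓ ((P.subtype hPH : Sylow p ↥(L ⊔ (P : Subgroup G))) : Subgroup ↥(L ⊔ (P : Subgroup G)))
      ≤ (frattini ↥((P.subtype hPH : Sylow p ↥(L ⊔ (P : Subgroup G))) :
            Subgroup ↥(L ⊔ (P : Subgroup G)))).map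
          ((P.subtype hPH : Sylow p ↥(L ⊔ (P : Subgroup G))) :
            Subgroup ↥(L ⊔ (P : Subgroup G))).subtype := by
    intro r hr
    have hrL : (r : G) ∈ L := hr.1
    have hrP' : r ∈ (P : Subgroup G).subgroupOf (L ⊔ (P : Subgroup G)) := hPHc ▸ hr.2
    have hrP : (r : G) ∈ (P : Subgroup G) := hrP'
    obtain ⟨φ, hφ, hφr⟩ := h ⟨hrL, hrP⟩
    let e : ↥((P.subtype hPH : Sylow p ↥(L ⊔ (P : Subgroup G))) : Subgroup ↥(L ⊔ (P : Subgroup G)))
        ≃* ↥(P : Subgroup G) :=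
      (MulEquiv.subgroupCongr hPHc).trans (Subgroup.subgroupOfEquivOfLe hPH)
    have he : ∀ z, ((e z : ↥(P : Subgroup G)) : G) = ((z : ↥(L ⊔ (P : Subgroup G))) : G) := by
      intro z; rfl
    have hφ' : φ ∈ (frattini ↥((P.subtype hPH : Sylow p ↥(L ⊔ (P : Subgroup G))) :
            Subgroup ↥(L ⊔ (P : Subgroup G)))).map e.toMonoidHom := by
      rw [frattini_map_mulEquiv e]; exact hφ
    obtain ⟨r'', hr''1, hr''2⟩ := hφ'
    refine ⟨r'', hr''1, ?_⟩
    apply Subtype.ext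
    have h1 := he r''
    have h2 : ((e r'' : ↥(P : Subgroup G)) : G) = (φ : G) := congrArg Subtype.val hr''2
    rw [Subgroup.coe_subtype, ← h1, h2]
    exact hφr
  have hbot := Cfsg.Agent.Lib.helper67.tate_frattini (P.subtype hPH)
    (L.subgroupOf (L ⊔ (P : Subgroup G))) hgen hfr
  have hcop := Cfsg.Agent.Lib.helper67.card_coprime_of_inf_sylow_eq_bot (P.subtype hPH)
    (L.subgroupOf (L ⊔ (P : Subgroup G))) hbot
  rwa [Nat.card_congr (Subgroup.subgroupOfEquivOfLe hLH).toEquiv] at hcop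

/-- If `|P : Φ(P)| = p²` and `R ⊴ P` is not inside `Φ(P)` then `P = ⟨x⟩ R` for some `x`. -/
theorem exists_zpowers_sup_of_not_le_frattini {G : Type*} [Group G] [Finite G] {p : ℕ}
    [Fact p.Prime] (P : Subgroup G) (hidx : (frattini ↥P).index = p ^ 2) (R : Subgroup G)
    (hRP : R ≤ P) (hR : ¬ R ≤ (frattini ↥P).map P.subtype) :
    ∃ x ∈ P, Subgroup.zpowers x ⊔ R = P := by
  have hp : p.Prime := Fact.out
  have hBne : R.subgroupOf P ⊔ frattini ↥P ≠ frattini ↥P := by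
    intro h
    apply hR
    have h1 : R.subgroupOf P ≤ frattini ↥P := h ▸ le_sup_left
    calc R = (R.subgroupOf P).map P.subtype := (Subgroup.map_subgroupOf_eq_of_le hRP).symm
      _ ≤ (frattini ↥P).map P.subtype := Subgroup.map_mono h1
  have hBdvd : (R.subgroupOf P ⊔ frattini ↥P).index ∣ p ^ 2 :=
    hidx ▸ Subgroup.index_dvd_of_le le_sup_right
  obtain ⟨m, hm2, hm⟩ := (Nat.dvd_prime_pow hp).mp hBdvd
  have hm2' : m ≠ 2 := by
    rintro rfl
    apply hBne
    symm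
    apply Subgroup.eq_of_le_of_card_ge le_sup_right
    have h1 := Subgroup.card_mul_index (R.subgroupOf P ⊔ frattini ↥P)
    have h2 := Subgroup.card_mul_index (frattini ↥P)
    rw [hm] at h1; rw [hidx] at h2
    have h3 : Nat.card ↥(R.subgroupOf P ⊔ frattini ↥P) * p ^ 2
        = Nat.card ↥(frattini ↥P) * p ^ 2 := h1.trans h2.symm
    exact (Nat.eq_of_mul_eq_mul_right (pow_pos hp.pos 2) h3).le
  have key : ∃ x : ↥P, Subgroup.zpowers x ⊔ R.subgroupOf P = ⊤ := by
    have hm01 : m = 0 ∨ m = 1 := by omega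
    rcases hm01 with rfl | rfl
    · refine ⟨1, ?_⟩
      have hBtop : R.subgroupOf P ⊔ frattini ↥P = ⊤ :=
        Subgroup.index_eq_one.mp (by simpa using hm)
      have h1 := frattini_nongenerating hBtop
      rw [h1]; simp
    · have hBtop : R.subgroupOf P ⊔ frattini ↥P ≠ ⊤ := by
        intro h
        rw [h, Subgroup.index_top, pow_one] at hm
        exact hp.one_lt.ne hm
      obtain ⟨x, -, hx⟩ := SetLike.exists_of_lt (lt_top_iff_ne_top.mpr hBtop)
      refine ⟨x, ?_⟩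
      apply frattini_nongenerating
      rw [sup_assoc]
      have hBC : R.subgroupOf P ⊔ frattini ↥P
          ≤ Subgroup.zpowers x ⊔ (R.subgroupOf P ⊔ frattini ↥P) := le_sup_right
      have hxC : x ∈ Subgroup.zpowers x ⊔ (R.subgroupOf P ⊔ frattini ↥P) :=
        (le_sup_left : Subgroup.zpowers x ≤ _) (Subgroup.mem_zpowers x)
      have hCdvd : (Subgroup.zpowers x ⊔ (R.subgroupOf P ⊔ frattini ↥P)).index ∣ p := by
        have h1 := Subgroup.index_dvd_of_le hBC
        rwa [hm, pow_one] at h1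
      rcases (Nat.dvd_prime hp).mp hCdvd with h1 | h1
      · exact Subgroup.index_eq_one.mp h1
      · exfalso
        have hBC' : R.subgroupOf P ⊔ frattini ↥P
            = Subgroup.zpowers x ⊔ (R.subgroupOf P ⊔ frattini ↥P) := by
          apply Subgroup.eq_of_le_of_card_ge hBC
          have e1 := Subgroup.card_mul_index (R.subgroupOf P ⊔ frattini ↥P)
          have e2 := Subgroup.card_mul_index
            (Subgroup.zpowers x ⊔ (R.subgroupOf P ⊔ frattini ↥P))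
          rw [hm, pow_one] at e1; rw [h1] at e2
          exact (Nat.eq_of_mul_eq_mul_right hp.pos (e2.trans e1.symm)).le
        exact hx (hBC' ▸ hxC)
  obtain ⟨x, hx⟩ := key
  refine ⟨x, x.2, ?_⟩
  have h1 := congrArg (Subgroup.map P.subtype) hx
  rw [Subgroup.map_sup, Subgroup.map_subgroupOf_eq_of_le hRP, ← MonoidHom.range_eq_map,
    Subgroup.range_subtype, MonoidHom.map_zpowers] at h1
  exact h1

theorem commutator_mem_of_zpowers_sup {G : Type*} [Group G] {P R : Subgroup G} {x : G}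
    (hx : x ∈ P) (hPR : P ≤ Subgroup.normalizer (R : Set G)) (hRP : R ≤ P)
    (h : Subgroup.zpowers x ⊔ R = P) {a b : G} (ha : a ∈ P) (hb : b ∈ P) :
    a * b * a⁻¹ * b⁻¹ ∈ R := by
  have hdec : ∀ g ∈ P, ∃ i : ℤ, ∃ r ∈ R, g = x ^ i * r := by
    intro g hg
    haveI hRn : (R.subgroupOf P).Normal :=
      (Subgroup.normal_subgroupOf_iff_le_normalizer hRP).mpr hPR
    have h1 : (⟨g, hg⟩ : ↥P) ∈ Subgroup.zpowers (⟨x, hx⟩ : ↥P) ⊔ R.subgroupOf P := by
      have h2 : Subgroup.zpowers (⟨x, hx⟩ : ↥P) ⊔ R.subgroupOf P = ⊤ := by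
        apply Subgroup.map_injective P.subtype_injective
        rw [Subgroup.map_sup, Subgroup.map_subgroupOf_eq_of_le hRP, MonoidHom.map_zpowers,
          ← MonoidHom.range_eq_map, Subgroup.range_subtype]
        exact h
      rw [h2]; exact Subgroup.mem_top _
    obtain ⟨y, hy, z, hz, hyz⟩ := Subgroup.mem_sup_of_normal_right.mp h1
    obtain ⟨i, rfl⟩ := Subgroup.mem_zpowers_iff.mp hy
    refine ⟨i, z, hz, ?_⟩
    have h3 := congrArg Subtype.val hyz
    simpa using h3.symm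
  obtain ⟨i, r, hr, rfl⟩ := hdec a ha
  obtain ⟨j, s, hs, rfl⟩ := hdec b hb
  have hconj : ∀ (k : ℤ) (t : G), t ∈ R → x ^ k * t * (x ^ k)⁻¹ ∈ R := by
    intro k t ht
    have hxk : x ^ k ∈ Subgroup.normalizer (R : Set G) := hPR (P.zpow_mem hx k)
    exact (Subgroup.mem_normalizer_iff.mp hxk t).mp ht
  have e : x ^ i * r * (x ^ j * s) * (x ^ i * r)⁻¹ * (x ^ j * s)⁻¹
      = (x ^ i * r * (x ^ i)⁻¹) * (x ^ (i + j) * (s * r⁻¹) * (x ^ (i + j))⁻¹)
        * (x ^ j * s⁻¹ * (x ^ j)⁻¹) := by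
    rw [zpow_add]; group
  rw [e]
  exact R.mul_mem (R.mul_mem (hconj i r hr) (hconj (i + j) _ (R.mul_mem hs (R.inv_mem hr))))
    (hconj j _ (R.inv_mem hs))

/-- Twisted averaging (relative Maschke for a hyperplane): `Q` an elementary abelian normal
`p`-subgroup, `M ≤ Q` normal in `G`, `Q = ⟨y⟩ M` with `y ∉ M` centralized by a subgroup `T` of
index prime to `p`.  Then some `u ∈ Q ∖ M` generates a normal subgroup of `G`. -/
theorem exists_invariant_zpowers {G : Type*} [Group G] [Finite G] {p : ℕ} [Fact p.Prime]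
    (Q M T : Subgroup G) [hQn : Q.Normal] [hMn : M.Normal] (hMQ : M ≤ Q)
    (hQab : ∀ a ∈ Q, ∀ b ∈ Q, a * b = b * a) (hQp : ∀ a ∈ Q, a ^ p = 1)
    (hT : (T.index).Coprime p) (y : G) (hyQ : y ∈ Q) (hyM : y ∉ M)
    (hyT : ∀ t ∈ T, t * y = y * t)
    (hgen : ∀ q ∈ Q, ∃ k : ℕ, ∃ m ∈ M, q = y ^ k * m) :
    ∃ u ∈ Q, u ∉ M ∧ ∀ g : G, g * u * g⁻¹ ∈ Subgroup.zpowers u := by
  classical
  have hp : p.Prime := Fact.out
  have hyp : y ^ p = 1 := hQp y hyQ
  -- powers of `y` in `M` are trivial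
  have F0 : ∀ d : ℕ, y ^ d ∈ M → y ^ d = 1 := by
    intro d hd
    by_cases hpd : p ∣ d
    · obtain ⟨c, rfl⟩ := hpd
      rw [pow_mul, hyp, one_pow]
    · exfalso
      exact hyM (Cfsg.Agent.Lib.helper52.mem_of_pow_mem_of_coprime
        ((Nat.Prime.coprime_iff_not_dvd hp).mpr hpd).symm hyp hd)
  have hyk : ∀ k : ℕ, y ^ k ∈ Q := fun k => Q.pow_mem hyQ k
  -- existence of the normalized generator of each conjugate of `⟨y⟩`
  have h1 : ∀ a : G, ∃ k : ℕ, y⁻¹ * (a * y ^ k * a⁻¹) ∈ M := by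
    intro a
    obtain ⟨j, m, hm, hj⟩ := hgen (a * y * a⁻¹) (hQn.conj_mem y hyQ a)
    have hpj : ¬ p ∣ j := by
      intro hpj
      obtain ⟨c, rfl⟩ := hpj
      rw [pow_mul, hyp, one_pow, one_mul] at hj
      apply hyM
      have h2 := hMn.conj_mem _ (hj ▸ hm) a⁻¹
      simpa [mul_assoc] using h2
    obtain ⟨k, -, hk⟩ := Nat.exists_mul_mod_eq_one_of_coprime
      ((Nat.Prime.coprime_iff_not_dvd hp).mpr hpj).symm hp.one_lt
    refine ⟨k, ?_⟩
    have h2 : a * y ^ k * a⁻¹ = y * m ^ k := by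
      rw [← conj_pow, hj]
      have hcomm : Commute (y ^ j) m := hQab _ (hyk j) m (hMQ hm)
      rw [hcomm.mul_pow, ← pow_mul, pow_eq_pow_mod (j * k) hyp, hk, pow_one]
    rw [h2, inv_mul_cancel_left]
    exact M.pow_mem hm k
  -- uniqueness
  have U : ∀ (a c : G) (k k' : ℕ), c⁻¹ * (a * y ^ k * a⁻¹) ∈ M → c⁻¹ * (a * y ^ k' * a⁻¹) ∈ M →
      a * y ^ k * a⁻¹ = a * y ^ k' * a⁻¹ := by
    have U0 : ∀ (a c : G) (k k' : ℕ), k ≤ k' → c⁻¹ * (a * y ^ k * a⁻¹) ∈ M →
        c⁻¹ * (a * y ^ k' * a⁻¹) ∈ M → a * y ^ k * a⁻¹ = a * y ^ k' * a⁻¹ := by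
      intro a c k k' hkk h2 h3
      have h4 : (c⁻¹ * (a * y ^ k * a⁻¹))⁻¹ * (c⁻¹ * (a * y ^ k' * a⁻¹)) ∈ M :=
        M.mul_mem (M.inv_mem h2) h3
      have h5 : (c⁻¹ * (a * y ^ k * a⁻¹))⁻¹ * (c⁻¹ * (a * y ^ k' * a⁻¹))
          = a * y ^ (k' - k) * a⁻¹ := by
        have h6 : y ^ k' = y ^ k * y ^ (k' - k) := by
          rw [← pow_add]; congr 1; omega
        rw [h6]; group
      rw [h5] at h4
      have h7 : y ^ (k' - k) ∈ M := by
        have h8 := hMn.conj_mem _ h4 a⁻¹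
        simpa [mul_assoc] using h8
      have h9 := F0 _ h7
      have h6 : y ^ k' = y ^ k * y ^ (k' - k) := by
        rw [← pow_add]; congr 1; omega
      rw [h6, h9, mul_one]
    intro a c k k' h2 h3
    rcases le_total k k' with hkk | hkk
    · exact U0 a c k k' hkk h2 h3
    · exact (U0 a c k' k hkk h3 h2).symm
  -- the function `w`
  set w : G → G := fun a => a * y ^ (Classical.choose (h1 a)) * a⁻¹ with hw
  have hwM : ∀ a, y⁻¹ * w a ∈ M := fun a => Classical.choose_spec (h1 a)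
  have hwQ : ∀ a, w a ∈ Q := fun a => hQn.conj_mem _ (hyk _) a
  have hwT : ∀ (a t : G), t ∈ T → w (a * t) = w a := by
    intro a t ht
    have hty : ∀ k : ℕ, t * y ^ k * t⁻¹ = y ^ k := by
      intro k
      have h2 : Commute t (y ^ k) := Commute.pow_right (hyT t ht) k
      rw [h2.eq, mul_inv_cancel_right]
    have h2 : w (a * t) = a * y ^ (Classical.choose (h1 (a * t))) * a⁻¹ := by
      have h3 : w (a * t) = a * (t * y ^ (Classical.choose (h1 (a * t))) * t⁻¹) * a⁻¹ := by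
        rw [hw]; group
      rw [h3, hty]
    rw [h2]
    exact U a y _ _ (h2 ▸ hwM (a * t)) (hwM a)
  have hwg : ∀ g : G, ∃ e : ℕ, ∀ a : G, g * w a * g⁻¹ = (w (g * a)) ^ e := by
    intro g
    obtain ⟨e, m, hm, he⟩ := hgen (g * y * g⁻¹) (hQn.conj_mem y hyQ g)
    refine ⟨e, fun a => ?_⟩
    have h2 : g * w a * g⁻¹ = (g * a) * y ^ (Classical.choose (h1 a)) * (g * a)⁻¹ := by
      rw [hw]; group
    have h3 : (w (g * a)) ^ e
        = (g * a) * y ^ (Classical.choose (h1 (g * a)) * e) * (g * a)⁻¹ := by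
      rw [hw]; simp only []; rw [conj_pow, ← pow_mul]
    rw [h2, h3]
    apply U (g * a) (y ^ e)
    · rw [← h2]
      -- g * w a * g⁻¹ = (g y g⁻¹) (g (y⁻¹ w a) g⁻¹)
      have h4 : (y ^ e)⁻¹ * (g * w a * g⁻¹) = m * (g * (y⁻¹ * w a) * g⁻¹) := by
        have h5 : g * w a * g⁻¹ = (g * y * g⁻¹) * (g * (y⁻¹ * w a) * g⁻¹) := by group
        rw [h5, he]; group
      rw [h4]
      exact M.mul_mem hm (hMn.conj_mem _ (hwM a) g)
    · rw [← h3]
      -- w (g a) = y * n'
      have h4 : w (g * a) = y * (y⁻¹ * w (g * a)) := by group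
      have hcomm : Commute y (y⁻¹ * w (g * a)) := hQab y hyQ _ (hMQ (hwM (g * a)))
      have h5 : (y ^ e)⁻¹ * (w (g * a)) ^ e = (y⁻¹ * w (g * a)) ^ e := by
        conv_lhs => rw [h4]
        rw [hcomm.mul_pow, inv_mul_cancel_left]
      rw [h5]
      exact M.pow_mem (hwM (g * a)) e
  -- the average
  letI : CommGroup ↥Q :=
    { (inferInstance : Group ↥Q) with
      mul_comm := fun a b => Subtype.ext (hQab a a.2 b b.2) }
  haveI : Fintype (G ⧸ T) := Fintype.ofFinite _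
  set u' : ↥Q := ∏ q : G ⧸ T, (⟨w q.out, hwQ _⟩ : ↥Q) with hu'
  have hout : ∀ (g : G) (q : G ⧸ T), w ((g • q).out) = w (g * q.out) := by
    intro g q
    have h2 : g • q = ((g * q.out : G) : G ⧸ T) := by
      conv_lhs => rw [← QuotientGroup.out_eq' q]
      rfl
    rw [h2]
    obtain ⟨t, ht⟩ := QuotientGroup.mk_out_eq_mul T (g * q.out)
    rw [ht]
    exact hwT _ _ t.2
  refine ⟨(u' : G), u'.2, ?_, ?_⟩
  · intro huM
    have h2 : (∏ q : G ⧸ T, ((⟨y, hyQ⟩ : ↥Q)⁻¹ * (⟨w q.out, hwQ _⟩ : ↥Q))) ∈ M.subgroupOf Q := by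
      apply Subgroup.prod_mem
      intro q _
      exact hwM q.out
    rw [Finset.prod_mul_distrib, Finset.prod_const, Finset.card_univ] at h2
    have h3 : ((⟨y, hyQ⟩ : ↥Q)⁻¹ ^ Fintype.card (G ⧸ T) * u' : ↥Q) ∈ M.subgroupOf Q := h2
    have h4 : (y⁻¹) ^ Fintype.card (G ⧸ T) * (u' : G) ∈ M := by
      have h5 : (((⟨y, hyQ⟩ : ↥Q)⁻¹ ^ Fintype.card (G ⧸ T) * u' : ↥Q) : G) ∈ M := h3
      simpa using h5
    have h5 : (y⁻¹) ^ Fintype.card (G ⧸ T) ∈ M := by
      have h6 := M.mul_mem h4 (M.inv_mem huM)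
      simpa using h6
    have h6 : y ^ Fintype.card (G ⧸ T) ∈ M := by
      have h7 := M.inv_mem h5
      simpa using h7
    have h7 : (Fintype.card (G ⧸ T)).Coprime p := by
      rw [← Nat.card_eq_fintype_card, ← Subgroup.index_eq_card]; exact hT
    exact hyM (Cfsg.Agent.Lib.helper52.mem_of_pow_mem_of_coprime h7 hyp h6)
  · intro g
    obtain ⟨e, he⟩ := hwg g
    have h2 : (MulAut.conjNormal g : MulAut ↥Q) u' = u' ^ e := by
      rw [hu', map_prod]
      have h3 : ∀ q : G ⧸ T, (MulAut.conjNormal g : MulAut ↥Q) (⟨w q.out, hwQ _⟩ : ↥Q)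
          = (⟨w ((g • q).out), hwQ _⟩ : ↥Q) ^ e := by
        intro q
        apply Subtype.ext
        rw [MulAut.conjNormal_apply, Subgroup.coe_pow]
        show g * w q.out * g⁻¹ = (w ((g • q).out)) ^ e
        rw [hout, he]
      rw [Finset.prod_congr rfl (fun q _ => h3 q), Finset.prod_pow]
      congr 1
      exact Equiv.prod_comp (MulAction.toPerm g : G ⧸ T ≃ G ⧸ T)
        (fun q => (⟨w q.out, hwQ _⟩ : ↥Q))
    have h3 : g * (u' : G) * g⁻¹ = (u' : G) ^ e := by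
      have h4 := congrArg Subtype.val h2
      rw [MulAut.conjNormal_apply, Subgroup.coe_pow] at h4
      exact h4
    rw [h3]
    exact Subgroup.pow_mem _ (Subgroup.mem_zpowers _) e

/-- Commutators of elements of a `p`-subgroup lie in the image of its Frattini subgroup. -/
theorem comm_mem_frattini_map {G : Type*} [Group G] [Finite G] {p : ℕ} [Fact p.Prime]
    (P : Subgroup G) (hP : IsPGroup p ↥P) {a b : G} (ha : a ∈ P) (hb : b ∈ P) :
    a * b * a⁻¹ * b⁻¹ ∈ (frattini ↥P).map P.subtype := by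
  refine ⟨(⟨a, ha⟩ : ↥P) * ⟨b, hb⟩ * (⟨a, ha⟩ : ↥P)⁻¹ * (⟨b, hb⟩ : ↥P)⁻¹,
    Cfsg.Agent.Lib.helper3.commutator_le_frattini hP ?_, rfl⟩
  rw [commutator_def]
  have h := Subgroup.commutator_mem_commutator (Subgroup.mem_top (⟨a, ha⟩ : ↥P))
    (Subgroup.mem_top (⟨b, hb⟩ : ↥P))
  rwa [commutatorElement_def] at h

/-- `p`-th powers of elements of a `p`-subgroup lie in the image of its Frattini subgroup. -/
theorem pow_mem_frattini_map {G : Type*} [Group G] [Finite G] {p : ℕ} [Fact p.Prime]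
    (P : Subgroup G) (hP : IsPGroup p ↥P) {a : G} (ha : a ∈ P) :
    a ^ p ∈ (frattini ↥P).map P.subtype :=
  ⟨(⟨a, ha⟩ : ↥P) ^ p, Cfsg.Agent.Lib.helper3.pow_prime_mem_frattini hP _, rfl⟩

end Cfsg.Agent.Lib.helper54
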