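import Mathlib
import Cfsg.Prelude.Def_OddOrderLocal
import Cfsg.Prelude.Def_OddOrder
import Cfsg.Agent.S1399
import Cfsg.Agent.S1400
import Cfsg.Agent.Lib.helper36.BGU3

set_option autoImplicit false
set_option linter.style.haveILetI false

/-!
# Bender–Glauberman Theorem 9.6 (the Uniqueness Theorem) from Lemma 9.5

`BG95Hyp G` is the conclusion of Lemma 9.5 (statement S1402) for all Sylow subgroups of `G`;
`u96` derives the Uniqueness Theorem (statement S1403) from it.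
-/

namespace Cfsg.Agent.Lib.helper54

open Cfsg

/-- The statement of Bender–Glauberman Lemma 9.5 (S1402), as a hypothesis on `G`. -/
def BG95Hyp (G : Type*) [Group G] : Prop :=
  ∀ (p : ℕ) [Fact p.Prime] (P : Sylow p G) (A : Subgroup G), IsSCN (P : Subgroup G) A →
    ¬ PRankLE p 2 ↥A → InUniqueMaximal A

/-- Under 9.5, every elementary abelian subgroup of order greater than `p ^ 2` is a uniqueness
subgroup. -/
theorem u96_elem {G : Type*} [Group G] [Finite G] (hG : IsMinSimpleOddOrder G) (h95 : BG95Hyp G)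
    {p : ℕ} (hp : p.Prime) {E : Subgroup G} (hE : IsElementaryAbelian p E)
    (hc : p ^ 2 < Nat.card E) : InUniqueMaximal E := by
  haveI : Fact p.Prime := ⟨hp⟩
  obtain ⟨hodd, hsimple, hnc, hsolv⟩ := id hG
  have hEp : IsPGroup p E := Cfsg.Agent.Lib.helper36.bgu_isPGroup_of_elem hE
  obtain ⟨P, hEP⟩ := hEp.exists_le_sylow
  have hpE : p ∣ Nat.card E := by
    obtain ⟨n, hn⟩ := IsPGroup.iff_card.mp hEp
    have hn0 : n ≠ 0 := by
      rintro rfl
      rw [pow_zero] at hn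
      rw [hn] at hc
      have : 1 ≤ p ^ 2 := Nat.one_le_pow _ _ hp.pos
      omega
    rw [hn]; exact dvd_pow_self p hn0
  have hp2 : p ≠ 2 := by
    rintro rfl
    have h2 : 2 ∣ Nat.card G := hpE.trans (Subgroup.card_subgroup_dvd_card E)
    exact (Nat.not_even_iff_odd.mpr hodd) (even_iff_two_dvd.mpr h2)
  have hPr : ¬ PRankLE p 2 ↥(P : Subgroup G) :=
    (Cfsg.Agent.Lib.helper28.not_pRankLE_subgroup_iff p 2 (P : Subgroup G)).mpr ⟨E, hEP, hE, hc⟩
  obtain ⟨A, hSCN, hA3, hAc⟩ := Cfsg.Agent.Lib.helper36.bgu_exists_scn3 hp2 P.isPGroup' hPr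
  have hAU : InUniqueMaximal A := h95 p P A hSCN hA3
  have hAp : IsPGroup p A := P.isPGroup'.to_le hSCN.1
  have hlt : p < Nat.card E := by
    have : p ≤ p ^ 2 := by
      calc p = p ^ 1 := (pow_one p).symm
        _ ≤ p ^ 2 := Nat.pow_le_pow_right hp.pos (by norm_num)
    omega
  have hEcent : E ≤ Subgroup.centralizer (E : Set G) := by
    intro x hx
    rw [Subgroup.mem_centralizer_iff]
    intro y hy
    exact congrArg Subtype.val (hE.1.is_comm.comm ⟨y, hy⟩ ⟨x, hx⟩)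
  refine Cfsg.Agent.S1400.result hG p A E hAp hAc hA3 hAU hEp ?_ ?_
  · exact Cfsg.Agent.Lib.helper36.bgu_not_cyclic hp hE.2 hlt
  · exact (Cfsg.Agent.Lib.helper28.not_pRankLE_subgroup_iff p 2 _).mpr ⟨E, hEcent, hE, hc⟩

/-- Bender–Glauberman Theorem 9.6 (the Uniqueness Theorem), from Lemma 9.5. -/
theorem u96 {G : Type*} [Group G] [Finite G] (hG : IsMinSimpleOddOrder G) (h95 : BG95Hyp G)
    (K : Subgroup G) (hK : K ≠ ⊤) (hK2 : ¬ RankLE 1 K)
    (hK3 : ¬ RankLE 2 K ∨ ¬ RankLE 2 (Subgroup.centralizer (K : Set G))) :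
    InUniqueMaximal K := by
  rcases hK3 with h | h
  · unfold RankLE at h
    push Not at h
    obtain ⟨p, hp, hpr⟩ := h
    obtain ⟨E, hEK, hE, hc⟩ := (Cfsg.Agent.Lib.helper28.not_pRankLE_subgroup_iff p 2 K).mp hpr
    obtain ⟨M, ⟨hM, hEM⟩, huniq⟩ := u96_elem hG h95 hp hE hc
    exact (Cfsg.Agent.Lib.helper36.bgu_of_le
      (fun M' hM' hEM' => huniq M' ⟨hM', hEM'⟩) hEK hK).2
  · unfold RankLE at h
    push Not at h
    obtain ⟨p, hp, hpr⟩ := h
    obtain ⟨E, hEC, hE, hc⟩ := (Cfsg.Agent.Lib.helper28.not_pRankLE_subgroup_iff p 2 _).mp hpr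
    have hEU := u96_elem hG h95 hp hE hc
    refine Cfsg.Agent.S1399.result hG E K hEU ?_ hK2
    intro k hk
    rw [Subgroup.mem_centralizer_iff]
    intro e he
    exact ((Subgroup.mem_centralizer_iff.mp (hEC he)) k hk).symm

end Cfsg.Agent.Lib.helper54
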