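import Cfsg.Agent.Lib.helper81.WTDefs

/-!
# S4414 piece E3 (racer copy by helper54): fixed points commute with base change
-/

set_option autoImplicit false

namespace Cfsg.Agent.Lib.helper81.WT

open scoped TensorProduct

universe u v w

/-- [E3] fixed points commute with base change (hard inclusion) -/
theorem helper54_fix_bc_le {S : Type u} [Group S] [Finite S] {E : Type v} [AddCommGroup E] [Module (ZMod 2) E] [Finite E]
    (ρ : Representation (ZMod 2) S E)
    (F : Type w) [Field F] [Finite F] [Algebra (ZMod 2) F] (T : Subgroup S) (v : F ⊗[ZMod 2] E)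
    (hv : v ∈ fixT (bc F ρ) T) :
    v ∈ Submodule.span F ((fun e : E => (1 : F) ⊗ₜ[ZMod 2] e) '' {e : E | ∀ s ∈ T, ρ s e = e}) := by
  classical
  have : Module.Finite (ZMod 2) F := Module.Finite.of_finite
  let b := Module.finBasis (ZMod 2) F
  let c : Fin (Module.finrank (ZMod 2) F) → (F ⊗[ZMod 2] E →ₗ[ZMod 2] E) := fun j =>
    (TensorProduct.lid (ZMod 2) E).toLinearMap ∘ₗ (LinearMap.rTensor E (b.coord j))
  have hc : ∀ j (a : F) (e : E), c j (a ⊗ₜ[ZMod 2] e) = (b.coord j a) • e := by
    intro j a e
    simp [c]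
  have h1 : ∀ j (s : S) (x : F ⊗[ZMod 2] E), c j (bc F ρ s x) = ρ s (c j x) := by
    intro j s x
    induction x using TensorProduct.induction_on with
    | zero => simp
    | tmul a e => rw [bc_tmul, hc, hc, map_smul]
    | add x y hx hy => rw [map_add, map_add, hx, hy, map_add, map_add]
  have h2 : ∀ x : F ⊗[ZMod 2] E, x = ∑ j, (b j) ⊗ₜ[ZMod 2] (c j x) := by
    intro x
    induction x using TensorProduct.induction_on with
    | zero => simp
    | tmul a e =>
      simp only [hc]
      conv_lhs => rw [← b.sum_repr a]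
      rw [TensorProduct.sum_tmul]
      refine Finset.sum_congr rfl fun j _ => ?_
      rw [TensorProduct.smul_tmul]
      rfl
    | add x y hx hy =>
      conv_lhs => rw [hx, hy]
      rw [← Finset.sum_add_distrib]
      refine Finset.sum_congr rfl fun j _ => ?_
      rw [map_add, TensorProduct.tmul_add]
  rw [h2 v]
  refine Submodule.sum_mem _ fun j _ => ?_
  have hj : (b j) ⊗ₜ[ZMod 2] (c j v) = (b j) • ((1 : F) ⊗ₜ[ZMod 2] (c j v)) := by
    rw [TensorProduct.smul_tmul', smul_eq_mul, mul_one]
  rw [hj]
  refine Submodule.smul_mem _ _ (Submodule.subset_span ⟨c j v, ?_, rfl⟩)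
  intro s hs
  rw [← h1, hv s hs]

end Cfsg.Agent.Lib.helper81.WT
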